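import Cfsg.Agent.H97.U5U
import Cfsg.Agent.H96.VbDefs

/-!
Saturated fusion systems over the Sylow `p`-subgroup `U T` of `PSU₅(q)`: critical subgroups, automizer
data and the interfaces between the parts of the proof.
-/

set_option autoImplicit false

namespace Cfsg.Agent.H97.U5

open Cfsg.Agent.H97 Cfsg.Agent.H96.VB Subgroup
open scoped commutatorElement

universe u

section general

variable {G : Type u} [Group G] (p : ℕ)

/-- `Ω₁(Z(P))` -/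
def zp (P : Subgroup G) : Subgroup G where
  carrier := {g | g ∈ P ∧ g ^ p = 1 ∧ ∀ x ∈ P, g * x = x * g}
  one_mem' := ⟨one_mem _, one_pow _, fun _ _ => by simp⟩
  mul_mem' := fun {a b} ha hb => ⟨mul_mem ha.1 hb.1, by
    rw [Commute.mul_pow (ha.2.2 b hb.1), ha.2.1, hb.2.1, mul_one],
    fun x hx => by rw [mul_assoc, hb.2.2 x hx, ← mul_assoc, ha.2.2 x hx, mul_assoc]⟩
  inv_mem' := fun {a} ha => ⟨inv_mem ha.1, by rw [inv_pow, ha.2.1, inv_one],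
    fun x hx => (Commute.inv_left (ha.2.2 x hx) :)⟩

/-- The properties of an essential subgroup `P` of a saturated fusion system over `G`. -/
structure Cp (P : Subgroup G) : Prop where
  ne : P ≠ ⊤
  chain : ∀ L : List (Subgroup G), (∀ X ∈ L, Ch P X) → ∀ g, St g P L → g ∈ P
  off : ∀ (B : Subgroup G) (b : G → G), ¬ B ≤ P → (∀ c ∈ B, ∀ x ∈ P, ⁅c, x⁆ ∈ zp p P) →
    (∀ c ∈ B, ∀ d ∈ B, ∀ x ∈ zp p P, ⁅d, ⁅c, x⁆⁆ = 1) → (∀ x ∈ zp p P, b x ∈ B) →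
    (∀ x ∈ zp p P, ∀ y ∈ zp p P, (b x)⁻¹ * b y ∈ P → ∀ c ∈ B, ⁅c, x⁻¹ * y⁆ = 1) →
    ∀ g, (∀ x ∈ P, ⁅g, x⁆ ∈ P) → ∃ c ∈ B, c⁻¹ * g ∈ P

/-- The automizer `A` of the normal subgroup `N`: the automorphisms induced by `G` form a Sylow
`p`-subgroup with trivial intersections modulo `N`. -/
structure LA (N : Subgroup G) (A : Subgroup (MulAut N)) : Prop where
  cj : ∀ (s : G) (α : MulAut N), (∀ x ∈ N, ext α x = s * x * s⁻¹) → α ∈ A
  two : ∀ M : Subgroup (MulAut N), M ≤ A → A ≤ normalizer (M : Set (MulAut N)) → IsPGroup p M →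
    ∀ α ∈ M, ∃ s : G, ∀ x ∈ N, ext α x = s * x * s⁻¹
  syl : ∀ M : Subgroup (MulAut N), M ≤ A → IsPGroup p M →
    (∀ (s : G) (α : MulAut N), (∀ x ∈ N, ext α x = s * x * s⁻¹) → α ∈ M) →
    ∀ α ∈ M, ∃ s : G, ∀ x ∈ N, ext α x = s * x * s⁻¹
  ti : ∀ α ∈ A, ∀ s ∉ N, ∀ s' : G, (∀ x ∈ N, ext α (s * x * s⁻¹) = s' * ext α x * s'⁻¹) → Nm α

/-- Restriction and extension between the automizer `C` of `G` and the automizer `A` of `N`. -/
structure LB (C : Subgroup (MulAut G)) (N : Subgroup G) (A : Subgroup (MulAut N)) : Prop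
    extends LA p N A where
  res : ∀ β ∈ C, ∀ α : MulAut N, (∀ x ∈ N, ext α x = β x) → α ∈ A
  ext : ∀ α ∈ A, Nm α → ∃ β ∈ C, ∀ x ∈ N, ext α x = β x

variable {p} {P X : Subgroup G} {A B : Set G}

theorem mem_zp {g : G} : g ∈ zp p P ↔ g ∈ P ∧ g ^ p = 1 ∧ ∀ x ∈ P, g * x = x * g := Iff.rfl

theorem ext_map_pow (α : MulAut P) {x : G} (hx : x ∈ P) (n : ℕ) : ext α (x ^ n) = ext α x ^ n := by
  induction n with
  | zero => rw [pow_zero, pow_zero, ext_map_one]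
  | succ n ih => rw [pow_succ, pow_succ, ext_map_mul α (pow_mem hx n) hx, ih]

/-- elements with `n`-th power in `A` -/
theorem ivs_pow (h : IvS P A) (n : ℕ) : IvS P {g | g ^ n ∈ A} := fun α x hx e => by
  have := h α _ (pow_mem hx n) e
  rwa [ext_map_pow α hx] at this

theorem ch_zp : Ch P (zp p P) :=
  Ch.of_iff ((ivs_pow IvS.one p).inter IvS.one.commP) fun _ => and_congr_right fun _ =>
    and_congr_right fun _ => forall₂_congr fun _ _ => commutatorElement_eq_one_iff_mul_comm.symm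

/-- the images of `A ∩ P` under the automorphisms of `P` -/
theorem ivs_orb (A : Set G) : IvS P {g | ∃ γ : MulAut P, ∃ a ∈ P, a ∈ A ∧ g = ext γ a} :=
  fun α _ _ ⟨γ, a, ha, hA, e⟩ => ⟨α * γ, a, ha, hA, by rw [e, ext_mul]⟩

/-- elements whose commutators miss an element of `A ∩ P` -/
theorem ivs_miss (h : IvS P A) : IvS P {g | ∃ z ∈ P, z ∈ A ∧ ∀ x ∈ P, ⁅g, x⁆ ≠ z} :=
  fun α g hg ⟨z, hz, hA, e⟩ => ⟨ext α z, ext_mem α hz, h α z hz hA, fun x hx k => by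
    refine e _ (ext_mem α⁻¹ hx) ?_
    have := congrArg (ext α⁻¹) k
    rwa [ext_map_comm α⁻¹ (ext_mem α hg) hx, ext_inv_ext, ext_inv_ext] at this⟩

/-- the centre `P ⊓ C(P)` -/
theorem ch_center : Ch P (P ⊓ centralizer (P : Set G)) := Ch.self.cent

theorem Cp.cent (h : Cp p P) {g : G} (e : ∀ x ∈ P, g * x = x * g) : g ∈ P :=
  h.chain [] (by simp) g fun x hx => commutatorElement_eq_one_iff_mul_comm.2 (e x hx)

theorem Cp.chain1 (h : Cp p P) (hX : Ch P X) {g : G} (h1 : ∀ x ∈ P, ⁅g, x⁆ ∈ X)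
    (h2 : ∀ x ∈ X, ⁅g, x⁆ = 1) : g ∈ P :=
  h.chain [X] (by simpa using hX) g ⟨h1, h2⟩

theorem Cp.chain2 (h : Cp p P) {Y : Subgroup G} (hX : Ch P X) (hY : Ch P Y) {g : G}
    (h1 : ∀ x ∈ P, ⁅g, x⁆ ∈ X) (h2 : ∀ x ∈ X, ⁅g, x⁆ ∈ Y) (h3 : ∀ x ∈ Y, ⁅g, x⁆ = 1) : g ∈ P :=
  h.chain [X, Y] (by simp [hX, hY]) g ⟨h1, h2, h3⟩

variable (p)

/-- The offender lemma. -/
def OffStmt : Prop := ∀ (Γ : Type u) [Group Γ] [Finite Γ] (M : Type u) [CommGroup M] [Finite M]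
  (ρ : Γ →* MulAut M) (H N A S : Subgroup Γ) (C : Subgroup M), IsPGroup p M →
  IsStronglyPEmbedded p H → N.Normal → (∀ g ∈ N, ρ g = 1 → g = 1) → A ≤ N → A ≠ ⊥ → IsPGroup p S →
  A ≤ S → S ≤ H → (∀ x, x ∈ C ↔ ∀ a ∈ A, ρ a x = x) → (∀ a ∈ A, ∀ x, x⁻¹ * ρ a x ∈ C) →
  C.index ≤ Nat.card A → S ≤ A

/-- Essential subgroups are critical. -/
def EssStmt : Prop := ∀ (G : Type u) [Group G] [Finite G], IsPGroup p G →
  ∀ F : FusionSystem (⊤ : Subgroup G), F.IsSaturated p → ∀ P, F.IsEssential p P → Cp p P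

end general

variable {K : Type u} [Field K] (T : Hm K) (p : ℕ)

/-! ### Part A: the essential subgroups -/

def A1Stmt : Prop := ∀ P : Subgroup (U T), Cp p P → P ≤ R T → P = R T

def A2Stmt : Prop := ∀ P : Subgroup (U T), Cp p P → ¬ P ≤ R T → Z2 T ≤ P

def FinStmt : Prop := ∀ P : Subgroup (U T), Cp p P → ¬ P ≤ R T → Z3 T ≤ P →
  Ch P (Z2 T) ∨ Ch P (V T) → False

def A3Stmt : Prop := ∀ P : Subgroup (U T), Cp p P → ¬ P ≤ R T → Z2 T ≤ P → P ≤ QV T → P = Q T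

def A4Stmt : Prop := ∀ P : Subgroup (U T), Cp p P → ¬ P ≤ R T → Z2 T ≤ P → ¬ P ≤ QV T → Z3 T ≤ P

def A5Stmt : Prop := ∀ P : Subgroup (U T), ¬ P ≤ R T → Z3 T ≤ P → ¬ P ≤ QV T →
  Ch P (Z2 T) ∨ Ch P (V T)

/-! ### The space `W = Q / Z` -/

/-- `W = Q / Z` with the coordinates `(t, v₁, m)` -/
abbrev W (K : Type u) : Type u := K × K × K

variable {T}

/-- the class in `W` -/
def wv (g : U T) : W K := (g.t, g.v1, g.m)

variable (T)

/-- the hermitian form -/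
def hm (x y : W K) : K := x.2.1 * T.σ y.2.1 + x.1 * T.σ y.2.2 + x.2.2 * T.σ y.1

/-- orthogonality with respect to the commutator form -/
def Perp (x y : W K) : Prop := hm T x y = hm T y x

/-- the action of `y2 a b` -/
def uW (a b : K) : Equiv.Perm (W K) where
  toFun x := (x.1, x.2.1 - a * x.1, x.2.2 + T.σ a * x.2.1 + T.σ b * x.1)
  invFun x := (x.1, x.2.1 + a * x.1, x.2.2 - T.σ a * (x.2.1 + a * x.1) - T.σ b * x.1)
  left_inv x := by ext <;> simp; ring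
  right_inv x := by ext <;> simp; ring

theorem uW_apply (a b : K) (x : W K) :
    uW T a b x = (x.1, x.2.1 - a * x.1, x.2.2 + T.σ a * x.2.1 + T.σ b * x.1) := rfl

theorem uW_mul (a b c d : K) : uW T a b * uW T c d = uW T (a + c) (b + d - a * T.σ c) :=
  Equiv.ext fun x => by
    simp only [Equiv.Perm.mul_apply, uW_apply, map_add, map_sub, map_mul, T.inv]
    ext <;> simp only <;> ring

theorem uW_zero : uW T 0 0 = 1 := Equiv.ext fun x => by simp [uW_apply]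

/-- the Sylow subgroup of `SU₃(q)` -/
def AW : Subgroup (Equiv.Perm (W K)) where
  carrier := {g | ∃ a b, b + T.σ b + a * T.σ a = 0 ∧ g = uW T a b}
  one_mem' := ⟨0, 0, by simp, (uW_zero T).symm⟩
  mul_mem' := by
    rintro _ _ ⟨a, b, h, rfl⟩ ⟨c, d, e, rfl⟩
    refine ⟨_, _, ?_, uW_mul T a b c d⟩
    simp only [map_add, map_sub, map_mul, T.inv]; linear_combination h + e
  inv_mem' := by
    rintro _ ⟨a, b, h, rfl⟩
    refine ⟨-a, T.σ b, by simp only [map_neg, T.inv]; linear_combination h, ?_⟩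
    refine inv_eq_of_mul_eq_one_right ?_
    rw [uW_mul, ← uW_zero T, map_neg]
    congr 1
    · ring
    · linear_combination h

theorem mem_AW {g : Equiv.Perm (W K)} :
    g ∈ AW T ↔ ∃ a b, b + T.σ b + a * T.σ a = 0 ∧ g = uW T a b := Iff.rfl

/-- the action of `U T` on `W` -/
def piW : U T →* Equiv.Perm (W K) := MonoidHom.mk' (fun s => uW T s.v2 s.d) fun _ _ => (uW_mul T ..).symm

theorem piW_apply (s : U T) : piW T s = uW T s.v2 s.d := rfl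

theorem range_piW : (piW T).range = AW T := le_antisymm
  (by rintro _ ⟨s, rfl⟩; exact ⟨_, _, s.hd, rfl⟩) (by rintro _ ⟨a, b, h, rfl⟩; exact ⟨y2 T a b h, rfl⟩)

theorem isPGroup_AW [CharP K p] : IsPGroup p (AW T) :=
  range_piW T ▸ (isPGroup_U p).of_surjective _ (piW T).rangeRestrict_surjective

theorem uW_eq_one {a b : K} : uW T a b = 1 ↔ a = 0 ∧ b = 0 := by
  refine ⟨fun h => ?_, by rintro ⟨rfl, rfl⟩; exact uW_zero T⟩
  simpa [uW_apply] using Equiv.congr_fun h (1, 0, 0)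

theorem fix_AW {w : W K} : (∀ u ∈ AW T, u w = w) ↔ w.1 = 0 ∧ w.2.1 = 0 := by
  refine ⟨fun h => ?_, by rintro ⟨h1, h2⟩ _ ⟨a, b, -, rfl⟩; ext <;> simp [uW_apply, h1, h2]⟩
  obtain ⟨b, hb⟩ := T.exists_tr (c := -1) (by simp)
  have := h _ ⟨1, b, by simp [hb], rfl⟩
  have h1 : w.1 = 0 := by simpa [uW_apply] using congrArg (fun x => x.2.1) this
  exact ⟨h1, by simpa [uW_apply, h1] using congrArg (fun x => x.2.2) this⟩

theorem nor_AW {g : Equiv.Perm (W K)} (h : g ∈ normalizer (AW T : Set (Equiv.Perm (W K)))) (x : K) :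
    ∃ y, g (0, 0, x) = (0, 0, y) := by
  have := (fix_AW T (w := g (0, 0, x))).1 fun u hu => by
    have e := (fix_AW T (w := (0, 0, x))).2 ⟨rfl, rfl⟩ _ ((mem_normalizer_iff''.1 h u).1 hu)
    simpa using congrArg g e
  exact ⟨_, Prod.ext this.1 (Prod.ext this.2 rfl)⟩

/-- the reflection -/
def nW (K : Type u) [Field K] : Equiv.Perm (W K) where
  toFun x := (x.2.2, -x.2.1, x.1)
  invFun x := (x.2.2, -x.2.1, x.1)
  left_inv x := by simp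
  right_inv x := by simp

theorem nW_apply (x : W K) : nW K x = (x.2.2, -x.2.1, x.1) := rfl

/-- the torus of `SU₃(q)` -/
def hW (l : Kˣ) : Equiv.Perm (W K) where
  toFun x := ((l : K)⁻¹ * x.1, l * (T.σ l)⁻¹ * x.2.1, T.σ l * x.2.2)
  invFun x := (l * x.1, (l : K)⁻¹ * T.σ l * x.2.1, (T.σ l)⁻¹ * x.2.2)
  left_inv x := by
    have := T.σ_ne_zero l.ne_zero
    ext <;> simp only <;> field_simp
  right_inv x := by
    have := T.σ_ne_zero l.ne_zero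
    ext <;> simp only <;> field_simp

theorem hW_apply (l : Kˣ) (x : W K) :
    hW T l x = ((l : K)⁻¹ * x.1, l * (T.σ l)⁻¹ * x.2.1, T.σ l * x.2.2) := rfl

/-- additive maps centralizing `AW` -/
def tauW (s r c : K) : Equiv.Perm (W K) where
  toFun x := (x.1, x.2.1 + s * T.σ x.1, x.2.2 - s * T.σ x.2.1 + r * T.σ x.1 + c * x.1)
  invFun x := (x.1, x.2.1 - s * T.σ x.1,
    x.2.2 + s * T.σ (x.2.1 - s * T.σ x.1) - r * T.σ x.1 - c * x.1)
  left_inv x := by ext <;> simp; ring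
  right_inv x := by ext <;> simp; ring

theorem tauW_apply (s r c : K) (x : W K) : tauW T s r c x =
    (x.1, x.2.1 + s * T.σ x.1, x.2.2 - s * T.σ x.2.1 + r * T.σ x.1 + c * x.1) := rfl

variable {T}

theorem wv_mul {g k : U T} (hk : k ∈ Q T) : wv (g * k) = wv g + wv k := by
  simp [wv, hk.1, hk.2]

theorem wv_conj (s : U T) {g : U T} (hg : g ∈ Q T) : wv (s * g * s⁻¹) = uW T s.v2 s.d (wv g) := by
  obtain ⟨h1, h2, h3⟩ := conj_Q s hg
  simp only [wv, uW_apply, h1, h2, h3]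

theorem wv_wQ (g : U T) : wv (wQ g) = nW K (wv g) := rfl

theorem wv_eta (l : Kˣ) (g : U T) : wv (tor T (eta T l) g) = hW T l (wv g) := by
  have := T.σ_ne_zero l.ne_zero
  simp only [wv, hW_apply, eta, tor_t, tor_v1, tor_m, Units.val_mul, Units.val_inv_eq_inv_val, coe_su,
    map_mul, map_inv₀, T.inv]
  ext <;> simp only <;> field_simp

theorem wv_surj (w : W K) : ∃ g ∈ Q T, wv g = w :=
  ⟨rv T w.2.1 0 * xm T w.2.2 * xt T w.1, by constructor <;> simp, by simp [wv]⟩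

theorem wv_eq_zero {g : U T} (hg : g ∈ Q T) : wv g = 0 ↔ g ∈ Z T := by
  simp only [wv, Prod.mk_eq_zero, mem_Z, hg.1, hg.2]; tauto

theorem perp_wv {g k : U T} (hg : g ∈ Q T) (hk : k ∈ Q T) : Perp T (wv g) (wv k) ↔ ⁅g, k⁆ = 1 := by
  obtain ⟨h1, h2⟩ := cm_QQ hg hk
  refine ⟨fun h => eq_one_of_Z h1 ?_, fun h => ?_⟩
  · rw [h2]; exact sub_eq_zero.2 h.symm
  · rw [h] at h2; exact (sub_eq_zero.1 h2.symm).symm

theorem Perp.symm {x y : W K} (h : Perp T x y) : Perp T y x := Eq.symm h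

theorem Perp.add {x y z : W K} (h : Perp T x z) (e : Perp T y z) : Perp T (x + y) z := by
  simp only [Perp, hm, Prod.fst_add, Prod.snd_add, map_add] at *
  linear_combination h + e

theorem Perp.smul {x z : W K} {l : K} (hl : T.σ l = l) (h : Perp T x z) : Perp T (l • x) z := by
  simp only [Perp, hm, Prod.smul_fst, Prod.smul_snd, smul_eq_mul, map_mul, hl] at *
  linear_combination l * h

theorem perp_P {w : W K} : (∀ x, Perp T w (0, 0, x)) ↔ w.1 = 0 := by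
  refine ⟨fun h => T.σ_eq_zero.1 (T.eq_zero_of_skew fun x => ?_), fun h x => by simp [Perp, hm, h]⟩
  have := h x
  simp only [Perp, hm, map_zero] at this
  rw [T.inv]; linear_combination -this

theorem perp_perp_P {w : W K} : (∀ x y, Perp T w (0, y, x)) ↔ w.1 = 0 ∧ w.2.1 = 0 := by
  refine ⟨fun h => ⟨perp_P.1 fun x => h x 0, T.σ_eq_zero.1 (T.eq_zero_of_skew fun x => ?_)⟩,
    fun h x y => by simp [Perp, hm, h.1, h.2]⟩
  have := h 0 x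
  simp only [Perp, hm, map_zero] at this
  rw [T.inv]; linear_combination -this

theorem hm_uW {a b : K} (h : b + T.σ b + a * T.σ a = 0) (x y : W K) :
    hm T (uW T a b x) (uW T a b y) = hm T x y := by
  simp only [hm, uW_apply, map_add, map_sub, map_mul, T.inv]
  linear_combination x.1 * T.σ y.1 * h

theorem hm_nW (x y : W K) : hm T (nW K x) (nW K y) = hm T x y := by
  simp only [hm, nW_apply, map_neg]; ring

variable (T)

/-- The image in `W` of the automizer of `Q`. -/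
structure WG (Γ : Subgroup (Equiv.Perm (W K))) : Prop where
  le : AW T ≤ Γ
  add : ∀ g ∈ Γ, ∀ x y, g (x + y) = g x + g y
  perp : ∀ g ∈ Γ, ∀ x y, Perp T x y → Perp T (g x) (g y)
  syl : ∀ M : Subgroup (Equiv.Perm (W K)), M ≤ Γ → IsPGroup p M → AW T ≤ M → M ≤ AW T
  ti : ∀ g ∈ Γ, ∀ u ∈ AW T, u ≠ 1 → g * u * g⁻¹ ∈ AW T → g ∈ normalizer (AW T : Set (Equiv.Perm (W K)))

/-- The images of the point `P = (0, 0, *)` are opposite to `P`. -/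
def Opp (Γ : Subgroup (Equiv.Perm (W K))) : Prop :=
  ∀ g ∈ Γ, g ∉ normalizer (AW T : Set (Equiv.Perm (W K))) → ∀ x, x ≠ 0 → (g (0, 0, x)).1 ≠ 0

def W1Stmt : Prop := ∀ Γ, WG T p Γ → Opp T Γ

def W2Stmt : Prop := ∀ Γ, WG T p Γ → Opp T Γ →
  (∃ g ∈ Γ, g ∉ normalizer (AW T : Set (Equiv.Perm (W K)))) →
  ∃ s r c : K, 2 * s = 0 ∧ c + T.σ c = s * T.σ s ∧
    ∀ g ∈ Γ, g ∉ normalizer (AW T : Set (Equiv.Perm (W K))) →
      ∃ u ∈ AW T, ∀ w, (∃ x, w = g (0, 0, x)) ↔ ∃ y, w = u (tauW T s r c (y, 0, 0))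

def W3Stmt : Prop := ∀ Γ : Subgroup (Equiv.Perm (W K)), AW T ≤ Γ →
  (∀ g ∈ Γ, ∀ x y, g (x + y) = g x + g y) → (∀ g ∈ Γ, ∀ x y, Perp T x y → Perp T (g x) (g y)) →
  (∀ g ∈ Γ, (∀ x, ∃ y, g (0, 0, x) = (0, 0, y)) ∨
    ∃ u ∈ AW T, ∀ w, (∃ x, w = g (0, 0, x)) ↔ ∃ y, w = u (y, 0, 0)) →
  (∃ g ∈ Γ, ∃ x, (g (0, 0, x)).1 ≠ 0) → nW K ∈ Γ ∧ ∀ l, hW T l ∈ Γ

def WStmt : Prop := ∀ Γ, WG T p Γ →
  (∀ g ∈ Γ, g ∈ normalizer (AW T : Set (Equiv.Perm (W K))) →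
    ∃ φ : RingAut K, ∀ (c : K) (w : W K), g (c • w) = φ c • g w) →
  (nW K ∈ Γ → ∀ g ∈ Γ, g ∈ normalizer (AW T : Set (Equiv.Perm (W K))) ∨
    ∃ u ∈ AW T, nW K * u * g ∈ normalizer (AW T : Set (Equiv.Perm (W K)))) ∧
  ((∃ g ∈ Γ, g ∉ normalizer (AW T : Set (Equiv.Perm (W K)))) → nW K ∈ Γ ∧ ∀ l, hW T l ∈ Γ)

/-! ### Part B: the automizers -/

def ChSStmt : Prop := ∀ β : MulAut (U T), (∀ g ∈ Q T, β g ∈ Q T) ∧ (∀ g ∈ R T, β g ∈ R T) ∧
  (∀ g ∈ Z3 T, β g ∈ Z3 T) ∧ (∀ g ∈ V T, β g ∈ V T) ∧ (∀ g ∈ Z2 T, β g ∈ Z2 T) ∧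
  ∀ g ∈ Z T, β g ∈ Z T

/-- Automorphisms of `R`. -/
structure AR1 : Prop where
  chV : Ch (R T) (V T)
  sem : ∀ α : MulAut (R T), ∃ φ : RingAut K, ∃ a b c d : K, a * d ≠ b * c ∧ ∀ x ∈ R T,
    (ext α x).v1 = a * φ x.v1 + b * φ x.v2 ∧ (ext α x).v2 = c * φ x.v1 + d * φ x.v2
  ker : ∀ α : MulAut (R T), (∀ x ∈ R T, (ext α x).v1 = x.v1 ∧ (ext α x).v2 = x.v2) →
    (∀ v ∈ V T, ext α v = v) ∧ α ^ p = 1

/-- Automorphisms of `Q`. -/
structure AQ1 : Prop where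
  chZ : Ch (Q T) (Z T)
  rho : ∃ ρ : MulAut (Q T) →* Equiv.Perm (W K), (∀ α, ∀ x ∈ Q T, ρ α (wv x) = wv (ext α x)) ∧
    (∀ α x y, ρ α (x + y) = ρ α x + ρ α y) ∧ ∀ α x y, Perp T x y → Perp T (ρ α x) (ρ α y)
  ker : ∀ α : MulAut (Q T), (∀ x ∈ Q T, wv (ext α x) = wv x) → (∀ z ∈ Z T, ext α z = z) ∧ α ^ p = 1

def ASStmt : Prop := ∀ C : Subgroup (MulAut (U T)), (∀ s, MulAut.conj s ∈ C) →
  ¬ p ∣ (MulAut.conj : U T →* MulAut (U T)).range.relIndex C →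
  ∃ (β : MulAut (U T)) (L : Subgroup (MulAut (U T))), (∀ l ∈ L, ∃ c φ, l = tor T c * fld T φ) ∧
    ¬ p ∣ Nat.card L ∧ ∀ γ, β * γ * β⁻¹ ∈ C ↔ ∃ s, ∃ l ∈ L, γ = MulAut.conj s * l

variable {T}

/-- `n` acts on `R / V` as `wR`. -/
def SwR (n : MulAut (R T)) : Prop := ∀ x ∈ R T, (ext n x).v1 = x.v2 ∧ (ext n x).v2 = -x.v1

/-- `n` acts on `Q / Z` as `wQ`. -/
def SwQ (n : MulAut (Q T)) : Prop := ∀ x ∈ Q T, wv (ext n x) = nW K (wv x)

/-- The members of `A` acting trivially on `R / V` are inner. -/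
def KerR (A : Subgroup (MulAut (R T))) : Prop :=
  ∀ α ∈ A, (∀ x ∈ R T, (ext α x).v1 = x.v1 ∧ (ext α x).v2 = x.v2) →
    ∃ e ∈ R T, ∀ x ∈ R T, ext α x = e * x * e⁻¹

/-- The members of `A` acting trivially on `Q / Z` are inner. -/
def KerQ (A : Subgroup (MulAut (Q T))) : Prop :=
  ∀ α ∈ A, (∀ x ∈ Q T, wv (ext α x) = wv x) → ∃ e ∈ Q T, ∀ x ∈ Q T, ext α x = e * x * e⁻¹

variable (T)

/-- `L` contains the torus of `PSU₅(q)`. -/
def TS (L : Subgroup (MulAut (U T))) : Prop := (∀ c : Kˣ, tor T (c, c⁻¹) ∈ L) ∧ ∀ l, tor T (eta T l) ∈ L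

def ARStmt : Prop := ∀ A : Subgroup (MulAut (R T)), LA p (R T) A → KerR A ∧
  (∀ n ∈ A, SwR n → ∀ α ∈ A, Nm α ∨
    ∃ (s : U T) (β : MulAut (R T)), (∀ x ∈ R T, ext β x = s * x * s⁻¹) ∧ Nm (n * β * α)) ∧
  ((∃ α ∈ A, ¬ Nm α) → (∃ n ∈ A, SwR n) ∧ ∀ c : Kˣ, ∃ δ ∈ A, Nm δ ∧ ∀ x ∈ R T,
    (ext δ x).v1 = c * x.v1 ∧ (ext δ x).v2 = (c : K)⁻¹ * x.v2)

def AQStmt : Prop := ∀ (C : Subgroup (MulAut (U T))) (A : Subgroup (MulAut (Q T))), LB p C (Q T) A →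
  (∀ β ∈ C, ∃ s c φ, β = MulAut.conj s * (tor T c * fld T φ)) → KerQ A ∧
  (∀ n ∈ A, SwQ n → ∀ α ∈ A, Nm α ∨
    ∃ (s : U T) (β : MulAut (Q T)), (∀ x ∈ Q T, ext β x = s * x * s⁻¹) ∧ Nm (n * β * α)) ∧
  ((∃ α ∈ A, ¬ Nm α) → (∃ n ∈ A, SwQ n) ∧ ∀ l : Kˣ, ∃ δ ∈ A, Nm δ ∧ ∀ x ∈ Q T,
    wv (ext δ x) = hW T l (wv x))

/-- The torus lies in the automizer of `U T`. -/
def RigTStmt : Prop := ∀ (C L : Subgroup (MulAut (U T))) (AQ : Subgroup (MulAut (Q T)))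
  (AR : Subgroup (MulAut (R T))), (∀ l ∈ L, ∃ c φ, l = tor T c * fld T φ) →
  (∀ γ, γ ∈ C ↔ ∃ s, ∃ l ∈ L, γ = MulAut.conj s * l) → LB p C (Q T) AQ → LB p C (R T) AR →
  (∀ l : Kˣ, ∃ δ ∈ AQ, Nm δ ∧ ∀ x ∈ Q T, wv (ext δ x) = hW T l (wv x)) →
  (∀ c : Kˣ, ∃ δ ∈ AR, Nm δ ∧ ∀ x ∈ R T, (ext δ x).v1 = c * x.v1 ∧ (ext δ x).v2 = (c : K)⁻¹ * x.v2) →
  TS T L

def RigQStmt : Prop := ∀ (C : Subgroup (MulAut (U T))) (A : Subgroup (MulAut (Q T))), LB p C (Q T) A →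
  KerQ A → TS T C → (∃ n ∈ A, SwQ n) → ∃ n ∈ A, ∀ x ∈ Q T, ext n x = wQ x

def RigRStmt : Prop := ∀ (C : Subgroup (MulAut (U T))) (A : Subgroup (MulAut (R T))), LB p C (R T) A →
  KerR A → TS T C → (∃ n ∈ A, SwR n) → ∃ n ∈ A, ∀ x ∈ R T, ext n x = wR x

/-- The realizing group. -/
def RealStmt : Prop := ∀ L : Subgroup (MulAut (U T)), (∀ l ∈ L, ∃ c φ, l = tor T c * fld T φ) →
  ¬ p ∣ Nat.card L → TS T L →
  ∃ (G : Type u) (_ : Group G) (_ : Finite G) (ι : U T →* G), Function.Injective ι ∧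
    ¬ p ∣ ι.range.index ∧
    (∀ g ∈ normalizer (ι.range : Set G), ∃ s, ∃ l ∈ L, ∀ u, g * ι u * g⁻¹ = ι (s * l u * s⁻¹)) ∧
    (∀ l ∈ L, ∃ g, ∀ u, g * ι u * g⁻¹ = ι (l u)) ∧
    (∃ g, ∀ u ∈ Q T, g * ι u * g⁻¹ = ι (wQ u)) ∧ ∃ g, ∀ u ∈ R T, g * ι u * g⁻¹ = ι (wR u)

/-! ### The special unitary group -/

/-- the Gram matrix -/
def J5 (K : Type u) [Field K] : Matrix (Fin 5) (Fin 5) K :=
  !![0, 0, 0, 0, 1; 0, 0, 0, 1, 0; 0, 0, 1, 0, 0; 0, 1, 0, 0, 0; 1, 0, 0, 0, 0]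

/-- `SU₅` for the antidiagonal form -/
def XU : Subgroup (Matrix.SpecialLinearGroup (Fin 5) K) where
  carrier := {g | (g.1.map T.σ).transpose * J5 K * g.1 = J5 K}
  one_mem' := by simp
  mul_mem' := fun {a b} (ha : _ = _) (hb : _ = _) => by
    change ((a.1 * b.1).map T.σ).transpose * J5 K * (a.1 * b.1) = J5 K
    rw [Matrix.map_mul, Matrix.transpose_mul, Matrix.mul_assoc, Matrix.mul_assoc, ← Matrix.mul_assoc (J5 K),
      ← Matrix.mul_assoc _ (J5 K * a.1), ← Matrix.mul_assoc _ (J5 K), ha, ← Matrix.mul_assoc, hb]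
  inv_mem' := fun {a} (ha : _ = _) => by
    have h : a.1 * (a⁻¹).1 = 1 := congrArg Subtype.val (mul_inv_cancel a)
    change (((a⁻¹).1).map T.σ).transpose * J5 K * (a⁻¹).1 = J5 K
    conv_lhs => rw [← ha]
    rw [Matrix.mul_assoc, Matrix.mul_assoc _ a.1, h, Matrix.mul_one, ← Matrix.mul_assoc,
      ← Matrix.transpose_mul, ← Matrix.map_mul, h]
    simp

variable {T}

/-- the matrix of an element of `U T` -/
def mat (g : U T) : Matrix (Fin 5) (Fin 5) K :=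
  !![1, g.t, g.v1, g.m, g.a - g.m * T.σ g.t;
     0, 1, g.v2, g.d, -T.σ g.m - g.v2 * T.σ g.v1 - g.d * T.σ g.t;
     0, 0, 1, -T.σ g.v2, -T.σ g.v1 + T.σ g.v2 * T.σ g.t;
     0, 0, 0, 1, -T.σ g.t;
     0, 0, 0, 0, 1]

theorem mat_mul (g k : U T) : mat (g * k) = mat g * mat k := by
  ext i j
  fin_cases i <;> fin_cases j <;> simp [mat, Matrix.mul_apply, Fin.sum_univ_five, U.σ_d] <;> ring

theorem mat_det (g : U T) : (mat g).det = 1 := by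
  rw [Matrix.det_of_isUpperTriangular]
  · simp [mat, Fin.prod_univ_five]
  · intro i j h
    fin_cases i <;> fin_cases j <;> simp_all [mat]

theorem mat_unit (g : U T) : ((mat g).map T.σ).transpose * J5 K * mat g = J5 K := by
  ext i j
  fin_cases i <;> fin_cases j <;>
    simp [mat, J5, Matrix.mul_apply, Fin.sum_univ_five, U.σ_d, U.σ_a] <;> ring

variable (T)

/-- the embedding of `U T` in `SU₅` -/
def iU : U T →* XU T := MonoidHom.mk' (fun g => ⟨⟨mat g, mat_det g⟩, mat_unit g⟩)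
  fun g k => Subtype.ext (Subtype.ext (mat_mul g k))

theorem coe_iU (g : U T) : (iU T g).1.1 = mat g := rfl

theorem iU_inj : Function.Injective (iU T) := fun g k h => by
  have e : mat g = mat k := congrArg (fun x : XU T => x.1.1) h
  have f := fun i j => congrFun (congrFun e i) j
  have h1 : g.t = k.t := f 0 1
  have h2 : g.m = k.m := f 0 3
  have h3 : g.a - g.m * T.σ g.t = k.a - k.m * T.σ k.t := f 0 4
  rw [h1, h2] at h3
  exact U.ext h1 (f 0 2) (f 1 2) (sub_left_inj.1 h3) h2 (f 1 3)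

/-- Reflections, diagonal and field automorphisms of `SU₅`. -/
def X1Stmt : Prop := (∃ g : XU T, ∀ u ∈ Q T, g * iU T u * g⁻¹ = iU T (wQ u)) ∧
  (∃ g : XU T, ∀ u ∈ R T, g * iU T u * g⁻¹ = iU T (wR u)) ∧
  ∃ (aT : Kˣ × Kˣ →* MulAut (XU T)) (aF : RingAut K →* MulAut (XU T)),
    (∀ c u, aT c (iU T u) = iU T (tor T c u)) ∧ (∀ φ u, aF φ (iU T u) = iU T (fld T φ u)) ∧
    ∀ φ c, aF φ * aT c = aT (Units.map (φ : K →* K) c.1, Units.map (φ : K →* K) c.2) * aF φ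

/-- The normalizer of `U T` in `SU₅`. -/
def X2Stmt : Prop := ¬ p ∣ (iU T).range.index ∧ ∀ g ∈ normalizer ((iU T).range : Set (XU T)),
  ∃ (s : U T) (c l : Kˣ), ∀ u, g * iU T u * g⁻¹ = iU T (s * tor T (c, c⁻¹) (tor T (eta T l) u) * s⁻¹)

/-- The Sylow subgroups of `PSU₅(q)`. -/
def EmbStmt (K : Type u) [Field K] [Fintype K] (p : ℕ) : Prop := ∀ n : ℕ, 1 ≤ n →
  Fintype.card K = (p ^ n) ^ 2 → ∀ S : Sylow p (PSU 5 K (p ^ n)), ∃ T : Hm K,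
    (X2Stmt T p → Nonempty (U T ≃* (S : Subgroup (PSU 5 K (p ^ n)))))

end Cfsg.Agent.H97.U5
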