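import Mathlib
import Cfsg.Agent.H5.Tv
import Cfsg.Agent.H9.Bicyc
import Cfsg.Agent.H97.Rk2Fus

/-!
# Fusion systems on bicyclic `2`-groups (S5217): definitions

Notes with the complete proof: `stubs/notes/h97_bc.md`.
-/

set_option autoImplicit false

namespace Cfsg.Agent.H97.Bc

open Cfsg Cfsg.FusionSystem Cfsg.Agent.H97 Cfsg.Agent.H5 Subgroup
open scoped commutatorElement

universe u

section Defs
variable {G : Type*} [Group G]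

/-- What is used about a bicyclic, non-metacyclic `2`-group `G = ⟨x⟩⟨y⟩`. -/
structure Str (x : G) : Prop where
  pG : IsPGroup 2 G
  nm : ¬ IsMetacyclic G
  aut : IsPGroup 2 (MulAut G)
  ab : ∀ a ∈ _root_.commutator G, ∀ b ∈ _root_.commutator G, Commute a b
  idx : (frattini G).index = 4
  gen : ∀ g h : G, g ∉ frattini G → h ∉ frattini G → g * h ∉ frattini G → closure {g, h} = ⊤
  xP : x ∉ frattini G
  sq : ∀ g : G, g ^ 2 ∈ _root_.commutator G → x * g ∉ frattini G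
  exu : ∃ u : G, u ∉ frattini G ∧ u ^ 2 ∈ _root_.commutator G
  memP : ∀ g ∈ frattini G, ∃ i : ℤ, ∃ a ∈ _root_.commutator G, g = x ^ (2 * i) * a
  triv : ∀ a ∈ frattini G, ∀ g : G, ⁅a, g⁆ ∈ Phi (frattini G)
  four : ∀ H ≤ frattini G, ∀ a ∈ H, ∀ b ∈ H, ∃ c ∈ H, ⁅a, b⁆ = c ^ 4
  e8 : ∀ E ≤ frattini G, (∀ e ∈ E, e * e = 1) → Nat.card E ≤ 4
  mx : ∃ M : Subgroup G, M.index = 2 ∧ IsMetacyclic M
  rk : ∀ H : Subgroup G, (Phi H).relIndex H ∣ 2 ^ 3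

/-- An essential subgroup of largest order together with an automorphism of order `3`. -/
structure LocA (Q : Subgroup G) (α : MulAut Q) : Prop where
  cent : ∀ g : G, (∀ q ∈ Q, Commute g q) → g ∈ Q
  idx : Q.relIndex (normalizer (Q : Set G)) = 2
  a3 : α ^ 3 = 1
  a1 : α ≠ 1
  inv : ∀ (g : G) (hg : g ∈ normalizer (Q : Set G)), g ∉ Q →
    conjAut Q hg * α * (conjAut Q hg)⁻¹ * α ∈ Inn Q
  big : ∀ k : ℕ, ∀ a ∈ Q, ∀ b ∈ Q, IsConj a b →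
    Nat.card Q < Nat.card (centralizer ({ext (α ^ k) a} : Set G)) →
    Nat.card Q < Nat.card (centralizer ({ext (α ^ k) b} : Set G)) →
    IsConj (ext (α ^ k) a) (ext (α ^ k) b)

/-- `R` is homocyclic of rank two and exponent `2 ^ m`. -/
structure HomoR (R C : Subgroup G) (m : ℕ) : Prop where
  pos : 1 ≤ m
  comm : ∀ a ∈ R, ∀ b ∈ R, Commute a b
  inf : R ⊓ C = ⊥
  ord : ∀ r ∈ R, r ∉ Phi R → orderOf r = 2 ^ m
  phi : ∀ r ∈ Phi R, r ^ 2 ^ (m - 1) = 1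

/-- `R` is quaternion of order `8` with central involution `z`. -/
structure QuatR (R : Subgroup G) (z : G) : Prop where
  ne : z ≠ 1
  zz : z * z = 1
  phi : ∀ r, r ∈ Phi R ↔ r = 1 ∨ r = z
  sq : ∀ r ∈ R, r ∉ Phi R → r * r = z

/-- `R = [Q, α]` and `C = C_Q(α)`. -/
structure LocD (Q R C : Subgroup G) (α : MulAut Q) : Prop extends LocA Q α where
  RQ : R ≤ Q
  memC : ∀ q, q ∈ C ↔ q ∈ Q ∧ ext α q = q
  aR : ∀ r ∈ R, ext α r ∈ R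
  nR : normalizer (Q : Set G) ≤ normalizer (R : Set G)
  cyc : ∃ h ∈ C, ∀ q ∈ Q, ∃ r ∈ R, ∃ k : ℕ, q = r * h ^ k
  idxR : (Phi R).relIndex R = 4
  phiQ : ∀ r ∈ R, r ∈ Phi Q → r ∈ Phi R
  fpf : ∀ r ∈ R, r⁻¹ * ext α r ∈ Phi R → r ∈ Phi R
  act : ∀ g ∈ normalizer (Q : Set G), g ∈ Q ↔ ∀ r ∈ R, ⁅g, r⁆ ∈ Phi R
  typ : (∃ m, HomoR R C m) ∨ ∃ z, QuatR R z

/-- Data from which an automorphism `a ↦ b ↦ a b` of `Q = C ⟨a, b⟩`, trivial on `C`, is built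
(`ζ = 1`: `⟨a, b⟩` a four-group; `ζ ≠ 1`: quaternion). -/
structure AD (Q C : Subgroup G) (a b ζ : G) : Prop where
  zC : ζ ∈ C
  zz : ζ * ζ = 1
  aa : a * a = ζ
  bb : b * b = ζ
  ba : b * a = ζ * (a * b)
  ca : ∀ h ∈ C, Commute h a
  cb : ∀ h ∈ C, Commute h b
  cc : ∀ h ∈ C, ∀ h' ∈ C, Commute h h'
  aC : a ∉ C
  bC : b ∉ C
  abC : a * b ∉ C
  eq : Q = C ⊔ closure {a, b}
  norm : ∀ g ∈ normalizer (Q : Set G), g ∉ Q → (∀ h ∈ C, g * h * g⁻¹ ∈ C) ∧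
    (g * a * g⁻¹ = a ∨ g * a * g⁻¹ = ζ * a) ∧ (g * b * g⁻¹ = a * b ∨ g * b * g⁻¹ = ζ * (a * b))
  out : ∃ t, t ∉ Q ∧ Commute t a ∧ ∀ h ∈ C, Commute t h

end Defs

/-! ### The pieces -/

def StrStmt : Prop :=
  ∀ {G : Type u} [Group G] [Finite G], IsPGroup 2 G → ∀ {x y : G}, H9.Bic.Bi x y → ¬ IsMetacyclic G → Str x

def Loc1Stmt : Prop :=
  ∀ {G : Type u} [Group G] [Finite G] {x : G}, Str x → ∀ F : FusionSystem (⊤ : Subgroup G), F.IsSaturated 2 →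
    F ≠ innerFusionSystem ⊤ → ∃ (Q : Subgroup G) (α : MulAut Q), LocA Q α

def Loc2Stmt : Prop :=
  ∀ {G : Type u} [Group G] [Finite G] {x : G}, Str x → ∀ {Q : Subgroup G} {α : MulAut Q}, LocA Q α →
    ∃ R C, LocD Q R C α

def NormStmt : Prop :=
  ∀ {G : Type u} [Group G] [Finite G] {x : G}, Str x → ∀ {Q R C : Subgroup G} {α : MulAut Q}, LocD Q R C α →
    normalizer (Q : Set G) = ⊤ → IsCyclic (_root_.commutator G)

def NonNormStmt : Prop :=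
  ∀ {G : Type u} [Group G] [Finite G] {x : G}, Str x → ∀ {Q R C : Subgroup G} {α : MulAut Q}, LocD Q R C α →
    normalizer (Q : Set G) ≠ ⊤ → IsCyclic (_root_.commutator G)

/-- A saturated fusion system with one essential class, from the criterion S5110. -/
def AmalStmt : Prop :=
  ∀ {G : Type u} [Group G] [Finite G], IsPGroup 2 G → ∀ (Q : Subgroup G) (α : MulAut Q), α ^ 3 = 1 → α ≠ 1 →
    (∀ (g : G) (hg : g ∈ normalizer (Q : Set G)), g ∉ Q → conjAut Q hg * α * (conjAut Q hg)⁻¹ * α ∈ Inn Q) →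
    (∀ P < Q, ∃ (k : ℕ) (g : G), g ∉ img P (ext (α ^ k)) ∧ ∀ y ∈ P, Commute g (ext (α ^ k) y)) →
    ∃ F : FusionSystem (⊤ : Subgroup G), F.IsSaturated 2 ∧ F ≠ innerFusionSystem ⊤

def AlphaStmt : Prop :=
  ∀ {G : Type u} [Group G] [Finite G] {Q C : Subgroup G} {a b ζ : G}, AD Q C a b ζ →
    ∃ α : MulAut Q, α ^ 3 = 1 ∧ α ≠ 1 ∧
    (∀ (g : G) (hg : g ∈ normalizer (Q : Set G)), g ∉ Q → conjAut Q hg * α * (conjAut Q hg)⁻¹ * α ∈ Inn Q) ∧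
    (∀ P < Q, ∃ (k : ℕ) (g : G), g ∉ img P (ext (α ^ k)) ∧ ∀ y ∈ P, Commute g (ext (α ^ k) y))

def CycStmt : Prop :=
  ∀ {G : Type u} [Group G] [Finite G] {x : G}, Str x → IsCyclic (_root_.commutator G) →
    ∃ (Q C : Subgroup G) (a b ζ : G), AD Q C a b ζ

theorem main (str : StrStmt.{u}) (loc1 : Loc1Stmt.{u}) (loc2 : Loc2Stmt.{u}) (norm : NormStmt.{u})
    (nonnorm : NonNormStmt.{u}) (amal : AmalStmt.{u}) (alpha : AlphaStmt.{u}) (cyc : CycStmt.{u})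
    {Ω : Type u} [Group Ω] {S : Subgroup Ω} [Finite S] (hS : IsPGroup 2 S)
    (hb : ∃ x y : ↥S, ∀ g : ↥S, ∃ i j : ℤ, g = x ^ i * y ^ j) (hm : ¬ Cfsg.IsMetacyclic ↥S) :
    (∃ F : Cfsg.FusionSystem S, F.IsSaturated 2 ∧
      ¬ ∀ P : Subgroup Ω, F.Hom P = (Cfsg.innerFusionSystem S).Hom P) ↔ IsCyclic ↥(_root_.commutator ↥S) := by
  obtain ⟨x, y, hb⟩ := hb
  have h := str hS hb hm
  obtain ⟨θ', hθ⟩ := H98.exists_gIso_of_injective (MonoidHom.id S) fun _ _ e => e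
  rw [show (MonoidHom.id S).range = ⊤ from MonoidHom.range_eq_top.2 fun a => ⟨a, rfl⟩] at hθ
  have key : ∀ {Ω₁ Ω₂ : Type u} [Group Ω₁] [Group Ω₂] {S₁ : Subgroup Ω₁} {S₂ : Subgroup Ω₂} {θ θ'},
      H98.GIso S₁ S₂ θ θ' → H98.FsIso (innerFusionSystem S₁) (innerFusionSystem S₂) θ θ' := by
    have k : ∀ {Ω₁ Ω₂ : Type u} [Group Ω₁] [Group Ω₂] {S₁ : Subgroup Ω₁} {S₂ : Subgroup Ω₂} {θ θ'},
        H98.GIso S₁ S₂ θ θ' → ∀ P f, Mor (innerFusionSystem S₁) P f →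
          Mor (innerFusionSystem S₂) (img P θ) (fun y => θ (f (θ' y))) := by
      intro Ω₁ Ω₂ _ _ S₁ S₂ θ θ' hg P f hf
      obtain ⟨hP, g, hgS, e⟩ := mor_inner_iff.1 hf
      refine mor_inner_iff.2 ⟨hg.img_le hP, θ g, hg.mem g hgS, fun y hy => ?_⟩
      have hy' := hg.symm_mem hP hy
      rw [e _ hy', hg.hom.map_conj hgS (hP hy'), hg.right y (hg.img_le hP hy)]
    intro Ω₁ Ω₂ _ _ S₁ S₂ θ θ' hg
    exact ⟨hg, k hg, k hg.symm⟩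
  constructor
  · rintro ⟨F, hF, hn⟩
    have hi := hθ.fsIso_push F
    obtain ⟨Q, α, hQ⟩ := loc1 h _ (hi.isSaturated hF) fun e => hn fun P => by
      rw [H98.FsIso.unique hi.symm (e ▸ (key hθ).symm)]
    obtain ⟨R, C, hD⟩ := loc2 h hQ
    by_cases hN : normalizer (Q : Set S) = ⊤
    exacts [norm h hD hN, nonnorm h hD hN]
  · intro hc
    obtain ⟨Q, C, a, b, ζ, hA⟩ := cyc h hc
    obtain ⟨α, h1, h2, h3, h4⟩ := alpha hA
    obtain ⟨F, hF, hn⟩ := amal hS Q α h1 h2 h3 h4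
    have hi := hθ.symm.fsIso_push F
    refine ⟨_, hi.isSaturated hF, fun e => hn ?_⟩
    exact H98.FsIso.unique hi.symm (fs_ext e ▸ key hθ)

end Cfsg.Agent.H97.Bc
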