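import Cfsg.Agent.H78.G40A

set_option autoImplicit false

namespace Cfsg.Agent.H97.G40Nc

open Subgroup Cfsg.Agent.H46.L40 Cfsg.Agent.H78.G40
open Cfsg.Agent.H46.S94 (Cx Base Inn)

universe u

theorem card_aut (K : Kit) : Nat.card (MulAut S3) ∣ 11232 := by
  let I : Subgroup (MulAut S3) := (MulAut.conj : S3 →* MulAut S3).range
  have hI : ∀ α, Inn α → α ∈ I := fun α ⟨c, e⟩ => ⟨c, e.symm⟩
  have h1 : I.index ∣ 2 := by
    rw [index_dvd_two_iff]
    by_cases h : ∀ a, a ∈ I
    · exact ⟨1, fun b => .inr (h b)⟩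
    · push Not at h
      obtain ⟨a, ha⟩ := h
      refine ⟨a, fun b => ?_⟩
      rcases K.base.out b a with k | k | k
      exacts [.inr (hI _ k), absurd (hI _ k) ha, .inl (hI _ k)]
  have h2 : Nat.card I ∣ 5616 := K.card ▸ card_range_dvd _
  rw [← I.card_mul_index]
  exact mul_dvd_mul h2 h1

variable {G : Type u} [Group G] {φ : S3 →* G} {t : G} {O : Subgroup G}

theorem exists_hom (cx : Cx φ t O) : ∃ f : Cz t →* MulAut S3,
    ∀ c : Cz t, f c = 1 → (c : G) ∈ O ∨ (c : G) * t ∈ O := by
  have hle : Cz t ≤ normalizer (φ.range : Set G) := fun c hc =>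
    cx.NJ c (mem_centralizer_singleton_iff.1 hc)
  let e := MonoidHom.ofInjective cx.inj
  refine ⟨(MulAut.congr e.symm).toMonoidHom.comp (φ.range.normalizerMonoidHom.comp (inclusion hle)),
    fun c hc => cx.tr c (mem_centralizer_singleton_iff.1 c.2) ?_⟩
  have h1 : φ.range.normalizerMonoidHom (inclusion hle c) = 1 :=
    (MulAut.congr e.symm).injective (by rw [map_one]; exact hc)
  rw [← MonoidHom.mem_ker, normalizerMonoidHom_ker, mem_subgroupOf] at h1
  exact h1

theorem odd_two [Finite G] (cx : Cx φ t O) {x : G} (hx : x ∈ O) {n : ℕ} (h : x ^ 2 ^ n = 1) :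
    x = 1 := by
  have h1 : orderOf x ∣ Nat.card O := by
    rw [← Subgroup.orderOf_mk x hx]; exact orderOf_dvd_natCard _
  have h2 := orderOf_dvd_of_pow_eq_one h
  rw [← orderOf_eq_one_iff]
  exact Nat.eq_one_of_dvd_coprimes
    ((Nat.coprime_two_right.2 cx.odd).pow_right n) h1 h2

theorem part1 [Finite G] (K : Kit) (cx : Cx φ t O) (P : Subgroup G) (hP : P ≤ Cz t)
    (h2 : IsPGroup 2 P) : Nat.card P ≤ 64 := by
  have : Fact (Nat.Prime 2) := ⟨Nat.prime_two⟩
  obtain ⟨f, hf⟩ := exists_hom cx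
  let g : P →* MulAut S3 := f.comp (inclusion hP)
  have hk : ∀ x : P, g x = 1 → (x : G) = 1 ∨ (x : G) = t := fun x hx => by
    obtain ⟨n, hn⟩ := h2 x
    have hn' : (x : G) ^ 2 ^ n = 1 := by rw [← Subgroup.coe_pow, hn]; rfl
    rcases hf _ hx with k | k
    · exact .inl (odd_two cx k hn')
    · right
      have c : Commute (x : G) t := mem_centralizer_singleton_iff.1 (hP x.2)
      have h3 : ((x : G) * t) ^ 2 ^ (n + 1) = 1 := by
        rw [c.mul_pow, pow_succ 2 n, pow_mul, hn', one_pow, mul_comm (2 ^ n), pow_mul, pow_two t,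
          cx.tt, one_pow, one_mul]
      have h4 : (x : G) * t = 1 := odd_two cx k h3
      rw [eq_inv_of_mul_eq_one_left h4, inv_eq_of_mul_eq_one_right cx.tt]
  have k1 : Nat.card g.ker ≤ 2 := by
    classical
    have : Nat.card g.ker ≤ Nat.card Bool := by
      refine Nat.card_le_card_of_injective (fun x => decide (((x : P) : G) = 1)) fun x y e => ?_
      simp only [decide_eq_decide] at e
      apply Subtype.ext; apply Subtype.ext
      rcases hk x x.2 with a | a <;> rcases hk y y.2 with b | b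
      · rw [a, b]
      · exact absurd (b ▸ e.1 a) cx.t1
      · exact absurd (a ▸ e.2 b) cx.t1
      · rw [a, b]
    simpa using this
  have k2 : Nat.card g.range ≤ 32 := by
    obtain ⟨n, hn⟩ := (h2.of_surjective _ g.rangeRestrict_surjective).exists_card_eq
    have hd := (card_subgroup_dvd_card g.range).trans (card_aut K)
    rw [hn] at hd ⊢
    have : n ≤ 5 := by
      by_contra h
      exact absurd ((pow_dvd_pow 2 (show 6 ≤ n by omega)).trans hd) (by norm_num)
    exact (Nat.pow_le_pow_right (by norm_num) this).trans (by norm_num)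
  rw [← g.ker.card_mul_index, index_ker]
  exact (Nat.mul_le_mul k1 k2).trans (by norm_num)

theorem part2 [Finite G] (K : Kit) (cx : Cx φ t O) (p q : G) (k : ℕ) (hk : k = 5 ∨ k = 7)
    (hp : p * t = t * p) (hq : q * t = t * q) (p2 : p * p = 1) (q3 : q ^ 3 = 1)
    (h : (p * q) ^ k = 1) : p = 1 := by
  obtain ⟨f, hf⟩ := exists_hom cx
  let a : Cz t := ⟨p, mem_centralizer_singleton_iff.2 hp⟩
  let b : Cz t := ⟨q, mem_centralizer_singleton_iff.2 hq⟩
  have e1 : f a * f b = 1 := by
    have h1 : (f a * f b) ^ k = 1 := by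
      rw [← map_mul, ← map_pow, show (a * b) ^ k = 1 from Subtype.ext h, map_one]
    have h2 := (orderOf_dvd_natCard (f a * f b)).trans (card_aut K)
    rw [← orderOf_eq_one_iff]
    refine Nat.eq_one_of_dvd_coprimes ?_ (orderOf_dvd_of_pow_eq_one h1) h2
    rcases hk with rfl | rfl <;> norm_num
  have e2 : f a * f a = 1 := by rw [← map_mul, show a * a = 1 from Subtype.ext p2, map_one]
  have e3 : f b ^ 3 = 1 := by rw [← map_pow, show b ^ 3 = 1 from Subtype.ext q3, map_one]
  have e4 : f b = f a := mul_left_cancel (e1.trans e2.symm)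
  have e5 : f a = 1 := by
    rw [e4, pow_succ, pow_two, e2, one_mul] at e3; exact e3
  rcases hf a e5 with m | m
  · exact odd_two cx m (n := 1) (by rw [pow_one, pow_two]; exact p2)
  exfalso
  have c : Commute p t := hp
  have m1 : p * t = 1 := odd_two cx m (n := 1) (by
    rw [pow_one, c.mul_pow, pow_two, pow_two, p2, cx.tt, one_mul])
  have ept : p = t := by rw [eq_inv_of_mul_eq_one_left m1, inv_eq_of_mul_eq_one_right cx.tt]
  have c2 : Commute t q := hq.symm
  rw [ept, c2.mul_pow] at h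
  have h3 : (t ^ k) ^ 3 = 1 := by
    rw [eq_inv_of_mul_eq_one_left h, inv_pow, ← pow_mul, mul_comm, pow_mul, q3, one_pow, inv_one]
  have h4 : t ^ 2 = 1 := by rw [pow_two, cx.tt]
  rw [← pow_mul, ← pow_mod_orderOf] at h3
  have : Fact (Nat.Prime 2) := ⟨Nat.prime_two⟩
  rw [orderOf_eq_prime h4 cx.t1] at h3
  rcases hk with rfl | rfl <;> exact cx.t1 (by simpa using h3)

theorem nc : NcS.{u} := by
  intro K G _ _ φ t O cx y hy
  obtain ⟨c, rfl⟩ := isConj_iff.1 hy
  have tr : ∀ x, x * (c * t * c⁻¹) = c * t * c⁻¹ * x → c⁻¹ * x * c * t = t * (c⁻¹ * x * c) := by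
    intro x e
    calc c⁻¹ * x * c * t = c⁻¹ * (x * (c * t * c⁻¹)) * c := by group
      _ = _ := by rw [e]; group
  refine ⟨fun P hP h2 => ?_, fun p q k hk hp hq p2 q3 h => ?_⟩
  · have := part1 K cx (P.map (MulAut.conj c⁻¹).toMonoidHom) (by
      rintro _ ⟨x, hx, rfl⟩
      refine mem_centralizer_singleton_iff.2 ?_
      simpa using tr x (mem_centralizer_singleton_iff.1 (hP hx))) (h2.map _)
    rwa [card_map_of_injective (MulAut.conj c⁻¹).injective] at this
  · have := part2 K cx (MulAut.conj c⁻¹ p) (MulAut.conj c⁻¹ q) k hk (by simpa using tr p hp)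
      (by simpa using tr q hq) (by rw [← map_mul, p2, map_one]) (by rw [← map_pow, q3, map_one])
      (by rw [← map_mul, ← map_pow, h, map_one])
    exact (MulAut.conj c⁻¹).injective (by rw [this, map_one])

end Cfsg.Agent.H97.G40Nc
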