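import Cfsg.Agent.H93.LTDefs
import Cfsg.Agent.H39.TI

/-! LT-RED: `f² = 1` and `f ^ e = f z` (`stubs/notes/h93_lt.md`, section RED). -/

set_option autoImplicit false
set_option linter.unusedSectionVars false

namespace Cfsg.Agent.H97.LTR

open Subgroup Cfsg.Agent.H85 Cfsg.Agent.H93.LT

universe u

variable {G : Type u} [Group G] [Finite G]

theorem cn_mul (x u v : G) : cn x (u * v) = cn (cn x u) v := by simp only [cn]; group

theorem mul_cn (x y u : G) : cn (x * y) u = cn x u * cn y u := by simp only [cn]; group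

theorem cn_eq {x u : G} : cn x u = x ↔ Commute x u := by
  rw [cn, mul_assoc, inv_mul_eq_iff_eq_mul]; rfl

theorem comm_cn {x y : G} (h : Commute x y) (u : G) : Commute (cn x u) (cn y u) := by
  change cn x u * cn y u = cn y u * cn x u
  rw [← mul_cn, ← mul_cn, h.eq]

theorem cn_cn (x u : G) : cn (cn x u) u⁻¹ = x := by simp only [cn]; group

theorem cn_cn' (x u : G) : cn (cn x u⁻¹) u = x := by simp only [cn]; group

theorem cn_mem {T : Subgroup G} {x g : G} (hg : g ∈ normalizer (T : Set G)) (hx : x ∈ T) : cn x g ∈ T := by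
  simpa using (mem_normalizer_iff.1 (inv_mem hg) x).1 hx

theorem cn_sup {K M : Subgroup G} {x y : G} (h : ∀ k ∈ K, cn k x ∈ M) (hy : cn y x ∈ M) :
    ∀ k ∈ K ⊔ zpowers y, cn k x ∈ M := fun k hk => by
  have : K ⊔ zpowers y ≤ cj x M := sup_le (fun k hk => mem_cj.2 (h k hk)) (zpowers_le.2 (mem_cj.2 hy))
  exact mem_cj.1 (this hk)

theorem ext2 {K : Subgroup G} {x : G} (hn : ∀ k ∈ K, cn k x ∈ K) (hx : x * x ∈ K) :
    (∀ u ∈ K ⊔ zpowers x, ∃ k ∈ K, u = k ∨ u = k * x) ∧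
      Nat.card (K ⊔ zpowers x : Subgroup G) ≤ 2 * Nat.card K := by
  have hn' : ∀ k ∈ K, x * k * x⁻¹ ∈ K := fun k hk => (mem_normalizer_iff.1 (inv_mem_iff.1
    (mem_normalizer_of_cj_le (g := x⁻¹) fun y hy => by simpa [cn, mul_assoc] using hn _ (mem_cj.1 hy))) k).1 hk
  let M : Subgroup G :=
    { carrier := {u | ∃ k ∈ K, u = k ∨ u = k * x}
      one_mem' := ⟨1, one_mem _, Or.inl rfl⟩
      mul_mem' := by
        rintro _ _ ⟨k, hk, rfl | rfl⟩ ⟨l, hl, rfl | rfl⟩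
        · exact ⟨_, mul_mem hk hl, Or.inl rfl⟩
        · exact ⟨_, mul_mem hk hl, Or.inr (mul_assoc _ _ _).symm⟩
        · exact ⟨_, mul_mem hk (hn' _ hl), Or.inr (by group)⟩
        · exact ⟨_, mul_mem (mul_mem hk (hn' _ hl)) hx, Or.inl (by group)⟩
      inv_mem' := by
        rintro _ ⟨k, hk, rfl | rfl⟩
        · exact ⟨_, inv_mem hk, Or.inl rfl⟩
        · exact ⟨_, mul_mem (hn _ (inv_mem hk)) (inv_mem hx), Or.inr (by simp only [cn]; group)⟩ }
  have h : K ⊔ zpowers x ≤ M := sup_le (fun k hk => ⟨k, hk, Or.inl rfl⟩)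
    (zpowers_le.2 ⟨1, one_mem _, Or.inr (one_mul x).symm⟩)
  refine ⟨h, (Nat.card_le_card_of_surjective (fun q : Bool × K => (⟨cond q.1 (q.2 * x) q.2, by
    rcases q with ⟨_ | _, k⟩
    exacts [mem_sup_left k.2, mul_mem_sup k.2 (mem_zpowers x)]⟩ : (K ⊔ zpowers x : Subgroup G)))
    fun u => ?_).trans (by simp)⟩
  obtain ⟨k, hk, e | e⟩ := h u.2
  exacts [⟨(false, ⟨k, hk⟩), Subtype.ext e.symm⟩, ⟨(true, ⟨k, hk⟩), Subtype.ext e.symm⟩]

variable (p : Pre G)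

/-- `w ∈ ⟨t, z⟩` -/
def W (w : G) : Prop := w = 1 ∨ w = p.z ∨ w = p.t ∨ w = p.t * p.z

/-- `c ∈ ⟨t, z, f⟩` -/
def A (c : G) : Prop := ∃ w, W p w ∧ (c = w ∨ c = w * p.f)

theorem ab' : p.a * p.b = p.b * p.a * p.z := by rw [mul_assoc, ← p.ab]; group

theorem zD : p.z = p.a⁻¹ * p.b⁻¹ * p.a * p.b := by
  rw [mul_assoc, mul_assoc, ← mul_assoc p.b⁻¹, show _ * _ * _ = _ from p.ab]; group

theorem cz {x : G} (ha : Commute x p.a) (hb : Commute x p.b) : Commute x p.z := by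
  rw [zD]; exact ((ha.inv_right.mul_right hb.inv_right).mul_right ha).mul_right hb

theorem tz : Commute p.t p.z := cz p p.ta p.tb

theorem fz : Commute p.f p.z := cz p p.fa p.fb

theorem ba : cn p.b p.a = p.b * p.z := by
  rw [cn, mul_assoc, inv_mul_eq_iff_eq_mul, ← mul_assoc, ab', mul_assoc, p.zz, mul_one]

theorem sq_ab : p.a * p.b * (p.a * p.b) = p.z := by
  rw [mul_assoc, ← mul_assoc p.b, ← mul_assoc p.a, show p.b * p.a = p.a * p.b * p.z by
    rw [ab', mul_assoc, p.zz, mul_one], ← mul_assoc, ← mul_assoc, p.aa, one_mul, ← p.zb.eq, mul_assoc,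
    p.bb, mul_one]

theorem zt : p.z ≠ p.t := fun e => p.tL (e ▸ (p.LiT.ge (by
  rw [zD]
  have ha : p.a ∈ closure {p.a, p.b} := subset_closure (by simp)
  have hb : p.b ∈ closure {p.a, p.b} := subset_closure (by simp)
  exact mul_mem (mul_mem (mul_mem (inv_mem ha) (inv_mem hb)) ha) hb)).1)

theorem nab : ¬ Commute p.a p.b := fun h => p.z1 (by simpa using (cn_eq.2 h).symm.trans p.ab)

variable {p}

theorem ze (h : cn p.a p.e = p.b ∧ cn p.b p.e = p.a) : cn p.z p.e = p.z := by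
  rw [← sq_ab, mul_cn, mul_cn, h.1, h.2, show p.b * p.a = (p.a * p.b)⁻¹ by
    rw [mul_inv_rev, inv_eq_of_mul_eq_one_right p.aa, inv_eq_of_mul_eq_one_right p.bb], ← mul_inv_rev,
    sq_ab, inv_eq_of_mul_eq_one_right p.zz]

theorem ze' : Commute p.z p.e := p.he'.elim (fun h => h ▸ Commute.one_right _)
  fun h => cn_eq.1 (ze ⟨h.1, h.2.1⟩)

theorem W.comm {w x : G} (h : W p w) (ht : Commute p.t x) (hz : Commute p.z x) : Commute w x := by
  rcases h with rfl | rfl | rfl | rfl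
  exacts [.one_left _, hz, ht, ht.mul_left hz]

theorem W.sq {w : G} (h : W p w) : w * w = 1 := by
  rcases h with rfl | rfl | rfl | rfl
  exacts [mul_one _, p.zz, p.tt, by rw [(tz p).symm.mul_mul_mul_comm, p.tt, p.zz, mul_one]]

theorem A.comm {c x : G} (h : A p c) (ht : Commute p.t x) (hz : Commute p.z x) (hf : Commute p.f x) :
    Commute c x := by
  obtain ⟨w, hw, rfl | rfl⟩ := h
  exacts [hw.comm ht hz, (hw.comm ht hz).mul_left hf]

theorem A.ca {c : G} (h : A p c) : cn p.a c = p.a := cn_eq.2 (h.comm p.ta p.za p.fa).symm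

theorem A.cb {c : G} (h : A p c) : cn p.b c = p.b := cn_eq.2 (h.comm p.tb p.zb p.fb).symm

theorem A.cz {c : G} (h : A p c) : cn p.z c = p.z := cn_eq.2 (h.comm (tz p) rfl (fz p)).symm

theorem A.sq {c : G} (h : A p c) : (W p c ∧ c * c = 1) ∨ c * c = p.f * p.f := by
  obtain ⟨w, hw, rfl | rfl⟩ := h
  exacts [Or.inl ⟨hw, hw.sq⟩, Or.inr (by
    rw [(hw.comm p.tf (fz p).symm).symm.mul_mul_mul_comm, hw.sq, one_mul])]

variable (p)

theorem nf : ∃ K : Subgroup G, (∀ u ∈ K, ∃ c, A p c ∧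
    (u = c ∨ u = c * p.a ∨ u = c * p.b ∨ u = c * p.a * p.b)) ∧
    (∀ u ∈ p.T, ∃ k ∈ K, u = k ∨ u = k * p.e) ∧ Nat.card p.T ≤ 64 := by
  have c : ∀ {K : Subgroup G} {x y : G}, (∀ k ∈ K, cn k x = k) → Commute y x →
      ∀ k ∈ K ⊔ zpowers y, cn k x = k := fun {K x y} h hy k hk => cn_eq.2 (by
    have : K ⊔ zpowers y ≤ centralizer {x} := sup_le
      (fun k hk => mem_centralizer_singleton_iff.2 (cn_eq.1 (h k hk)))
      (zpowers_le.2 (mem_centralizer_singleton_iff.2 hy))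
    exact mem_centralizer_singleton_iff.1 (this hk))
  have c0 : ∀ x : G, ∀ k ∈ (⊥ : Subgroup G), cn k x = k := fun x k hk => by simp [mem_bot.1 hk, cn]
  have d : ∀ {K M : Subgroup G} {x : G}, (∀ k ∈ K, cn k x = k) → K ≤ M → ∀ k ∈ K, cn k x ∈ M :=
    fun h l k hk => (h k hk).symm ▸ l hk
  obtain ⟨K1, e1⟩ : ∃ K, K = ⊥ ⊔ zpowers p.t := ⟨_, rfl⟩
  obtain ⟨K2, e2⟩ : ∃ K, K = K1 ⊔ zpowers p.z := ⟨_, rfl⟩
  obtain ⟨K3, e3⟩ : ∃ K, K = K2 ⊔ zpowers p.f := ⟨_, rfl⟩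
  obtain ⟨K4, e4⟩ : ∃ K, K = K3 ⊔ zpowers p.a := ⟨_, rfl⟩
  obtain ⟨K5, e5⟩ : ∃ K, K = K4 ⊔ zpowers p.b := ⟨_, rfl⟩
  have l2 : K1 ≤ K2 := e2 ▸ le_sup_left
  have l3 : K2 ≤ K3 := e3 ▸ le_sup_left
  have l4 : K3 ≤ K4 := e4 ▸ le_sup_left
  have l5 : K4 ≤ K5 := e5 ▸ le_sup_left
  have mt : p.t ∈ K1 := e1 ▸ mem_sup_right (mem_zpowers _)
  have mz : p.z ∈ K2 := e2 ▸ mem_sup_right (mem_zpowers _)
  have mf : p.f ∈ K3 := e3 ▸ mem_sup_right (mem_zpowers _)
  have ma : p.a ∈ K4 := e4 ▸ mem_sup_right (mem_zpowers _)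
  have mb : p.b ∈ K5 := e5 ▸ mem_sup_right (mem_zpowers _)
  have c1 : ∀ {x}, Commute p.t x → ∀ k ∈ K1, cn k x = k := fun h => e1 ▸ c (c0 _) h
  have c2 : ∀ {x}, Commute p.t x → Commute p.z x → ∀ k ∈ K2, cn k x = k := fun h h' => e2 ▸ c (c1 h) h'
  obtain ⟨h1, n1⟩ := ext2 (d (c0 p.t) le_rfl) (p.tt ▸ one_mem _)
  obtain ⟨h2, n2⟩ := ext2 (d (c1 (tz p)) le_rfl) (p.zz ▸ one_mem _)
  obtain ⟨h3, n3⟩ := ext2 (d (c2 p.tf (fz p).symm) le_rfl)
    (p.ff'.elim (fun e => e ▸ one_mem _) fun e => e ▸ l2 mt)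
  obtain ⟨h4, n4⟩ := ext2 (K := K3) (d (e3 ▸ c (c2 p.ta p.za) p.fa) le_rfl) (p.aa ▸ one_mem _)
  obtain ⟨h5, n5⟩ := ext2 (K := K4) (x := p.b) (fun k hk => cn_sup (K := K3)
    (d (e3 ▸ c (c2 p.tb p.zb) p.fb) l4) (p.ab ▸ mul_mem ma (l4 (l3 mz))) k (e4 ▸ hk)) (p.bb ▸ one_mem _)
  have mt5 := l5 (l4 (l3 (l2 mt)))
  have mz5 := l5 (l4 (l3 mz))
  have mf5 := l5 (l4 mf)
  obtain ⟨h6, n6⟩ := ext2 (K := K5) (x := p.e) (fun k hk => by
      rcases p.he' with h | ⟨h1, h2, h3, -⟩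
      · simpa [h, cn] using hk
      · exact cn_sup (K := K4) (fun k hk => cn_sup (K := K3) (fun k hk => cn_sup (K := K2)
          (d (c2 p.te ze') (l3.trans (l4.trans l5))) (h3.elim (fun e => e ▸ mul_mem mf5 mz5)
          fun e => e ▸ mul_mem (mul_mem mf5 mz5) mt5) k (e3 ▸ hk)) (h1 ▸ mb) k (e4 ▸ hk)) (h2 ▸ l5 ma) k
          (e5 ▸ hk))
    (by
      rcases p.he' with h | ⟨-, -, -, h | h⟩
      exacts [by simp [h], h ▸ one_mem _, h ▸ mt5])
  have hT : p.T ≤ K5 ⊔ zpowers p.e := p.hT ▸ (closure_le _).2 (by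
    rintro x (rfl | rfl | rfl | rfl | rfl)
    exacts [mem_sup_left mt5, mem_sup_left mf5, mem_sup_left (l5 ma), mem_sup_left mb,
      mem_sup_right (mem_zpowers _)])
  rw [← e1] at h1 n1
  rw [← e2] at h2 n2
  rw [← e3] at h3 n3
  rw [← e4] at h4 n4
  rw [← e5] at h5 n5
  refine ⟨K5, fun u hu => ?_, fun u hu => h6 u (hT hu), ?_⟩
  · obtain ⟨k4, m4, f4⟩ := h5 u hu
    obtain ⟨k3, m3, f3⟩ := h4 k4 m4
    obtain ⟨k2, m2, f2⟩ := h3 k3 m3
    obtain ⟨k1, m1, f1⟩ := h2 k2 m2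
    obtain ⟨k0, m0, f0⟩ := h1 k1 m1
    obtain rfl := mem_bot.1 m0
    refine ⟨k3, ⟨k2, ?_, f2⟩, ?_⟩
    · rcases f0 with rfl | rfl <;> rcases f1 with rfl | rfl <;> simp [W]
    · rcases f3 with rfl | rfl <;> rcases f4 with rfl | rfl <;> simp
  · have := card_le_of_le hT
    rw [card_bot] at n1
    omega

variable {p}

theorem n1 {w : G} (h : Commute w p.b) : p.b * w ≠ p.a := fun e =>
  nab p (e ▸ (Commute.refl _).mul_left h)

theorem n2 : p.a * p.z ≠ p.a := by simpa using p.z1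

theorem n3 : p.b * p.z ≠ p.b := by simpa using p.z1

section
variable {K : Subgroup G} (hK : ∀ u ∈ K, ∃ c, A p c ∧
    (u = c ∨ u = c * p.a ∨ u = c * p.b ∨ u = c * p.a * p.b))
include hK

theorem z0 {u : G} (hu : u ∈ K) (ha : cn p.a u = p.a) (hb : cn p.b u = p.b) : A p u := by
  obtain ⟨c, hc, rfl | rfl | rfl | rfl⟩ := hK u hu
  · exact hc
  · rw [cn_mul, hc.cb, ba] at hb
    exact absurd hb n3
  · rw [cn_mul, hc.ca, p.ab] at ha
    exact absurd ha n2
  · rw [cn_mul, cn_mul, hc.ca, cn_eq.2 rfl, p.ab] at ha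
    exact absurd ha n2

theorem sq0 {u : G} (hu : u ∈ K) : ∃ c, A p c ∧ (u * u = c * c ∨ u * u = c * c * p.z) := by
  obtain ⟨c, hc, rfl | rfl | rfl | rfl⟩ := hK u hu
  · exact ⟨_, hc, Or.inl rfl⟩
  · exact ⟨_, hc, Or.inl (by rw [(cn_eq.1 hc.ca).mul_mul_mul_comm, p.aa, mul_one])⟩
  · exact ⟨_, hc, Or.inl (by rw [(cn_eq.1 hc.cb).mul_mul_mul_comm, p.bb, mul_one])⟩
  · exact ⟨_, hc, Or.inr (by
      rw [mul_assoc c, ((cn_eq.1 hc.ca).mul_left (cn_eq.1 hc.cb)).mul_mul_mul_comm, sq_ab])⟩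

variable (he : cn p.a p.e = p.b ∧ cn p.b p.e = p.a)
include he

theorem na {k : G} (hk : k ∈ K) : cn p.a (k * p.e) ≠ p.a := by
  obtain ⟨c, hc, rfl | rfl | rfl | rfl⟩ := hK k hk <;>
    simp only [cn_mul, hc.ca, cn_eq.2 (Commute.refl p.a), p.ab, mul_cn, he.1, ze he]
  exacts [by simpa using n1 (.one_left p.b), by simpa using n1 (.one_left p.b), n1 p.zb, n1 p.zb]

theorem out {k : G} (hk : k ∈ K) : (∃ c, A p c ∧ (k = c ∨ k = c * p.a * p.b)) ∨
    cn p.a (k * p.e * (k * p.e)) ≠ p.a := by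
  obtain ⟨c, hc, rfl | rfl | rfl | rfl⟩ := hK k hk
  · exact Or.inl ⟨_, hc, Or.inl rfl⟩
  rotate_left 2
  · exact Or.inl ⟨_, hc, Or.inr rfl⟩
  all_goals
    right
    simp only [cn_mul, hc.ca, hc.cb, hc.cz, cn_eq.2 (Commute.refl p.a), cn_eq.2 (Commute.refl p.b),
      p.ab, ba, mul_cn, he.1, he.2, ze he, cn_eq.2 p.zb]
    exact n2

theorem sq1 (hf : p.f * p.f = 1) (fe : cn p.f p.e = p.f * p.z * p.t)
    (ee : p.e * p.e = 1 ∨ p.e * p.e = p.t) {k : G} (hk : k ∈ K) :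
    k * p.e * (k * p.e) = p.e * p.e ∨ k * p.e * (k * p.e) = p.e * p.e * (p.z * p.t) ∨
      cn p.a (k * p.e * (k * p.e)) ≠ p.a := by
  have h0 : ∀ k, Commute p.t k → k * p.e * (k * p.e) = p.e * p.e * (k * cn k p.e) := fun k h => by
    have : Commute (p.e * p.e) k := ee.elim (fun e => e ▸ .one_left _) fun e => e ▸ h
    rw [← mul_assoc (p.e * p.e), this.eq, cn]
    group
  have h1 : ∀ c, A p c → c * cn c p.e = 1 ∨ c * cn c p.e = p.z * p.t := by
    rintro c ⟨w, hw, rfl | rfl⟩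
    · exact Or.inl (by rw [cn_eq.2 (hw.comm p.te ze'), hw.sq])
    · exact Or.inr (by
        rw [mul_cn, cn_eq.2 (hw.comm p.te ze'), fe, (hw.comm p.tf (fz p).symm).symm.mul_mul_mul_comm,
          hw.sq, one_mul, ← mul_assoc, ← mul_assoc, hf, one_mul])
  rcases out hK he hk with ⟨c, hc, h⟩ | h
  · have ct : Commute p.t c := (hc.comm rfl (tz p).symm p.tf.symm).symm
    have : k * p.e * (k * p.e) = p.e * p.e * (c * cn c p.e) := by
      rcases h with rfl | rfl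
      · exact h0 _ ct
      · have i : p.a * p.b * (p.b * p.a) = 1 := by
          rw [mul_assoc, ← mul_assoc p.b, p.bb, one_mul, p.aa]
        have j : Commute (p.a * p.b) (cn c p.e) := by
          have := comm_cn ((cn_eq.1 hc.cb).mul_left (cn_eq.1 hc.ca)) p.e
          rwa [mul_cn, he.1, he.2] at this
        rw [h0 _ ((ct.mul_right p.ta).mul_right p.tb), mul_assoc c, mul_cn, mul_cn, he.1, he.2,
          j.mul_mul_mul_comm, i, mul_one]
    rw [this]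
    rcases h1 c hc with e | e <;> simp [e]
  · exact Or.inr (Or.inr h)

theorem zc (fe : cn p.f p.e = p.f * p.z ∨ cn p.f p.e = p.f * p.z * p.t) {u k : G} (hk : k ∈ K)
    (hu : u = k ∨ u = k * p.e) (ha : Commute p.a u) (hb : Commute p.b u) (h : Commute u p.e) : W p u := by
  rcases hu with rfl | rfl
  · obtain ⟨w, hw, rfl | rfl⟩ := z0 hK hk (cn_eq.2 ha) (cn_eq.2 hb)
    · exact hw
    · have := cn_eq.2 h
      rw [mul_cn, cn_eq.2 (hw.comm p.te ze'), mul_right_inj] at this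
      rcases fe with e | e <;> rw [e] at this
      · exact absurd (by simpa using this) p.z1
      · rw [mul_assoc, mul_eq_left, ← eq_inv_iff_mul_eq_one, inv_eq_of_mul_eq_one_right p.tt] at this
        exact absurd this (zt p)
  · exact absurd (cn_eq.2 ha) (na hK he hk)

theorem inv3 (hf : p.f * p.f = p.t) {u k : G} (hk : k ∈ K) (hu : u = k ∨ u = k * p.e) (h1 : u * u = 1)
    (h : Commute (p.a * p.b) u) : W p u := by
  have s : ∀ {c}, A p c → cn (p.a * p.b) c = p.a * p.b := fun hc => by rw [mul_cn, hc.ca, hc.cb]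
  have sa : cn (p.a * p.b) p.a = p.a * p.b * p.z := by rw [mul_cn, cn_eq.2 rfl, ba, mul_assoc]
  have sb : cn (p.a * p.b) p.b = p.a * p.b * p.z := by
    rw [mul_cn, p.ab, cn_eq.2 rfl, mul_assoc, p.zb.eq, mul_assoc]
  have se : cn (p.a * p.b) p.e = p.a * p.b * p.z := by
    rw [mul_cn, he.1, he.2, ab', mul_assoc, p.zz, mul_one]
  have n : p.a * p.b * p.z ≠ p.a * p.b := by simpa using p.z1
  replace h := cn_eq.2 h
  rcases hu with rfl | rfl
  · obtain ⟨c, hc, rfl | rfl | rfl | rfl⟩ := hK u hk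
    · exact hc.sq.elim And.left fun e => absurd (hf.symm.trans (e.symm.trans h1)) p.t1
    · exact absurd (by rwa [cn_mul, s hc, sa] at h) n
    · exact absurd (by rwa [cn_mul, s hc, sb] at h) n
    · rw [mul_assoc c, ((cn_eq.1 hc.ca).mul_left (cn_eq.1 hc.cb)).mul_mul_mul_comm, sq_ab] at h1
      rcases hc.sq with ⟨-, e⟩ | e <;> rw [e] at h1
      · exact absurd (by simpa using h1) p.z1
      · rw [hf, ← eq_inv_iff_mul_eq_one, inv_eq_of_mul_eq_one_right p.zz] at h1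
        exact absurd h1.symm (zt p)
  · rcases out hK he hk with ⟨c, hc, rfl | rfl⟩ | h'
    · exact absurd (by rwa [cn_mul, s hc, se] at h) n
    · exact absurd (by rwa [mul_assoc c, cn_mul, cn_mul, s hc, cn_eq.2 rfl, se] at h) n
    · exact absurd (by rw [h1]; simp [cn]) h'

end

theorem big (sm : SmallStmt.{u}) (p : Pre G) : ∃ S : Subgroup G, IsPGroup 2 S ∧ p.T ≤ S ∧
    S ⊓ centralizer {p.t} = p.T ∧ 256 ≤ Nat.card S := by
  obtain ⟨S, hS, h⟩ := exists_isSyl_ge (H := ⊤) p.syl.isPGroup le_top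
  have := p.Xn
  have mz : p.z ∈ p.X := by
    have k : ∀ x : G, ∃ i : ℤ, (x : G ⧸ p.X) = (p.t : G ⧸ p.X) ^ i := fun x => by
      obtain ⟨y, hy, _, ⟨i, rfl⟩, rfl⟩ := (mem_sup_of_normal_left).1 (p.XG.ge (mem_top x))
      exact ⟨i, by simp [(QuotientGroup.eq_one_iff y).2 hy]⟩
    obtain ⟨i, hi⟩ := k p.a
    obtain ⟨j, hj⟩ := k p.b
    rw [← QuotientGroup.eq_one_iff, zD]
    simp only [QuotientGroup.mk_mul, QuotientGroup.mk_inv, hi, hj]
    group
  have ma : p.a ∈ p.X := p.zr ▸ this.conj_mem' _ mz _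
  have mb : p.b ∈ p.X := p.zs ▸ this.conj_mem' _ mz _
  have d := (sm p.X p.Xs p.X5 ⟨_, ma⟩ ⟨_, mb⟩ (Subtype.ext p.aa) (Subtype.ext p.bb) (Subtype.ext (by
    change (p.a * p.b) ^ (2 * 2) = 1
    rw [pow_mul, pow_two, pow_two, sq_ab, p.zz])) fun e => p.z1 (by
      rw [← sq_ab, ← pow_two]; exact congrArg Subtype.val e)).trans p.X.card_subgroup_dvd_card
  refine ⟨S, hS.isPGroup, h, p.syl.eq_of_le (hS.isPGroup.to_le inf_le_left) (le_inf h p.syl.le)
    inf_le_right, Nat.le_of_dvd Nat.card_pos ?_⟩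
  rw [← S.card_mul_index] at d
  exact (Nat.Coprime.pow_left 8 ((Nat.Prime.coprime_iff_not_dvd Nat.prime_two).2
    (by simpa using hS.not_dvd_relIndex))).dvd_of_dvd_mul_right d

theorem red (sm : SmallStmt.{u}) : RedStmt.{u} := by
  intro G _ _ p
  obtain ⟨S, hS, hT, hC, h256⟩ := big sm p
  obtain ⟨K, hK, hk, h64⟩ := nf p
  have gen : ∀ x ∈ ({p.t, p.f, p.a, p.b, p.e} : Set G), x ∈ p.T := fun x h => p.hT ▸ subset_closure h
  have mt := gen p.t (by simp)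
  have mf := gen p.f (by simp)
  have ma := gen p.a (by simp)
  have mb := gen p.b (by simp)
  have me := gen p.e (by simp)
  have ct : ∀ x ∈ p.T, Commute p.t x := fun x h => (mem_centralizer_singleton_iff.1 (p.syl.le h)).symm
  have inT : ∀ g ∈ S, cn p.t g = p.t → g ∈ p.T := fun g h e =>
    hC.le ⟨h, mem_centralizer_singleton_iff.2 (cn_eq.1 e).symm⟩
  have cen : ∀ {g x}, g ∈ normalizer (p.T : Set G) → (∀ y ∈ p.T, Commute x y) →
      ∀ y ∈ p.T, Commute (cn x g) y := fun {g x} hg h y hy => by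
    simpa only [cn_cn'] using comm_cn (h _ (cn_mem (inv_mem hg) hy)) g
  have inj : ∀ {x y g : G}, cn x g = cn y g → x = y := fun e => by simpa [cn] using e
  have ne1 : ∀ g, cn p.t g ≠ 1 := fun g e => p.t1 (inj (e.trans (by simp [cn])))
  obtain ⟨g, ⟨gS, gN⟩, gT⟩ := SetLike.exists_of_lt (lt_inf_normalizer_of_lt hS
    (hT.lt_of_ne fun e => by rw [e] at h64; omega))
  have gt : cn p.t g ≠ p.t := fun e => gT (inT g gS e)
  rcases p.he' with e1 | ⟨h1, h2, fe, ee⟩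
  · refine ⟨p.ff'.resolve_right fun hf => ?_, fun h => absurd e1 h⟩
    have cf : ∀ y ∈ p.T, Commute p.f y := fun y hy => by
      have : p.T ≤ centralizer {p.f} := p.hT ▸ (closure_le _).2 (by
        rintro x (rfl | rfl | rfl | rfl | rfl) <;> refine mem_centralizer_singleton_iff.2 ?_
        exacts [p.tf, rfl, p.fa.symm, p.fb.symm, by simp [e1]])
      exact (mem_centralizer_singleton_iff.1 (this hy)).symm
    obtain ⟨k, k1, k2⟩ := hk _ (cn_mem gN mf)
    rw [e1, mul_one, or_self] at k2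
    have := (z0 hK (k2 ▸ k1) (cn_eq.2 (cen gN cf _ ma).symm) (cn_eq.2 (cen gN cf _ mb).symm)).sq
    rw [← mul_cn, hf] at this
    exact this.elim (fun h => ne1 g h.2) gt
  have he := And.intro h1 h2
  have orb : ∀ g ∈ normalizer (p.T : Set G), cn p.t g = p.z ∨ cn p.t g = p.t ∨ cn p.t g = p.t * p.z :=
    fun g hg => by
      obtain ⟨k, k1, k2⟩ := hk _ (cn_mem hg mt)
      exact (zc hK he fe k1 k2 (cen hg ct _ ma).symm (cen hg ct _ mb).symm (cen hg ct _ me)).resolve_left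
        (ne1 g)
  have at' : cn p.a p.t = p.a := cn_eq.2 p.ta.symm
  have az : cn p.a p.z = p.a := cn_eq.2 p.za.symm
  rcases p.ff' with hf | hf
  · refine ⟨hf, fun _ => fe.resolve_right fun fe => ?_⟩
    have s0 : ∀ u ∈ K, u * u = 1 ∨ u * u = p.z := fun u hu => by
      obtain ⟨c, hc, h⟩ := sq0 hK hu
      rwa [hc.sq.elim And.right fun e => e.trans hf, one_mul] at h
    have tz1 : p.t * p.z ≠ 1 := fun e => zt p (by
      rw [← inv_eq_of_mul_eq_one_right e, inv_eq_of_mul_eq_one_right p.tt])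
    have tzz : p.t * p.z ≠ p.z := by simpa using p.t1
    have tzt : p.t * p.z ≠ p.t := by simpa using p.z1
    rcases ee with ee | ee
    · have ns : ∀ u ∈ p.T, u * u ≠ p.t := fun u hu e => by
        obtain ⟨k, k1, rfl | rfl⟩ := hk u hu
        · exact (s0 _ k1).elim (fun h => p.t1 (e.symm.trans h)) fun h => zt p (h.symm.trans e)
        · have := sq1 hK he hf fe (Or.inl ee) k1
          rw [e, ee, one_mul, ← (tz p).eq] at this
          exact this.elim p.t1 fun h => h.elim tzt.symm fun h => h at'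
      rcases orb g gN with h | h | h
      · exact ns _ (cn_mem (inv_mem gN) (mul_mem ma mb)) (by rw [← mul_cn, sq_ab, ← h, cn_cn])
      · exact gt h
      · refine ns _ (cn_mem (inv_mem gN) (mul_mem mf me)) ?_
        rw [← mul_cn, show p.f * p.e * (p.f * p.e) = p.f * (p.e * p.e) * cn p.f p.e by
          simp only [cn]; group, ee, fe, mul_one, ← mul_assoc, ← mul_assoc, hf, one_mul, ← (tz p).eq,
          ← h, cn_cn]
    · have e2 : p.t * (p.z * p.t) = p.z := by rw [← (tz p).eq, ← mul_assoc, p.tt, one_mul]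
      have iv : ∀ u ∈ p.T, u * u = 1 → u ∈ K := fun u hu e => by
        obtain ⟨k, k1, rfl | rfl⟩ := hk u hu
        · exact k1
        · have := sq1 hK he hf fe (Or.inr ee) k1
          rw [e, ee, e2] at this
          exact (this.elim p.t1.symm fun h => h.elim p.z1.symm fun h => h (by simp [cn])).elim
      rcases orb g gN with h | h | h
      · have := s0 _ (mul_mem (iv _ (cn_mem (inv_mem gN) ma) (by rw [← mul_cn, p.aa]; simp [cn]))
          (iv _ (cn_mem (inv_mem gN) mb) (by rw [← mul_cn, p.bb]; simp [cn])))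
        rw [← mul_cn, ← mul_cn, sq_ab, show cn p.z g⁻¹ = p.t by rw [← h, cn_cn]] at this
        exact this.elim p.t1 (zt p).symm
      · exact gt h
      · obtain ⟨k, k1, k2 | k2⟩ := hk _ (cn_mem gN me)
        · have := s0 _ k1
          rw [← k2, ← mul_cn, ee, h] at this
          exact this.elim tz1 tzz
        · have := sq1 hK he hf fe (Or.inr ee) k1
          rw [← k2, ← mul_cn, ee, h, e2, cn_mul, at', az] at this
          exact this.elim tzt fun h => h.elim tzz fun h => h rfl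
  exfalso
  obtain ⟨T1, hT1⟩ : ∃ T1, T1 = S ⊓ normalizer (p.T : Set G) := ⟨_, rfl⟩
  have l1 : p.T ≤ T1 := hT1 ▸ le_inf hT le_normalizer
  have l2 : T1 ≤ S := hT1 ▸ inf_le_left
  have i3 : p.T.relIndex T1 ≤ 3 := by
    rw [← hC, inf_comm, ← inf_relIndex_right, inf_assoc, inf_eq_right.2 l2, inf_relIndex_right,
      H39.relIndex_centralizer_eq_ncard]
    refine (Set.ncard_le_ncard (t := {p.z, p.t, p.t * p.z}) ?_).trans ((Set.ncard_insert_le _ _).trans
      (Nat.succ_le_succ ((Set.ncard_insert_le _ _).trans (by simp))))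
    rintro _ ⟨n, hn, rfl⟩
    simpa [cn] using orb n⁻¹ (inv_mem (hT1 ▸ hn).2)
  have i2 : (p.T.subgroupOf T1).index = 2 := by
    obtain ⟨n, hn⟩ := (hS.to_le l2).index (p.T.subgroupOf T1)
    rw [relIndex, hn] at i3
    rcases n with _ | _ | n
    · exact absurd (subgroupOf_eq_top.1 (index_eq_one.1 hn) (hT1 ▸ ⟨gS, gN⟩)) gT
    · exact hn
    · rw [pow_succ, pow_succ] at i3
      have := Nat.two_pow_pos n
      omega
  have c1 := (p.T.subgroupOf T1).card_mul_index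
  rw [i2, Nat.card_congr (subgroupOfEquivOfLe l1).toEquiv] at c1
  obtain ⟨g, ⟨gS, gN⟩, gT⟩ := SetLike.exists_of_lt (lt_inf_normalizer_of_lt hS
    (l2.lt_of_ne fun e => by rw [e] at c1; omega))
  have m2 : ∀ x ∈ T1, ∀ y ∈ T1, (x * y ∈ p.T ↔ (x ∈ p.T ↔ y ∈ p.T)) := fun x hx y hy =>
    mul_mem_iff_of_index_two i2 (a := ⟨x, hx⟩) (b := ⟨y, hy⟩)
  have u1 : cn p.t g ∈ p.T := by
    rw [← hf, mul_cn]
    exact (m2 _ (cn_mem gN (l1 mf)) _ (cn_mem gN (l1 mf))).2 Iff.rfl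
  have u2 : cn (p.a * p.b) g⁻¹ ∈ p.T := by
    have x1 := cn_mem (inv_mem gN) (l1 ma)
    have x2 := cn_mem (inv_mem gN) (l1 me)
    rw [← h1, mul_cn, m2 _ x1 _ (h1 ▸ cn_mem (inv_mem gN) (l1 mb)),
      show cn (cn p.a p.e) g⁻¹ = (cn p.e g⁻¹)⁻¹ * cn p.a g⁻¹ * cn p.e g⁻¹ by simp only [cn]; group,
      m2 _ (mul_mem (inv_mem x2) x1) _ x2, m2 _ (inv_mem x2) _ x1, inv_mem_iff]
    tauto
  obtain ⟨k, k1, k2⟩ := hk _ u1
  have w := inv3 hK he hf k1 k2 (by rw [← mul_cn, p.tt]; simp [cn])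
    (by simpa only [cn_cn'] using comm_cn (ct _ u2).symm g)
  have cz' : ∀ y ∈ p.T, Commute p.z y := fun y hy => by
    have : p.T ≤ centralizer {p.z} := p.hT ▸ (closure_le _).2 (by
      rintro x (rfl | rfl | rfl | rfl | rfl) <;> refine mem_centralizer_singleton_iff.2 ?_
      exacts [tz p, fz p, p.za.symm, p.zb.symm, ze'.symm])
    exact (mem_centralizer_singleton_iff.1 (this hy)).symm
  refine gT (hT1 ▸ ⟨gS, mem_normalizer_of_cj_le fun y hy => ?_⟩)
  have hy' : cn y g ∈ p.T := mem_cj.1 hy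
  have y1 := cn_mem (le_normalizer (inv_mem gS)) (hT hy')
  have y2 := (comm_cn (w.comm (ct _ hy') (cz' _ hy')) g⁻¹).symm
  simp only [cn_cn] at y1 y2
  exact hC.le ⟨y1, mem_centralizer_singleton_iff.2 y2⟩

end Cfsg.Agent.H97.LTR
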