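import Mathlib

/-! Pairs of permutations: transfer of non-solvability and of prime divisors of the order from an
invariant subset, and the placement of one permutation against another by an even permutation. -/

set_option autoImplicit false

namespace Cfsg.Agent.H97.AnQ

open Equiv Equiv.Perm Subgroup MulAction Function
open scoped commutatorElement

def NS {G : Type*} [Group G] (a b : G) : Prop :=
  ∀ H : Subgroup G, a ∈ H → b ∈ H → ¬ Group.IsSolvable H

def Cy {G : Type*} [Group G] (p : ℕ) (a : G) : Prop := ∃ l, l.Prime ∧ l ≠ p ∧ l ∣ orderOf a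

def Good {G : Type*} [Group G] (p : ℕ) (a b : G) : Prop := Cy p (a * b) ∧ NS a b

def Emb {α β : Type*} (w : Perm α) (τ : Perm β) : Prop :=
  ∃ h : β → α, Injective h ∧ ∀ t, w (h t) = h (τ t)

def wd {G : Type*} [Group G] (a b : G) (l : List Bool) : G := (l.map fun c => cond c a b).prod

theorem wd_mem {G : Type*} [Group G] {a b : G} {H : Subgroup G} (ha : a ∈ H) (hb : b ∈ H)
    (l : List Bool) : wd a b l ∈ H :=
  list_prod_mem fun x hx => by
    obtain ⟨c, -, rfl⟩ := List.mem_map.1 hx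
    cases c
    exacts [hb, ha]

theorem ns_of {G : Type*} [Group G] {a b : G} (l l' : List Bool) (h1 : a ≠ 1)
    (h : a * wd a b l * (wd a b l' * a * (wd a b l')⁻¹) * a =
      wd a b l * a * (wd a b l' * a * (wd a b l')⁻¹)) : NS a b := fun H ha hb => by
  refine not_isSolvable_of_mem_derivedSeries (g := (⟨a, ha⟩ : H)) (fun e => h1 (congrArg Subtype.val e))
    fun n => ?_
  induction n with
  | zero => exact mem_top _
  | succ n ih =>
    have := (derivedSeries_normal H (n + 1)).conj_mem _ (commutator_mem_commutator ih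
      ((derivedSeries_normal H n).conj_mem _ ih ⟨_, wd_mem ha hb l'⟩)) ⟨_, wd_mem ha hb l⟩
    convert this using 1
    refine Subtype.ext ?_
    change a = wd a b l * ⁅a, wd a b l' * a * (wd a b l')⁻¹⁆ * (wd a b l)⁻¹
    generalize wd a b l' * a * (wd a b l')⁻¹ = y at h
    rw [commutatorElement_def, ← mul_assoc, ← mul_assoc, ← mul_assoc, ← h]
    group

variable {α β γ : Type*}

theorem Emb.trans {w : Perm α} {τ : Perm β} {ρ : Perm γ} (h : Emb w τ) (h' : Emb τ ρ) : Emb w ρ := by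
  obtain ⟨f, hf, e⟩ := h
  obtain ⟨g, hg, e'⟩ := h'
  exact ⟨f ∘ g, hf.comp hg, fun t => by simp only [comp_apply, e, e']⟩

theorem NS.lift {f : β → α} (hf : Injective f) {a b : Perm α} {a' b' : Perm β}
    (ha : ∀ t, a (f t) = f (a' t)) (hb : ∀ t, b (f t) = f (b' t)) (h : NS a' b') : NS a b := by
  intro H h1 h2 hs
  let K : Subgroup (Perm α × Perm β) :=
    { carrier := {c | c.1 ∈ H ∧ ∀ t, c.1 (f t) = f (c.2 t)}
      one_mem' := ⟨one_mem _, fun _ => rfl⟩
      mul_mem' := fun {c d} hc hd => ⟨mul_mem hc.1 hd.1, fun t => by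
        simp only [Prod.fst_mul, Prod.snd_mul, mul_apply, hd.2, hc.2]⟩
      inv_mem' := fun {c} hc => ⟨inv_mem hc.1, fun t => by
        simp only [Prod.fst_inv, Prod.snd_inv]
        rw [Perm.inv_eq_iff_eq, hc.2]
        simp⟩ }
  have : Group.IsSolvable K := Group.isSolvable_of_isSolvable_injective
    (f := ((MonoidHom.fst _ _).comp K.subtype).codRestrict H fun c => c.2.1) fun c d e => by
      have e' : c.1.1 = d.1.1 := congrArg Subtype.val e
      exact Subtype.ext (Prod.ext e' (Equiv.ext fun t => hf (by rw [← c.2.2, ← d.2.2, e'])))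
  exact h (K.map (MonoidHom.snd _ _)) ⟨(a, a'), ⟨h1, ha⟩, rfl⟩ ⟨(b, b'), ⟨h2, hb⟩, rfl⟩
    (Group.isSolvable_of_surjective (MonoidHom.subgroupMap_surjective _ K))

theorem pow_lift {f : β → α} {a : Perm α} {a' : Perm β} (ha : ∀ t, a (f t) = f (a' t)) (k : ℕ) (t : β) :
    (a ^ k) (f t) = f ((a' ^ k) t) := by
  induction k with
  | zero => rfl
  | succ k ih => rw [pow_succ', pow_succ', mul_apply, mul_apply, ih, ha]

theorem Cy.lift {p : ℕ} {f : β → α} (hf : Injective f) {a : Perm α} {a' : Perm β} (q : ℕ)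
    (ha : ∀ t, (a ^ q) (f t) = f (a' t)) (h : Cy p a') : Cy p a := by
  obtain ⟨l, h1, h2, h3⟩ := h
  refine ⟨l, h1, h2, h3.trans (orderOf_dvd_of_pow_eq_one (Equiv.ext fun t => hf ?_))⟩
  rw [← pow_lift ha, ← pow_mul, mul_comm, pow_mul, pow_orderOf_eq_one, one_pow]
  rfl

theorem cy_of {p : ℕ} {a : Perm α} (l : ℕ) (x : α) (h1 : l.Prime) (h2 : l ≠ p) (h3 : (a ^ l) x = x)
    (h4 : a x ≠ x) : Cy p a := by
  refine ⟨l, h1, h2, ?_⟩
  rcases (Nat.dvd_prime h1).1 (pow_smul_eq_iff_period_dvd.1 (show a ^ l • x = x from h3)) with e | e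
  · exact absurd (period_eq_one_iff.1 e) h4
  · exact e ▸ period_dvd_orderOf a x

theorem ns5 : NS (swap (1 : Fin 5) 2 * swap 0 1) (swap 3 4 * swap 2 3) :=
  ns_of [false] [false, true, true, false] (by decide) (by decide +kernel)

theorem ns_wd [DecidableEq β] {a b : Perm β} (l l' : List Bool) (e : Fin 5 → β) (he : Injective e)
    (h1 : ∀ i, wd a b l (e i) = e ((swap (1 : Fin 5) 2 * swap 0 1 :) i))
    (h2 : ∀ i, wd a b l' (e i) = e ((swap (3 : Fin 5) 4 * swap 2 3 :) i)) : NS a b :=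
  fun H ha hb => NS.lift he h1 h2 ns5 H (wd_mem ha hb l) (wd_mem ha hb l')

variable [Fintype α] [DecidableEq α]

def P (p : ℕ) (u w : Perm α) : Prop := ∃ g : Perm α, sign g = 1 ∧ Good p u (g * w * g⁻¹)

theorem P.symm {p : ℕ} {u w : Perm α} (h : P p u w) : P p w u := by
  obtain ⟨g, h1, h2, h3⟩ := h
  refine ⟨g⁻¹, by simpa using h1, h2.lift (f := ⇑(w * g⁻¹)) (Equiv.injective _) 1 (by simp),
    fun H ha hb => ?_⟩
  exact h3.lift (f := ⇑g⁻¹) (Equiv.injective _) (by simp) (by simp) H hb ha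

theorem model {p : ℕ} (hp : 2 ≠ p) [Fintype β] [DecidableEq β] (hβ : 3 ≤ Fintype.card β)
    {u w : Perm α} {σ τ : Perm β} {f : β → α} (hf : Injective f) {q : ℕ} (hq : q = 1 ∨ 3 ≤ q)
    (hu : ∀ t, (u ^ q) (f t) = f (σ t)) (out : ∀ i, 0 < i → i < q → ∀ t t', (u ^ i) (f t) ≠ f t')
    (hw : Emb w τ) (s s' : Perm β) (hs : sign s ≠ sign s') (G : Good p σ (s * τ * s⁻¹))
    (G' : Good p σ (s' * τ * s'⁻¹)) : P p u w := by
  obtain ⟨h, hh, hw⟩ := hw
  have key : ∀ (s : Perm β) (g : Perm α), (∀ t, g (h t) = f (s t)) →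
      ∀ t, (g * w * g⁻¹) (f t) = f ((s * τ * s⁻¹) t) := fun s g e t => by
    have : g⁻¹ (f t) = h (s⁻¹ t) := by rw [Perm.inv_eq_iff_eq, e]; simp
    simp only [mul_apply, this, hw, e]
  have ns : ∀ (s : Perm β) (g : Perm α), (∀ t, g (h t) = f (s t)) → NS σ (s * τ * s⁻¹) →
      NS u (g * w * g⁻¹) := fun s g e G H ha hb => G.lift hf hu (key s g e) H (pow_mem ha q) hb
  by_cases hc : q = 1 ∨ ∀ z, (∀ t, h t ≠ z) → w z = z
  · obtain ⟨s, g, h1, e, G⟩ : ∃ (s : Perm β) (g : Perm α), sign g = 1 ∧ (∀ t, g (h t) = f (s t)) ∧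
        Good p σ (s * τ * s⁻¹) := by
      obtain ⟨g, e⟩ := exists_extending_pair h f hh hf
      have e' : ∀ (s : Perm β) t, (s.viaFintypeEmbedding ⟨f, hf⟩ * g) (h t) = f (s t) := fun s t => by
        rw [mul_apply, e]
        exact viaFintypeEmbedding_apply_image s ⟨f, hf⟩ t
      by_cases h1 : sign s = sign g
      · exact ⟨s, _, by rw [map_mul, viaFintypeEmbedding_sign, h1, Int.units_mul_self], e' s, G⟩
      · refine ⟨s', _, ?_, e' s', G'⟩
        rw [map_mul, viaFintypeEmbedding_sign, (Int.units_ne_iff_eq_neg.1 hs.symm).trans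
          (neg_eq_iff_eq_neg.2 (Int.units_ne_iff_eq_neg.1 h1)), Int.units_mul_self]
    refine ⟨g, h1, G.1.lift hf q fun t => ?_, ns s g e G.2⟩
    have : ∀ i, i < q → ((u * (g * w * g⁻¹)) ^ (i + 1)) (f t) =
        (u ^ (i + 1)) (f ((s * τ * s⁻¹) t)) := fun i hi => by
      induction i with
      | zero => simp only [zero_add, pow_one, mul_apply u, key s g e]
      | succ i ih =>
        rw [pow_succ', mul_apply, ih (by omega), pow_succ' u (i + 1), mul_apply, mul_apply u]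
        congr 1
        rw [mul_apply, mul_apply, (hc.resolve_left (by omega)) _ fun t' e' => ?_]
        · simp
        · rw [eq_comm, Perm.inv_eq_iff_eq, e] at e'
          exact out _ (by omega) hi _ _ e'
    obtain ⟨k, rfl⟩ : ∃ k, q = k + 1 := ⟨q - 1, by omega⟩
    rw [this k (by omega), hu, mul_apply σ]
  push Not at hc
  obtain ⟨h3, z, hz, hz'⟩ := hc
  have h3 : 3 ≤ q := by omega
  obtain ⟨t0, t1, t2, n1, n2, n3⟩ : ∃ t0 t1 t2 : β, t0 ≠ t1 ∧ t0 ≠ t2 ∧ t1 ≠ t2 :=
    Fintype.two_lt_card_iff.1 hβ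
  obtain ⟨t, ht⟩ := (s * τ * s⁻¹).surjective t0
  have o1 : ∀ t t', u (f t) ≠ f t' := fun t t' => by simpa using out 1 one_pos (by omega) t t'
  have o2 : ∀ t t', u (f t) ≠ u⁻¹ (f t') := fun t t' e => out 2 two_pos (by omega) t t' (by
    rw [pow_two, mul_apply, e]; simp)
  obtain ⟨g, e⟩ := exists_extending_pair (Sum.elim h fun b : Bool => cond b z (w z))
    (Sum.elim (f ∘ s) fun b : Bool => cond b (u (f t0)) (u⁻¹ (f t)))
    (hh.sumElim (Bool.injective_iff.2 hz') (by
      rintro a (_ | _) e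
      · exact hz (τ⁻¹ a) (w.injective (by rw [hw]; simpa using e))
      · exact hz a e))
    ((hf.comp s.injective).sumElim (Bool.injective_iff.2 (o2 _ _).symm) (by
      rintro a (_ | _) e
      · exact o1 (s a) t (Perm.eq_inv_iff_eq.1 e)
      · exact o1 _ _ e.symm))
  obtain ⟨g, h1, e1, e2, e3⟩ : ∃ g : Perm α, sign g = 1 ∧ (∀ t, g (h t) = f (s t)) ∧
      g z = u (f t0) ∧ g (w z) = u⁻¹ (f t) := by
    have e1 : ∀ t, g (h t) = f (s t) := fun t => e (.inl t)
    have e2 : g z = u (f t0) := e (.inr true)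
    have e3 : g (w z) = u⁻¹ (f t) := e (.inr false)
    rcases Int.units_eq_one_or (sign g) with h1 | h1
    · exact ⟨g, h1, e1, e2, e3⟩
    have i : ∀ {a b}, a ≠ b → u (f a) ≠ u (f b) := fun n => (u.injective.comp hf).ne n
    refine ⟨swap (u (f t1)) (u (f t2)) * g, by rw [map_mul, h1, sign_swap (i n3)]; rfl,
      fun t => ?_, ?_, ?_⟩
    · rw [mul_apply, e1, swap_apply_of_ne_of_ne (o1 _ _).symm (o1 _ _).symm]
    · rw [mul_apply, e2, swap_apply_of_ne_of_ne (i n1) (i n2)]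
    · rw [mul_apply, e3, swap_apply_of_ne_of_ne (o2 _ _).symm (o2 _ _).symm]
  have a1 : (u * (g * w * g⁻¹)) (f t) = u (f t0) := by rw [mul_apply, key s g e1, ht]
  refine ⟨g, h1, cy_of 2 (f t) Nat.prime_two hp ?_ (a1 ▸ o1 _ _), ns s g e1 G.2⟩
  rw [pow_two, mul_apply, a1, ← e2]
  simp [e3]

end Cfsg.Agent.H97.AnQ
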