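import Cfsg.Agent.H97.AnQA

/-! Two non-identity `p`-elements of a symmetric group of degree at least five, `p` odd. -/

set_option autoImplicit false

namespace Cfsg.Agent.H97.AnQ

open Equiv Equiv.Perm Subgroup MulAction Function

variable {α β γ : Type*}

theorem cyc (u : Perm α) (x : α) (q r : ℕ) [NeZero r] (hq : 0 < q) (h : period u x = q * r) :
    ∃ f : ZMod r → α, Injective f ∧ (∀ t, (u ^ q) (f t) = f (Equiv.addRight (1 : ZMod r) t)) ∧
      (∀ i, 0 < i → i < q → ∀ t t', (u ^ i) (f t) ≠ f t') ∧ ∀ t, ∃ i : ℕ, f t = (u ^ i) x := by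
  have k : ∀ i j : ℕ, (u ^ i) x = (u ^ j) x ↔ ((q * r : ℕ) : ℤ) ∣ j - i := fun i j => by
    rw [← h, ← zpow_smul_eq_iff_period_dvd, sub_eq_neg_add, zpow_add, mul_smul, zpow_neg,
      inv_smul_eq_iff, zpow_natCast, zpow_natCast, eq_comm]
    rfl
  have k' : ∀ i j : ℕ, (u ^ (q * i)) x = (u ^ (q * j)) x ↔ (i : ZMod r) = j := fun i j => by
    rw [k, Nat.cast_mul, Nat.cast_mul, Nat.cast_mul, ← mul_sub,
      mul_dvd_mul_iff_left (by exact_mod_cast hq.ne'), ← ZMod.intCast_eq_intCast_iff_dvd_sub]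
    simp
  refine ⟨fun t => (u ^ (q * t.val)) x, fun t t' e => by simpa using (k' _ _).1 e, fun t => ?_,
    fun i h1 h2 t t' e => ?_, fun t => ⟨_, rfl⟩⟩
  · rw [← mul_apply, ← pow_add, add_comm, ← Nat.mul_succ, k']
    simp
  · rw [← mul_apply, ← pow_add, k] at e
    have : (q : ℤ) ∣ i := by
      have := (Dvd.intro _ rfl : (q : ℤ) ∣ q * (t'.val - t.val)).sub
        ((Int.natCast_dvd_natCast.2 (Dvd.intro _ rfl)).trans e)
      rwa [show (q : ℤ) * (t'.val - t.val) - ((q * t'.val : ℕ) - (i + q * t.val : ℕ)) = i by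
        push_cast; ring] at this
    exact absurd (Nat.le_of_dvd h1 (Int.natCast_dvd_natCast.1 this)) (by omega)

theorem exists_period {p k : ℕ} (hp : p.Prime) {u : Perm α} (h : orderOf u = p ^ (k + 1)) :
    ∃ x : α, period u x = p ^ (k + 1) := by
  by_contra n
  push Not at n
  have : u ^ p ^ k = 1 := Equiv.ext fun x => by
    obtain ⟨j, hj, e⟩ := (Nat.dvd_prime_pow hp).1 (h ▸ period_dvd_orderOf u x)
    exact pow_smul_eq_iff_period_dvd.2 ((dvd_of_eq e).trans <| pow_dvd_pow p (by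
      have : j ≠ k + 1 := fun e' => n x (e' ▸ e)
      omega))
  exact absurd (Nat.le_of_dvd (pow_pos hp.pos k) (h ▸ orderOf_dvd_of_pow_eq_one this))
    (not_le.2 (Nat.pow_lt_pow_right hp.one_lt k.lt_succ_self))

theorem step [Fintype α] [Fintype γ] {w : Perm α} (h3 : orderOf w = 3) {τ : Perm γ} (h : Emb w τ) :
    Emb w (τ.sumCongr (Equiv.addRight (1 : ZMod 3))) ∨ ∀ k, Fintype.card γ + k ≤ Fintype.card α →
      Emb w (τ.sumCongr (1 : Perm (Fin k))) := by
  classical
  obtain ⟨h, hh, e⟩ := h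
  by_cases hc : ∃ z, (∀ t, h t ≠ z) ∧ w z ≠ z
  · obtain ⟨z, hz, hz'⟩ := hc
    obtain ⟨f, hf, e1, -, e2⟩ := cyc w z 1 3 one_pos (((Nat.dvd_prime Nat.prime_three).1
      (h3 ▸ period_dvd_orderOf w z)).resolve_left fun e => hz' (period_eq_one_iff.1 e))
    refine Or.inl ⟨Sum.elim h f, hh.sumElim hf fun a b e' => ?_, ?_⟩
    · obtain ⟨i, hi⟩ := e2 b
      exact hz ((τ ^ i)⁻¹ a) ((w ^ i).injective (by rw [pow_lift e, ← hi, ← e']; simp))
    · rintro (t | t)
      exacts [e t, by simpa using e1 t]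
  · push Not at hc
    refine Or.inr fun k hk => ?_
    obtain ⟨f⟩ := Function.Embedding.nonempty_of_card_le (α := Fin k) (β := ↥(Set.range h)ᶜ) (by
      rw [Fintype.card_fin, Fintype.card_compl_set, Set.card_range_of_injective hh]; omega)
    refine ⟨Sum.elim h fun i => f i, hh.sumElim (Subtype.val_injective.comp f.injective)
      fun a b e' => (f b).2 ⟨a, e'⟩, ?_⟩
    rintro (t | t)
    exacts [e t, hc _ fun a e' => (f t).2 ⟨a, e'⟩]

def ok (i j : ℕ) : Bool := (max i j - min i j) ∈ [1, 2, 3, 4, 5, 6, 8, 12, 16]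

theorem big {p : ℕ} (hp : 2 ≠ p) [DecidableEq β] (σ : Perm β) (x : ℕ → β)
    (hσ : ∀ i, σ (x i) = x (i + 1)) (hx : ∀ i j, ok i j = true → x i ≠ x j) :
    Good p σ (swap (x 0) (x 4) * σ⁻¹ * (swap (x 0) (x 4))⁻¹) ∧
      Good p σ (swap (x 0) (x 4) * swap (x 2) (x 6) * σ⁻¹ * (swap (x 0) (x 4) * swap (x 2) (x 6))⁻¹) := by
  have pw : ∀ k i, (σ ^ k) (x i) = x (i + k) := fun k i => by
    induction k with
    | zero => rfl
    | succ k ih => rw [pow_succ', mul_apply, ih, hσ, add_assoc]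
  have cj : ∀ k i j, σ ^ k * swap (x i) (x j) * (σ ^ k)⁻¹ = swap (x (i + k)) (x (j + k)) :=
    fun k i j => by rw [← swap_apply_apply, pw, pw]
  have sw : ∀ i j k, ok k i = true → ok k j = true → swap (x i) (x j) (x k) = x k :=
    fun i j k h h' => swap_apply_of_ne_of_ne (hx _ _ h) (hx _ _ h')
  have ns : ∀ (s : Perm β) (k : ℕ), σ ^ k * s * (σ ^ k)⁻¹ * s⁻¹ = swap (x 4) (x 8) * swap (x 0) (x 4) →
      NS σ (s * σ⁻¹ * s⁻¹) := fun s k e H ha hb => by
    have he : Injective fun i : Fin 5 => x (4 * i) := fun i j e => by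
      by_contra n
      exact hx _ _ (by clear e; revert i j; decide) e
    have m : swap (x 4) (x 8) * swap (x 0) (x 4) ∈ H := by
      convert mul_mem (pow_mem ha k) (pow_mem hb k) using 1
      rw [← e, conj_pow]
      group
    refine NS.lift he (a := swap (x 4) (x 8) * swap (x 0) (x 4))
      (b := swap (x 12) (x 16) * swap (x 8) (x 12)) (fun t => ?_) (fun t => ?_) ns5 H m ?_
    · rw [mul_apply, mul_apply, ← he.swap_apply, ← he.swap_apply]
      rfl
    · rw [mul_apply, mul_apply, ← he.swap_apply, ← he.swap_apply]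
      rfl
    · convert mul_mem (mul_mem (pow_mem ha 8) m) (inv_mem (pow_mem ha 8)) using 1
      rw [← cj 8 4 8, ← cj 8 0 4]
      group
  have e1 : ∀ a : Perm β, σ * (a * σ⁻¹ * a⁻¹) = σ ^ 1 * a * (σ ^ 1)⁻¹ * a⁻¹ := fun a => by group
  have e2 : ∀ a b : Perm β, σ * (a * b * σ⁻¹ * (a * b)⁻¹) = σ ^ 1 * a * (σ ^ 1)⁻¹ *
      (σ ^ 1 * b * (σ ^ 1)⁻¹) * b⁻¹ * a⁻¹ := fun a b => by group
  refine ⟨⟨e1 _ ▸ cy_of 2 (x 0) Nat.prime_two hp ?_ ?_, ns _ 4 (by rw [cj, swap_inv])⟩,
    e2 _ _ ▸ cy_of 2 (x 2) Nat.prime_two hp ?_ ?_, ns _ 2 (by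
      rw [show ∀ a b c : Perm β, c * (a * b) * c⁻¹ * (a * b)⁻¹ =
        (c * a * c⁻¹) * (c * b * c⁻¹) * b⁻¹ * a⁻¹ from fun a b c => by group, cj, cj,
        ← swap_apply_apply, sw 2 6 4 rfl rfl, sw 2 6 8 rfl rfl, swap_inv])⟩
  all_goals
    simp only [cj, swap_inv, pow_two, mul_apply, swap_apply_left, swap_apply_right, Nat.reduceAdd, sw 0 4 2 rfl rfl,
      sw 0 4 6 rfl rfl, sw 3 7 6 rfl rfl, sw 3 7 2 rfl rfl, sw 1 5 2 rfl rfl, sw 1 5 6 rfl rfl,
      sw 1 5 4 rfl rfl, sw 1 5 0 rfl rfl]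
  all_goals exact hx _ _ rfl

def c3 [DecidableEq β] (a b c : β) : Perm β := swap a b * swap b c

theorem f5 : Good 5 (Equiv.addRight (1 : ZMod 5))
      (swap 0 2 * (Equiv.addRight (1 : ZMod 5) : Perm _)⁻¹ * (swap 0 2)⁻¹) ∧
    Good 5 (Equiv.addRight (1 : ZMod 5)) (swap 0 2 * swap 1 3 *
      (Equiv.addRight (1 : ZMod 5) : Perm _)⁻¹ * (swap 0 2 * swap 1 3)⁻¹) :=
  ⟨⟨cy_of 2 0 Nat.prime_two (by decide) (by decide +kernel) (by decide +kernel),
    ns_wd [true, true, true, false] [true, false, true, true] ![0, 1, 4, 2, 3] (by decide)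
      (by decide +kernel) (by decide +kernel)⟩,
    cy_of 3 0 Nat.prime_three (by decide) (by decide +kernel) (by decide +kernel),
    ns_wd [true, false] [false, true] ![0, 2, 4, 1, 3] (by decide) (by decide +kernel)
      (by decide +kernel)⟩

theorem g5 : Good 3 (c3 (0 : Fin 5) 1 2) (c3 0 3 4) :=
  ⟨cy_of 5 0 Nat.prime_five (by decide) (by decide +kernel) (by decide +kernel),
    ns_wd [true] [false] ![2, 1, 0, 4, 3] (by decide) (by decide +kernel) (by decide +kernel)⟩

theorem g6 : Good 3 (c3 (0 : Fin 6) 1 2 * c3 3 4 5) (c3 0 1 3) :=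
  ⟨cy_of 2 0 Nat.prime_two (by decide) (by decide +kernel) (by decide +kernel),
    ns_wd [false] [true, true, false, true] ![3, 1, 0, 2, 5] (by decide) (by decide +kernel)
      (by decide +kernel)⟩

theorem g6' : Good 3 (c3 (0 : Fin 6) 1 2 * c3 3 4 5) (c3 0 1 3 * c3 2 5 4) :=
  ⟨cy_of 5 0 Nat.prime_five (by decide) (by decide +kernel) (by decide +kernel),
    ns_of [false] [false, true, true, false] (by decide +kernel) (by decide +kernel)⟩

theorem g9 : Good 3 (Equiv.addRight (1 : ZMod 9)) (c3 1 8 2) :=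
  ⟨cy_of 2 0 Nat.prime_two (by decide) (by decide +kernel) (by decide +kernel),
    ns_wd [false] [true, false, true, false] ![1, 2, 8, 6, 4] (by decide) (by decide +kernel)
      (by decide +kernel)⟩

theorem g9' : Good 3 (Equiv.addRight (1 : ZMod 9)) (c3 1 3 8 * c3 4 7 5) :=
  ⟨cy_of 2 6 Nat.prime_two (by decide) (by decide +kernel) (by decide +kernel),
    ns_wd [false] [true, false, true, false] ![5, 7, 4, 0, 2] (by decide) (by decide +kernel)
      (by decide +kernel)⟩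

theorem g9'' : Good 3 (Equiv.addRight (1 : ZMod 9)) (c3 0 8 2 * c3 1 4 3 * c3 5 6 7) :=
  ⟨cy_of 7 1 Nat.prime_seven (by decide) (by decide +kernel) (by decide +kernel),
    ns_wd [true, true, false] [false, true, true] ![1, 0, 6, 3, 2] (by decide) (by decide +kernel)
      (by decide +kernel)⟩

theorem emb9 {τ : Perm γ} {ρ : Perm (ZMod 9)} (v : Fin 9 → γ) (hv : Injective v)
    (h : ∀ t : Fin 9, τ (v t) = v (ρ t)) : Emb τ ρ := ⟨v, hv, h⟩

variable [Fintype α] [DecidableEq α]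

theorem model' [Fintype β] [DecidableEq β] (hβ : 3 ≤ Fintype.card β)
    {u w : Perm α} {σ τ : Perm β} {f : β → α} (hf : Injective f) {q : ℕ} (hq : q = 1 ∨ 3 ≤ q)
    (hu : ∀ t, (u ^ q) (f t) = f (σ t)) (out : ∀ i, 0 < i → i < q → ∀ t t', (u ^ i) (f t) ≠ f t')
    (hw : Emb w τ) (c : Perm β) (hs : sign c = -1) (hc : c * τ = τ * c) (G : Good 3 σ τ) : P 3 u w :=
  model (by decide) hβ hf hq hu out hw 1 c (by rw [hs, map_one]; decide) (by simpa using G)
    (by rwa [hc, mul_inv_cancel_right])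

theorem model'' [Fintype β] [DecidableEq β] (hβ : 3 ≤ Fintype.card β)
    {u w : Perm α} {σ τ : Perm β} (hu : Emb u σ)
    (hw : Emb w τ) (c : Perm β) (hs : sign c = -1) (hc : c * τ = τ * c) (G : Good 3 σ τ) : P 3 u w := by
  obtain ⟨f, hf, hu⟩ := hu
  exact model' hβ hf (Or.inl rfl) (by simpa using hu) (by omega) hw c hs hc G

omit [Fintype α] [DecidableEq α] in
theorem emb_cyc {w : Perm α} {p k : ℕ} [NeZero (p ^ (k + 1))] (hp : p.Prime)
    (h : orderOf w = p ^ (k + 1)) : Emb w (Equiv.addRight (1 : ZMod (p ^ (k + 1)))) := by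
  obtain ⟨x, hx⟩ := exists_period hp h
  obtain ⟨f, hf, e, -⟩ := cyc w x 1 _ one_pos (hx.trans (one_mul _).symm)
  exact ⟨f, hf, by simpa using e⟩

open Sum in
theorem three (hn : 5 ≤ Fintype.card α) {u w : Perm α} (hu : orderOf u = 3) (hw : orderOf w = 3) :
    P 3 u w := by
  have c6 : ∀ {u : Perm α}, Emb u (Perm.sumCongr (Equiv.addRight (1 : ZMod 3))
      (Equiv.addRight (1 : ZMod 3))) → Fintype.card (ZMod 3) + 3 ≤ Fintype.card α :=
    fun ⟨f, hf, _⟩ => by simpa using Fintype.card_le_of_injective f hf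
  have AB : ∀ {u w : Perm α}, Emb u (Perm.sumCongr (Equiv.addRight (1 : ZMod 3))
      (Equiv.addRight (1 : ZMod 3))) → Emb w (Perm.sumCongr (Equiv.addRight (1 : ZMod 3))
      (1 : Perm (Fin 3))) → P 3 u w := fun hu hw => model'' (by simp)
    (hu.trans ⟨![inl 0, inl 1, inl 2, inr 0, inr 1, inr 2], by decide, by decide +kernel⟩)
    (hw.trans ⟨![inl 0, inl 1, inr 0, inl 2, inr 1, inr 2], by decide, by decide +kernel⟩)
    (swap 4 5) (sign_swap (by decide)) (by decide +kernel) g6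
  rcases step hu (emb_cyc (k := 0) Nat.prime_three hu) with hu | hu <;>
    rcases step hw (emb_cyc (k := 0) Nat.prime_three hw) with hw | hw
  · exact model'' (by simp)
      (hu.trans ⟨![inl 0, inl 1, inl 2, inr 0, inr 1, inr 2], by decide, by decide +kernel⟩)
      (hw.trans ⟨![inl 0, inl 1, inr 0, inl 2, inr 2, inr 1], by decide, by decide +kernel⟩)
      (swap 0 2 * swap 1 5 * swap 3 4) (by simp) (by decide +kernel) g6'
  · exact AB hu (hw 3 (c6 hu))
  · exact (AB hw (hu 3 (c6 hw))).symm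
  · exact model'' (by simp)
      ((hu 2 hn).trans ⟨![inl 0, inl 1, inl 2, inr 0, inr 1], by decide, by decide +kernel⟩)
      ((hw 2 hn).trans ⟨![inl 0, inr 0, inr 1, inl 1, inl 2], by decide, by decide +kernel⟩)
      (swap 1 2) (sign_swap (by decide)) (by decide +kernel) g5

open Sum in
theorem nine {k : ℕ} {u w : Perm α} (hu : orderOf u = 3 ^ (k + 2)) (hw : orderOf w = 3) : P 3 u w := by
  obtain ⟨x, hx⟩ := exists_period Nat.prime_three hu
  obtain ⟨f, hf, e, out, -⟩ := cyc u x (3 ^ k) 9 (by positivity) (by rw [hx]; ring)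
  have hq : 3 ^ k = 1 ∨ 3 ≤ 3 ^ k := by
    rcases k with _ | k
    exacts [Or.inl rfl, Or.inr (Nat.le_self_pow k.succ_ne_zero 3)]
  have c9 : 9 ≤ Fintype.card α := by simpa using Fintype.card_le_of_injective f hf
  rcases step hw (emb_cyc (k := 0) Nat.prime_three hw) with h | h
  · rcases step hw h with h | h
    · exact model' (by simp) hf hq e out (h.trans (emb9 ![inl (inl 0), inl (inr 0), inl (inl 2),
        inl (inr 2), inl (inr 1), inr 0, inr 1, inr 2, inl (inl 1)] (by decide) (by decide +kernel)))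
        (swap 0 1 * swap 8 4 * swap 2 3) (by
          rw [map_mul, map_mul, sign_swap (by decide), sign_swap (by decide), sign_swap (by decide)]
          rfl) (by decide +kernel) g9''
    · exact model' (by simp) hf hq e out ((h 3 c9).trans (emb9 ![inr 0, inl (inl 0), inr 1, inl (inl 1),
        inl (inr 0), inl (inr 2), inr 2, inl (inr 1), inl (inl 2)] (by decide) (by decide +kernel)))
        (swap 0 2) (sign_swap (by decide)) (by decide +kernel) g9'
  · exact model' (by simp) hf hq e out ((h 6 c9).trans (emb9 ![inr 0, inl 0, inl 2, inr 1, inr 2, inr 3,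
      inr 4, inr 5, inl 1] (by decide) (by decide +kernel))) (swap 0 3)
      (sign_swap (by decide)) (by decide +kernel) g9

theorem five {p k l : ℕ} (hp : p.Prime) (h3 : 3 ≤ p) {u w : Perm α} (hu : orderOf u = p ^ (k + (l + 1)))
    (hw : orderOf w = p ^ (l + 1)) (h5 : p ^ (l + 1) ≠ 3) : P p u w := by
  have ho : Odd p := hp.odd_of_ne_two (by omega)
  have : NeZero (p ^ (l + 1)) := ⟨pow_ne_zero _ hp.ne_zero⟩
  obtain ⟨x, hx⟩ := exists_period hp hu
  obtain ⟨f, hf, e, out, -⟩ := cyc u x (p ^ k) (p ^ (l + 1)) (pow_pos hp.pos _) (hx.trans (pow_add p k (l + 1)))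
  have hq : p ^ k = 1 ∨ 3 ≤ p ^ k := by
    rcases k with _ | k
    exacts [Or.inl rfl, Or.inr (h3.trans (Nat.le_self_pow k.succ_ne_zero p))]
  obtain ⟨h, hh, e'⟩ := emb_cyc hp ((orderOf_inv w).trans hw)
  have hw : Emb w (Equiv.addRight (1 : ZMod (p ^ (l + 1))) : Perm _)⁻¹ := ⟨h, hh, fun t => by
    rw [← Perm.eq_inv_iff_eq, e']; simp⟩
  have r3 : 3 ≤ p ^ (l + 1) := h3.trans (Nat.le_self_pow l.succ_ne_zero p)
  have hr : p ^ (l + 1) = 5 → p = 5 := fun e => ((Nat.prime_five.dvd_iff_eq hp.ne_one).1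
    (e ▸ dvd_pow_self p l.succ_ne_zero)).symm
  replace ho : Odd (p ^ (l + 1)) := ho.pow
  generalize p ^ (l + 1) = r at *
  by_cases r5 : r = 5
  · subst r5
    obtain rfl := hr rfl
    exact model (by decide) (by simp) hf hq e out hw _ _ (by
      rw [map_mul, sign_swap (by decide), sign_swap (by decide)]; decide) f5.1 f5.2
  have hx : ∀ i j, ok i j = true → (i : ZMod r) ≠ j := fun i j hij e => by
    obtain ⟨m, rfl⟩ := ho
    have : (2 * m + 1) ∣ max i j - min i j := by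
      rw [← Nat.modEq_iff_dvd' min_le_max, ← ZMod.natCast_eq_natCast_iff]
      rcases le_total i j with h | h <;> simp [h, e]
    simp only [ok, decide_eq_true_eq, List.mem_cons, List.not_mem_nil, or_false] at hij
    generalize max i j - min i j = d at this hij
    have hd := Nat.le_of_dvd (by omega) this
    have : m < 8 := by omega
    interval_cases m <;> omega
  have G := big (p := p) (by omega) (Equiv.addRight (1 : ZMod r)) Nat.cast (by simp) hx
  exact model (by omega) (by simpa using r3) hf hq e out hw _ _ (by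
    rw [map_mul, sign_swap (hx 0 4 rfl), sign_swap (hx 2 6 rfl)]; decide) G.1 G.2

theorem main (hn : 5 ≤ Fintype.card α) {p k l : ℕ} (hp : p.Prime) (h3 : 3 ≤ p) {u w : Perm α}
    (hu : orderOf u = p ^ (k + 1)) (hw : orderOf w = p ^ (l + 1)) : P p u w := by
  wlog h : l ≤ k generalizing u w k l
  · exact (this hw hu (by omega)).symm
  obtain ⟨k, rfl⟩ := Nat.exists_eq_add_of_le' h
  by_cases h5 : p ^ (l + 1) = 3
  · obtain ⟨rfl, e⟩ := (Nat.prime_three.pow_eq_iff).1 h5
    obtain rfl : l = 0 := by omega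
    rcases k with _ | k
    exacts [three hn hu hw, nine hu hw]
  · exact five (k := k) (l := l) hp h3 hu hw h5

end Cfsg.Agent.H97.AnQ
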