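import Cfsg.Agent.H97.KNorm
import Cfsg.Agent.H96.SubEq
import Cfsg.Agent.H98.Hyp
import Cfsg.Agent.H95.Tools
import Cfsg.Agent.S1949

/-!
Control of fusion by subgroups of small exponent (Benson, Grodal, Henke), and saturated fusion
systems over `2`-groups all of whose elements are conjugate into the centre.
-/

namespace Cfsg.Agent.H97

open Cfsg Cfsg.FusionSystem Cfsg.Agent.H98 Cfsg.Agent.H96

variable {Ω : Type*} [Group Ω] {S T : Subgroup Ω} {F : FusionSystem S} {P Q A D : Subgroup Ω}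
  {p : ℕ} [hp : Fact p.Prime]

/-- elements of order dividing `p`, or `4` when `p = 2` -/
def SmallElt (p : ℕ) (x : Ω) : Prop := x ^ p = 1 ∨ (p = 2 ∧ x ^ 4 = 1)

theorem SmallElt.card_zpowers {x : Ω} (h : SmallElt p x) (h1 : x ≠ 1) :
    Nat.card (Subgroup.zpowers x) = p ∨ Nat.card (Subgroup.zpowers x) = 4 := by
  rw [Nat.card_zpowers]
  by_cases h2 : x ^ p = 1
  · exact Or.inl (orderOf_eq_prime h2 h1)
  · rcases h with h | ⟨rfl, h⟩
    · exact absurd h h2
    · exact Or.inr (orderOf_eq_prime_pow (p := 2) (n := 1) (by simpa using h2) (by simpa using h))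

omit hp in
theorem SmallElt.map {x : Ω} (h : SmallElt p x) {f : Ω → Ω} (hf : HomOn P f) (hx : x ∈ P) :
    SmallElt p (f x) :=
  h.imp (fun h => by rw [← hf.map_pow hx, h, hf.map_one])
    fun h => ⟨h.1, by rw [← hf.map_pow hx, h.2, hf.map_one]⟩

theorem exists_pow_fix_chain [Finite P] (hP : IsPGroup p P) (α : MulAut P) (C : ℕ → Subgroup Ω)
    (h0 : C 0 = ⊥) (n : ℕ) (hmono : ∀ i < n, C i ≤ C (i + 1))
    (h : ∀ i < n, ∀ x ∈ P, x ∈ C (i + 1) → x⁻¹ * ext α x ∈ C i) :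
    ∃ k, ∀ x ∈ P, x ∈ C n → ext (α ^ p ^ k) x = x := by
  induction n with
  | zero =>
    refine ⟨0, fun x _ hx => ?_⟩
    rw [h0, Subgroup.mem_bot] at hx
    rw [hx, (homOn_ext _).map_one]
  | succ n ih =>
    exact exists_pow_fix_step hP α (hmono n n.lt_succ_self)
      (ih (fun i hi => hmono i (hi.trans n.lt_succ_self)) fun i hi => h i (hi.trans n.lt_succ_self))
      (h n n.lt_succ_self)

theorem pElt_of_fix [Finite P] {H : Subgroup (MulAut P)}
    (hfaith : ∀ α ∈ H, Nat.Coprime (orderOf α) p → (∀ x ∈ D, ext α x = x) → α = 1)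
    {α : MulAut P} (hα : α ∈ H) {j : ℕ} (h : ∀ x ∈ D, ext (α ^ p ^ j) x = x) :
    ∃ k, α ^ p ^ k = 1 := by
  obtain ⟨a, b, e, ⟨k, hk⟩, hb⟩ := H95.exists_p_mul_p' (p := p) (isOfFinOrder_of_finite (α ^ p ^ j))
  rw [hfaith _ (H.pow_mem (H.pow_mem hα _) _) hb fun x hx => ext_pow_of_fixed _ (h x hx) _,
    mul_one] at e
  exact ⟨j + k, by rw [pow_add, pow_mul, e, hk]⟩

/-- the stabilizer of an invariant chain whose top detects the `p'`-elements lies in `O_p` -/
theorem mem_pCoreIn_of_chain_on [Finite P] (hP : IsPGroup p P) (H : Subgroup (MulAut P))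
    (C : ℕ → Subgroup Ω) (n : ℕ) (h0 : C 0 = ⊥) (hn : C n ≤ P) (hmono : ∀ i < n, C i ≤ C (i + 1))
    (hinv : ∀ i ≤ n, ∀ α ∈ H, ∀ x ∈ P, x ∈ C i → ext α x ∈ C i)
    (hfaith : ∀ α ∈ H, Nat.Coprime (orderOf α) p → (∀ x ∈ C n, ext α x = x) → α = 1)
    {κ : MulAut P} (hκ : κ ∈ H) (h : ∀ i < n, ∀ x ∈ P, x ∈ C (i + 1) → x⁻¹ * ext κ x ∈ C i) :
    κ ∈ pCoreIn p H := by
  have key : chainStab H C n hinv ≤ pCoreIn p H := by
    refine le_pCoreIn (fun α hα => hα.1) (isPGroup_of_forall fun α hα => ?_) ?_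
    · obtain ⟨k, hk⟩ := exists_pow_fix_chain hP α C h0 n hmono hα.2
      exact pElt_of_fix hfaith hα.1 fun x hx => hk x (hn hx) hx
    · rintro g hg α ⟨hα, hα'⟩
      refine ⟨H.mul_mem (H.mul_mem hg hα) (H.inv_mem hg), fun i hi x hx hxi => ?_⟩
      have h1 : ext g⁻¹ x ∈ P := ext_mem _ hx
      have h2 := hα' i hi _ h1 (hinv (i + 1) hi g⁻¹ (H.inv_mem hg) x hx hxi)
      have h3 := hinv i hi.le g hg _ (P.mul_mem (P.inv_mem h1) (ext_mem α h1)) h2
      rw [(homOn_ext g).map_mul (P.inv_mem h1) (ext_mem α h1), (homOn_ext g).map_inv h1,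
        ext_ext_inv] at h3
      rwa [ext_mul, ext_mul]
  exact key ⟨hκ, h⟩

variable [Finite S]

/-- the small subgroup detecting the `p'`-automorphisms -/
theorem exists_small (F : FusionSystem S) (hS : IsPGroup p S) (hQ : Q ≤ S) :
    ∃ D : Subgroup Ω, D ≤ Q ∧ D ≤ F.hyperfocalSubgroup p ∧
      (∀ α ∈ F.autGroup Q, ∀ x ∈ D, ext α x ∈ D) ∧ (∀ x ∈ D, SmallElt p x) ∧
      (∀ α ∈ F.autGroup Q, Nat.Coprime (orderOf α) p → (∀ x ∈ D, ext α x = x) → α = 1) ∧
      ∃ A : Subgroup Ω, A ≤ D ∧ IsMulCommutative A ∧ Q ≤ Subgroup.normalizer (A : Set Ω) ∧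
        ∀ α ∈ F.autGroup Q, (∀ x ∈ A, ext α x = x) → ∃ k, α ^ p ^ k = 1 := by
  have := finite_of_le_S hQ
  obtain ⟨D, h1, h2, h3, -, h5, h6⟩ :=
    S1949.result (hS.to_le hQ) (F.autGroup Q) (inn_le_autGroup F hQ)
  obtain ⟨A, ⟨hA1, hA2⟩, hA3⟩ := (Set.toFinite
    {A : Subgroup Q | A ≤ D ∧ IsMulCommutative A}).exists_maximal ⟨⊥, bot_le, inferInstance⟩
  obtain ⟨k1, k2⟩ := h6 A hA1 hA2 fun B b1 b2 b3 => le_antisymm (hA3 ⟨b2, b3⟩ b1) b1
  refine ⟨D.map Q.subtype, Subgroup.map_subtype_le _, ?_, ?_, ?_, ?_, A.map Q.subtype,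
    Subgroup.map_mono hA1, inferInstance, ?_, ?_⟩
  · refine (Subgroup.map_mono h2).trans ?_
    rw [Subgroup.map_le_iff_le_comap, Subgroup.closure_le]
    rintro _ ⟨α, hα, x, rfl⟩
    exact Subgroup.subset_closure ⟨Q, α, x, hQ, hα, rfl⟩
  · rintro α hα _ ⟨x, hx, rfl⟩
    exact ⟨α x, (h1 α hα).le ⟨x, hx, rfl⟩, (ext_coe α x).symm⟩
  · rintro _ ⟨x, hx, rfl⟩
    exact (h3 x hx).imp (fun h => by rw [← map_pow, h, map_one])
      fun h => ⟨h.1, by rw [← map_pow, h.2, map_one]⟩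
  · intro α hα hc h
    exact h5 α hα hc fun d hd => Subtype.ext ((ext_coe α d).symm.trans (h d ⟨d, hd, rfl⟩))
  · have := finite_of_le_S ((Subgroup.map_subtype_le A).trans hQ)
    intro g hg
    refine mem_normalizer_of_conj_mem ?_
    rintro _ ⟨x, hx, rfl⟩
    exact ⟨_, k1.conj_mem x hx ⟨g, hg⟩, rfl⟩
  · intro α hα h
    obtain ⟨k, hk⟩ := k2 α hα fun a ha =>
      Subtype.ext ((ext_coe α a).symm.trans (h a ⟨a, ha, rfl⟩))
    exact ⟨k, hk ▸ pow_orderOf_eq_one α⟩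

theorem mor_of_fix_of_pGroup (hS : IsPGroup p S) (hF : F.IsSaturated p) {E : FusionSystem S}
    (hA : F.IsFullyCentralized A) (hAQ : A ≤ Q) (hQ : Q ≤ normalizerIn S A)
    (hp : ∀ α ∈ F.autGroup Q, (∀ x ∈ A, ext α x = x) → ∃ k, α ^ p ^ k = 1)
    (ih : ∀ R, R ≤ S → Nat.card Q < Nat.card R → ∀ f, Mor F R f → Mor E R f) {γ : Ω → Ω}
    (hγ : Mor F Q γ) (e : ∀ x ∈ A, γ x = x) : Mor E Q γ := by
  have hK : KFull F p A (autInducedBy S A) := ⟨hA, by
    rw [inf_idem, inf_eq_right.2 (autInducedBy_le_autGroup F hA.1 le_rfl)]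
    exact ⟨le_rfl, isPGroup_autInducedBy hS, fun U h _ h' => le_antisymm h h'⟩⟩
  obtain ⟨M, hM⟩ := exists_kNormalizer F hA.1 (autInducedBy S A) rfl
  have hMs := kNormalizer_saturated hS hF hK rfl hM
  have := finite_of_le_S (NK_le (S := S) (Q := A) (K := autInducedBy S A))
  have hMp := hS.to_le (NK_le (S := S) (Q := A) (K := autInducedBy S A))
  have hQN : Q ≤ NK S A (autInducedBy S A) := fun x hx => mem_NK.2 ⟨(hQ hx).1,
    conjAut A (hQ hx).2, conjAut_mem_autInducedBy (hQ hx).1 _, fun y hy => ext_conjAut _ hy⟩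
  have hMF : M.IsSubsystemOf F := isSubsystemOf_iff.2 fun P f h => ((hM P f).1 h).mor
  have hres : ∀ P f, A ≤ P → Mor M P f → ∃ κ ∈ autInducedBy S A, ∀ x ∈ A, f x = ext κ x := by
    intro P f hP hf
    obtain ⟨-, g, -, e1, κ, hκ, e2⟩ := (hM P f).1 hf
    exact ⟨κ, hκ, fun x hx => (e1 x (hP hx)).symm.trans (e2 x hx)⟩
  refine alperin_induction' hMp hMs (fun P f => P = Q → Mor E P f)
    (fun P f g _ e h hP => (h hP).congr e) (fun P hP _ => mor_id E (hP.trans NK_le)) ?_ Q γ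
    ((hM Q γ).2 ⟨hQN, γ, by rwa [sup_eq_left.2 hAQ], fun _ _ => rfl, 1, Subgroup.one_mem _,
      fun x hx => by rw [e x hx, ext_one]⟩) rfl
  rintro P R f g hf hR hg hm h rfl
  refine (h rfl).comp ?_ hm
  have hRS : R ≤ S := hg.le.trans NK_le
  have hle : img P f ≤ R := img_le_iff.2 hm
  rcases hle.lt_or_eq with hlt | heq
  · exact ih R hRS (hf.card_img ▸ card_lt_of_lt hlt hRS) g (hg.mor.of_sub hMF)
  have hf' := hf.of_sub hMF
  obtain ⟨κ₀, -, e₀⟩ := hres P f hAQ hf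
  have hAA : img A f = A := by rw [img_congr e₀, img_ext]
  have hAR : A ≤ R := by rw [← hAA, ← heq]; exact img_mono f hAQ
  have hpg : IsPGroup p (M.autGroup R) := isPGroup_of_forall fun α hα => by
    obtain ⟨κ, hκ, e1⟩ := hres R _ hAR (mor_of_mem_autGroup hg.le hα)
    obtain ⟨j, hj⟩ := exists_pow_eq_one_of_isPGroup (isPGroup_autInducedBy hS) hκ
    obtain ⟨β, rfl⟩ := (hf'.tr heq).surjective α
    obtain ⟨k, hk⟩ := hp (β ^ p ^ j) (Subgroup.pow_mem _
      ((hf'.tr_mem_autGroup_iff heq).1 (autGroup_mono hMF hα)) _) fun x hx => by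
        refine hf'.inj (ext_mem _ (hAQ hx)) (hAQ hx) ?_
        rw [← hf'.ext_tr heq _ (hAQ hx), map_pow,
          ext_pow_congr e1 _ _ (hAA.le (mem_img_of_mem f hx)), hj, ext_one]
    exact ⟨j + k, by rw [← map_pow, pow_add, pow_mul, hk, map_one]⟩
  rcases hR with rfl | hR
  · obtain ⟨α, hα, e1⟩ := hg.exists_aut
    rw [sat_autGroup_top_eq_inn hMp hMs hpg] at hα
    obtain ⟨s, hs, e2⟩ := mem_inn_iff.1 hα
    exact (mor_conj E hRS (hRS hs)).congr fun x hx => (e2 x hx).symm.trans (e1 x hx)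
  · exact absurd hpg (not_isPGroup_autGroup_of_isEssential hMp hMs hR)

/-- small abelian subgroups of the hyperfocal subgroup control fusion -/
theorem le_of_small (hS : IsPGroup p S) (hF : F.IsSaturated p) {E : FusionSystem S}
    (hE : E.IsSaturated p) (hEF : E.IsSubsystemOf F)
    (h : ∀ A, A ≤ F.hyperfocalSubgroup p → IsMulCommutative A → (∀ x ∈ A, SmallElt p x) →
      ∀ f, Mor F A f → Mor E A f) : ∀ Q, Q ≤ S → ∀ f, Mor F Q f → Mor E Q f := by
  refine induction_down _ fun Q hQ ih χ hχ => ?_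
  obtain ⟨D, d1, d2, -, d4, -, A, a1, a2, a3, a4⟩ := exists_small F hS hQ
  have hAQ := a1.trans d1
  have hA := h A (a1.trans d2) a2 fun x hx => d4 x (a1 hx)
  have hχA := hχ.mono hAQ
  obtain ⟨ψ, hψ, hn⟩ := exists_mor_normalizerIn_fullyNormalized hS hE hχA.img_le
  have hm : ∀ x ∈ Q, χ x ∈ normalizerIn S (img A χ) := fun x hx =>
    ⟨hχ.mem hx, hχ.mem_normalizer_img hAQ hx (a3 hx)⟩
  refine mor_of_comp_left hχ hψ hm ?_
  have hθ := hχ.comp (hψ.of_sub hEF) hm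
  rw [hχA.img_img] at hn
  generalize (fun x => ψ (χ x)) = θ at *
  have hθA := hθ.mono hAQ
  obtain ⟨θ', hθ', e⟩ := (iso_img (hA θ hθA)).extend_to (sat_receptive_of_fullyNormalized hS hE hn)
    (hθ.le_Ext_of_ext hAQ a3 fun _ _ => rfl)
  obtain ⟨g, hg, l, m, r, -⟩ := (hθ'.of_sub hEF).inv
  have hAA : img A θ' = img A θ := img_congr e
  have hc : F.IsFullyCentralized (img A θ') := by
    rw [hAA]
    obtain ⟨c1, c2⟩ := isFullyCentralized_iff.1 (sat_fullyCentralized hS hE hn)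
    exact isFullyCentralized_iff.2 ⟨c1, fun f hf =>
      c2 f (mor_img_of_comp (hA θ hθA) (hA _ (hθA.comp_img hf)))⟩
  have hθF := hθ'.of_sub hEF
  refine (hθ'.comp_img (mor_of_fix_of_pGroup hS hF hc (img_mono _ hAQ) (img_le_iff.2 fun x hx =>
    ⟨hθ'.mem hx, hθ'.mem_normalizer_img hAQ hx (a3 hx)⟩) (fun α hα hfix => ?_)
    (by rwa [hθ'.card_img]) (hg.comp hθ m) fun y hy => ?_)).congr fun x hx => by rw [l x hx]
  · obtain ⟨β, rfl⟩ := (hθF.tr rfl).surjective α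
    obtain ⟨k, hk⟩ := a4 β ((hθF.tr_mem_autGroup_iff rfl).1 hα) fun x hx =>
      hθF.inj (ext_mem _ (hAQ hx)) (hAQ hx)
        (by rw [← hθF.ext_tr rfl _ (hAQ hx), hfix _ (mem_img_of_mem _ hx)])
    exact ⟨k, by rw [← map_pow, hk, map_one]⟩
  · obtain ⟨x, hx, rfl⟩ := (hθ'.mem_img' hAQ).1 hy
    rw [l x (hAQ hx), e x hx]

omit hp [Finite S] in
theorem isMulCommutative_img {f : Ω → Ω} (hf : HomOn A f) (h : IsMulCommutative A) :
    IsMulCommutative (img A f) := by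
  rw [hf.img_eq_range, MonoidHom.range_eq_map]
  have : IsMulCommutative (⊤ : Subgroup A) := inferInstance
  infer_instance

theorem hom_eq_of_small (hS : IsPGroup p S) (hF : F.IsSaturated p) {E : FusionSystem S}
    (hE : E.IsSaturated p) (hEF : E.IsSubsystemOf F)
    (h : ∀ A B, A ≤ F.hyperfocalSubgroup p → B ≤ F.hyperfocalSubgroup p → IsMulCommutative A →
      IsMulCommutative B → (∀ x ∈ A, SmallElt p x) → (∀ x ∈ B, SmallElt p x) →
      E.homSet A B = F.homSet A B) (P : Subgroup Ω) : E.Hom P = F.Hom P := by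
  refine hom_eq_of_mor_iff fun f => ⟨fun hf => hf.of_sub hEF, fun hf => le_of_small hS hF hE hEF
    (fun A h1 h2 h3 f hf => ?_) P hf.le f hf⟩
  have h4 := h A (img A f) h1 (img_le_iff.2 fun x hx => mem_of_stronglyClosed
    (stronglyClosed_hyp hS hF) hf hx (h1 hx)) h2 (isMulCommutative_img hf.homOn h2) h3 fun y hy => by
      obtain ⟨x, hx, rfl⟩ := hf.mem_img.1 hy
      exact (h3 x hx).map hf.homOn hx
  have h5 : hf.homOn.toHom ∈ E.homSet A (img A f) :=
    h4 ▸ ⟨hf.toHom_mem, fun x => mem_img_of_mem f x.2⟩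
  exact (mor_of_mem h5.1).congr fun x hx => by rw [fn_apply _ hx]; rfl

/-- `S` is normal when for each essential subgroup the small subgroup has an invariant chain
stabilized by `S` -/
theorem isNormal_top_of_small_chain (hS : IsPGroup p S) (hF : F.IsSaturated p)
    (h : ∀ P D, D ≤ P → P ≤ S → D ≤ F.hyperfocalSubgroup p → (∀ x ∈ D, SmallElt p x) →
      (∀ α ∈ F.autGroup P, ∀ x ∈ D, ext α x ∈ D) → ∃ (C : ℕ → Subgroup Ω) (n : ℕ), C 0 = ⊥ ∧
        C n = D ∧ (∀ i < n, C i ≤ C (i + 1)) ∧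
        (∀ i ≤ n, ∀ α ∈ F.autGroup P, ∀ x ∈ C i, ext α x ∈ C i) ∧
        ∀ s ∈ normalizerIn S P, ∀ i < n, ∀ x ∈ C (i + 1), x⁻¹ * (s * x * s⁻¹) ∈ C i) :
    F.IsNormal S := by
  refine sat_isNormal_top_of_no_essential hS hF fun P hP => ?_
  have hPS := (lt_of_isEssential hS hF hP).le
  have := finite_of_le_S hPS
  obtain ⟨D, d1, d2, d3, d4, d5, -⟩ := exists_small F hS hPS
  obtain ⟨C, n, c0, rfl, c2, c3, c4⟩ := h P D d1 hPS d2 d4 d3
  refine (lt_of_isEssential hS hF hP).not_ge (le_of_conjAut_mem_pCoreIn hS hP.1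
    (isRadical_of_isEssential hS hP) le_rfl (hPS.trans Subgroup.le_normalizer) fun s hs hn => ?_)
  exact mem_pCoreIn_of_chain_on (hS.to_le hPS) _ C n c0 d1 c2
    (fun i hi α hα x _ hx => c3 i hi α hα x hx) d5
    (autInducedBy_le_autGroup F hPS le_rfl (conjAut_mem_autInducedBy hs hn))
    fun i hi x hx hx' => by rw [ext_conjAut hn hx]; exact c4 s ⟨hs, hn⟩ i hi x hx'

theorem isNormal_top_of_small (hS : IsPGroup p S) (hF : F.IsSaturated p)
    (h : ∀ x ∈ F.hyperfocalSubgroup p, SmallElt p x → x ≠ 1 → ∀ f, Mor F (Subgroup.zpowers x) f →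
      ∃ β : MulAut S, ext β x = f x) : F.IsNormal S := by
  refine isNormal_top_of_small_chain hS hF fun P D d1 hP d2 d3 d4 => ?_
  obtain ⟨n, hn⟩ := exists_ucs_eq hS
  refine ⟨fun i => D ⊓ ucs S i, n, by simp [ucs_zero], by simp [hn, d1.trans hP],
    fun i _ => inf_le_inf_left _ (ucs_mono i.le_succ), fun i _ α hα x hx => ⟨d4 α hα x hx.1, ?_⟩,
    fun s hs i _ x hx => ⟨D.mul_mem (D.inv_mem hx.1) ?_, ucs_comm hx.2 hs.1⟩⟩
  · by_cases h1 : x = 1
    · rw [h1, (homOn_ext α).map_one]; exact Subgroup.one_mem _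
    obtain ⟨β, e⟩ := h x (d2 hx.1) (d3 x hx.1) h1 _
      ((mor_of_mem_autGroup hP hα).mono (Subgroup.zpowers_le.2 (d1 hx.1)))
    exact e ▸ ext_mem_ucs β hx.2
  · rw [← ext_conjAut hs.2 (d1 hx.1)]
    exact d4 _ (autInducedBy_le_autGroup F hP le_rfl (conjAut_mem_autInducedBy hs.1 hs.2)) x hx.1

theorem eq_inner_of_small (hS : IsPGroup p S) (hF : F.IsSaturated p)
    (h : ∀ x ∈ F.hyperfocalSubgroup p, SmallElt p x → x ≠ 1 → ∀ f, Mor F (Subgroup.zpowers x) f →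
      ∃ s ∈ S, f x = s * x * s⁻¹) : F = innerFusionSystem S := by
  refine sat_eq_inner_of_pGroups hS hF fun P hP => isPGroup_of_forall fun α hα => ?_
  have hPS : P ≤ S := hP.elim (fun e => e.le) fun hP => hP.1.1
  have := finite_of_le_S hPS
  obtain ⟨D, d1, d2, d3, d4, d5, -⟩ := exists_small F hS hPS
  obtain ⟨n, hn⟩ := exists_ucs_eq hS
  obtain ⟨k, hk⟩ := exists_pow_fix_chain (hS.to_le hPS) α (fun i => D ⊓ ucs S i)
    (by simp [ucs_zero]) n (fun i _ => inf_le_inf_left _ (ucs_mono i.le_succ))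
    fun i _ x hx hx' => ⟨D.mul_mem (D.inv_mem hx'.1) (d3 α hα x hx'.1), by
      by_cases h1 : x = 1
      · rw [h1, (homOn_ext α).map_one]; simp
      obtain ⟨s, hs, e⟩ := h x (d2 hx'.1) (d4 x hx'.1) h1 _
        ((mor_of_mem_autGroup hPS hα).mono (Subgroup.zpowers_le.2 hx))
      exact e ▸ ucs_comm hx'.2 hs⟩
  exact pElt_of_fix d5 hα fun x hx => hk x (d1 hx) ⟨hx, hn.ge (hPS (d1 hx))⟩

omit [Finite S] in
theorem inv_mul_conj_pow_eq_one {s x : Ω} {k j : ℕ} (hs : s ^ p ^ k = 1)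
    (h : s * x * s⁻¹ ∈ Subgroup.zpowers x) (hx : x ^ p ^ (j + 1) = 1) :
    (x⁻¹ * (s * x * s⁻¹)) ^ p ^ j = 1 := by
  obtain ⟨m, hm⟩ := h
  simp only at hm
  have h1 : ∀ n : ℕ, s ^ n * x * (s ^ n)⁻¹ = x ^ (m ^ n) := fun n => by
    induction n with
    | zero => simp
    | succ n ih =>
      rw [pow_succ' s, pow_succ' m, zpow_mul, hm, conj_zpow, ← ih]
      group
  have h2 := h1 (p ^ k)
  rw [hs, one_mul, inv_one, mul_one] at h2
  obtain ⟨c, hc⟩ : (p : ℤ) ∣ m - m ^ p ^ k :=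
    (ZMod.intCast_eq_intCast_iff_dvd_sub _ _ p).1 (by push_cast; exact ZMod.pow_card_pow _)
  have h3 : x⁻¹ * (s * x * s⁻¹) = x ^ ((p : ℤ) * c) := by
    rw [← hc, ← hm, sub_eq_neg_add, zpow_add, zpow_neg, ← h2]
  rw [h3, ← zpow_natCast, ← zpow_mul, show (p : ℤ) * c * (p ^ j : ℕ) = (p ^ (j + 1) : ℕ) * c by
    push_cast; ring, zpow_mul, zpow_natCast, hx, one_zpow]

theorem isNormal_top_of_zpowers_normal (hS : IsPGroup p S) (hF : F.IsSaturated p)
    (h : ∀ x ∈ F.focalSubgroup, SmallElt p x → ∀ s ∈ S, s * x * s⁻¹ ∈ Subgroup.zpowers x) :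
    F.IsNormal S := by
  refine isNormal_top_of_small_chain hS hF fun P D d1 hP d2 d3 d4 => ?_
  have key : ∀ s ∈ S, ∀ x ∈ D, ∀ j, x ^ p ^ (j + 1) = 1 → (x⁻¹ * (s * x * s⁻¹)) ^ p ^ j = 1 := by
    intro s hs x hx j hj
    obtain ⟨k, hk⟩ := exists_pow_eq_one_of_isPGroup hS hs
    exact inv_mul_conj_pow_eq_one hk (h x (hyp_le_foc F p (d2 hx)) (d3 x hx) s hs) hj
  refine ⟨fun i => if i = 0 then ⊥ else if i = 1 then omegaOne p D else D, 2, by simp, by simp,
    fun i hi => ?_, fun i hi α hα x hx => ?_, fun s hs i hi x hx => ?_⟩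
  · interval_cases i
    · simp
    · simpa using omegaOne_le p D
  · interval_cases i
    · simp only [if_true, Subgroup.mem_bot] at hx ⊢
      rw [hx, (homOn_ext α).map_one]
    · simpa using homOn_mem_omegaOne ((homOn_ext α).mono d1) (d4 α hα) (by simpa using hx)
    · simpa using d4 α hα x (by simpa using hx)
  · interval_cases i
    · have h1 : omegaOne p D ≤ Subgroup.centralizer {s} := by
        rw [omegaOne, Subgroup.closure_le]
        rintro y ⟨hy, hy'⟩ _ rfl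
        have h2 := key _ hs.1 y hy 0 (by simpa using hy')
        rw [pow_zero, pow_one, inv_mul_eq_one, eq_mul_inv_iff_mul_eq] at h2
        exact h2.symm
      simp only [if_true, Subgroup.mem_bot]
      rw [h1 (by simpa using hx) s rfl]
      simp
    · have hx : x ∈ D := by simpa using hx
      have h1 : x⁻¹ * (s * x * s⁻¹) ∈ omegaOne p D := by
        refine Subgroup.subset_closure ⟨D.mul_mem (D.inv_mem hx) ?_, ?_⟩
        · rw [← ext_conjAut hs.2 (d1 hx)]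
          exact d4 _ (autInducedBy_le_autGroup F hP le_rfl (conjAut_mem_autInducedBy hs.1 hs.2)) x hx
        · have h2 := key s hs.1 x hx 1 ((d3 x hx).elim (fun e => by rw [pow_succ' p, pow_mul, e, one_pow])
            fun e => by rw [e.1]; exact e.2)
          rwa [pow_one] at h2
      simpa using h1

/-- an element normalizing a subgroup conjugate into the centre of `S` centralizes it -/
theorem mem_centralizer_of_conj_center (hS : IsPGroup p S) (hF : F.IsSaturated p) {f : Ω → Ω}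
    (hf : Mor F P f) (h : img P f ≤ centralizerIn S S) {a : Ω} (ha : a ∈ normalizerIn S P) :
    a ∈ Subgroup.centralizer (P : Set Ω) := by
  have hc : S ≤ Subgroup.centralizer (img P f : Set Ω) :=
    Subgroup.le_centralizer_iff.1 fun x hx => (h hx).2
  have h1 := sat_sylIn hS hF (fullyNormalized_of_le_normalizer F hf.img_le
    (hc.trans (Subgroup.centralizer_le_normalizer _)))
  have h2 : autInducedBy S (img P f) = ⊥ := eq_bot_iff.2 fun α hα => by
    obtain ⟨s, hs, e⟩ := mem_autInducedBy_iff.1 hα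
    exact aut_eq_one fun x hx => (e x hx).trans (mem_centralizer_conj.1 (hc hs) x hx)
  have h3 := conjAut_mem_autInducedBy ha.1 ha.2
  obtain ⟨k, hk⟩ := exists_pow_eq_one_of_isPGroup (isPGroup_autInducedBy hS) h3
  have h4 := h1.eq_of_le (Subgroup.zpowers_le.2 (hf.tr_mem_autGroup rfl
    (autInducedBy_le_autGroup F hf.le le_rfl h3)))
    (isPGroup_zpowers (k := k) (by rw [← map_pow, hk, map_one])) (h2.le.trans bot_le)
  rw [h2, Subgroup.zpowers_eq_bot, EmbeddingLike.map_eq_one_iff] at h4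
  exact mem_centralizer_conj.2 fun x hx => by rw [← ext_conjAut ha.2 hx, h4, ext_one]

omit hp in
/-- a saturated `2`-fusion system with all elements conjugate into the centre of `S` -/
theorem comm_of_conj_center (hS : IsPGroup 2 S) (hF : F.IsSaturated 2)
    (h : ∀ x ∈ S, ∃ z ∈ centralizerIn S S, F.IsConjElt x z) : S ≤ centralizerIn S S := by
  have h1 : ∀ W, F.IsNormal W → ∀ x ∈ S, ∃ g, Mor F (Subgroup.zpowers x ⊔ W) g ∧
      g x ∈ centralizerIn S S ∧ img W g = W := fun W hW x hx => by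
    obtain ⟨z, hz, hxz⟩ := h x hx
    obtain ⟨f, hf, rfl⟩ := isConjElt_iff.1 hxz
    obtain ⟨g, hg, e, e'⟩ := (isNormal_iff.1 hW).2 _ f hf
    exact ⟨g, hg, (e x (Subgroup.mem_zpowers x)).symm ▸ hz, e'⟩
  have h2 : ∀ W, F.IsNormal W → W ≤ centralizerIn S S := fun W hW w hw => by
    refine ⟨hW.1 hw, fun x hx => ?_⟩
    obtain ⟨g, hg, e, -⟩ := h1 W hW x hx
    have hx' := Subgroup.mem_sup_left (T := W) (Subgroup.mem_zpowers x)
    have hw' := Subgroup.mem_sup_right (S := Subgroup.zpowers x) hw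
    refine hg.inj (Subgroup.mul_mem _ hx' hw') (Subgroup.mul_mem _ hw' hx') ?_
    rw [hg.map_mul hx' hw', hg.map_mul hw' hx', e.2 _ (hg.mem hw')]
  have key : ∀ i : ℕ, ∃ W, F.IsNormal W ∧ ∀ x, x ∈ W ↔ x ∈ S ∧ x ^ 2 ^ i = 1 := fun i => by
    induction i with
    | zero => exact ⟨⊥, isNormal_bot F, fun x => by
        simp only [Subgroup.mem_bot, pow_zero, pow_one]
        exact ⟨fun e => ⟨e ▸ S.one_mem, e⟩, fun e => e.2⟩⟩
    | succ i ih =>
      obtain ⟨W, hW, hm⟩ := ih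
      have hsq : ∀ a ∈ S, a ^ 2 ^ (i + 1) = 1 → a * a ∈ W := fun a ha e =>
        (hm _).2 ⟨S.mul_mem ha ha, by rwa [← pow_two, ← pow_mul, ← pow_succ']⟩
      have hcomm : ∀ a ∈ S, ∀ b ∈ S, a ^ 2 ^ (i + 1) = 1 → b ^ 2 ^ (i + 1) = 1 → Commute a b := by
        intro a ha b hb ea eb
        obtain ⟨g, hg, e, e'⟩ := h1 W hW (a * b) (S.mul_mem ha hb)
        have := finite_of_le_S hg.le
        have hab := Subgroup.mem_sup_left (T := W) (Subgroup.mem_zpowers (a * b))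
        have h3 := mem_centralizer_of_conj_center hS hF hg (a := a) (by
          rw [hg.img_sup, e', sup_le_iff, img_le_iff]
          refine ⟨?_, h2 W hW⟩
          rintro _ ⟨n, rfl⟩
          exact (hg.map_zpow hab n).symm ▸ Subgroup.zpow_mem _ e n) ⟨ha, mem_normalizer_of_conj_mem (by
            refine (homOn_conj _ a).mem_of_sup ?_ fun w hw =>
              Subgroup.mem_sup_right (conj_mem_of_stronglyClosed (stronglyClosed_of_isNormal hW) ha hw)
            rintro _ ⟨n, rfl⟩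
            have h4 : a * (a * b) * a⁻¹ = a * a * (b * b) * (a * b)⁻¹ := by group
            simp only
            rw [← conj_zpow, h4]
            exact Subgroup.zpow_mem _ (Subgroup.mul_mem _ (Subgroup.mem_sup_right
              (W.mul_mem (hsq a ha ea) (hsq b hb eb))) (Subgroup.inv_mem _ hab)) n)⟩
        have h4 := h3 _ hab
        rw [mul_assoc, mul_left_cancel_iff] at h4
        exact h4.symm
      let W' : Subgroup Ω :=
        { carrier := {x | x ∈ S ∧ x ^ 2 ^ (i + 1) = 1}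
          one_mem' := ⟨S.one_mem, one_pow _⟩
          mul_mem' := fun {a b} ha hb => ⟨S.mul_mem ha.1 hb.1, by
            rw [(hcomm a ha.1 b hb.1 ha.2 hb.2).mul_pow, ha.2, hb.2, mul_one]⟩
          inv_mem' := fun {a} ha => ⟨S.inv_mem ha.1, by rw [inv_pow, ha.2, inv_one]⟩ }
      refine ⟨W', sat_isNormal_of_abelian hS hF (stronglyClosed_iff.2 ⟨fun x hx => hx.1,
        fun P f hf x hx hx' => ⟨hf.mem hx, by rw [← hf.map_pow hx, hx'.2, hf.map_one]⟩⟩)
        fun a ha b hb => hcomm a ha.1 b hb.1 ha.2 hb.2, fun x => Iff.rfl⟩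
  intro x hx
  obtain ⟨k, hk⟩ := exists_pow_eq_one_of_isPGroup hS hx
  obtain ⟨W, hW, hm⟩ := key k
  exact h2 W hW ((hm x).2 ⟨hx, hk⟩)

end Cfsg.Agent.H97
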