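import Cfsg.Agent.H97.BcNN1

/-!
# Bicyclic `2`-groups (S5217): a non-normal essential subgroup forces a cyclic commutator subgroup
-/

set_option autoImplicit false
set_option linter.unusedSectionVars false

namespace Cfsg.Agent.H97.Bc

open Cfsg Cfsg.FusionSystem Cfsg.Agent.H97 Cfsg.Agent.H5 Subgroup
open scoped commutatorElement

universe u

variable {G : Type*} [Group G] [Finite G]

/-- In a two-generator `2`-group with elementary derived group of order at most four centralized by `u`,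
every element of the derived group is a commutator with `u`. -/
theorem comm_surj (hG : IsPGroup 2 G) {x u : G} (hg : closure {x, u} = ⊤)
    (hc : Nat.card (_root_.commutator G) ≤ 4) (h2 : ∀ a ∈ _root_.commutator G, a * a = 1)
    (hu : ∀ a ∈ _root_.commutator G, u * a * u⁻¹ = a⁻¹) {w : G} (hw : w ∈ _root_.commutator G) :
    ∃ g, g * u * g⁻¹ * u⁻¹ = w := by
  by_contra k
  push Not at k
  have m : ∀ g, ⁅g, u⁆ ∈ _root_.commutator G := fun g => commutator_mem_commutator (mem_top _) (mem_top _)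
  have h1 : Commute (x * x) u :=
    mem_centralizer_singleton_iff.1 (sq_mem_of_index_dvd (index_cent_dvd hG hc m hw k) x)
  have h3 : x * ⁅x, u⁆ * x⁻¹ = ⁅x, u⁆⁻¹ := by
    calc _ = x * x * u * (u * (x * x))⁻¹ * ⁅x, u⁆⁻¹ := by simp only [commutatorElement_def]; group
      _ = _ := by rw [h1.eq]; group
  have t : ∀ g, g * ⁅x, u⁆ * g⁻¹ = ⁅x, u⁆⁻¹ → ∀ k ∈ zpowers ⁅x, u⁆, g * k * g⁻¹ ∈ zpowers ⁅x, u⁆ := by
    rintro g hg _ ⟨n, rfl⟩
    simp only [← conj_zpow, hg]
    exact zpow_mem (inv_mem (mem_zpowers _)) n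
  have := normal_of_pair hg (t x h3) (t u (hu _ (m x)))
  obtain ⟨n, rfl⟩ := commutator_le_of_pair hg (mem_zpowers ⁅x, u⁆) hw
  have e : ⁅x, u⁆ ^ (2 : ℤ) = 1 := by rw [zpow_two]; exact h2 _ (m x)
  obtain ⟨j, rfl | rfl⟩ := Int.even_or_odd' n
  · exact k 1 (by simp [zpow_mul, e])
  · exact k x (by simp only [zpow_add, zpow_mul, e, one_zpow, one_mul, zpow_one]; rfl)

variable {x : G} {Q R C : Subgroup G} {α : MulAut Q} {u s ζ : G}

/-- The involutions of `G'`. -/
def Str.W (S : Str x) : Subgroup G where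
  carrier := {a | a ∈ _root_.commutator G ∧ a * a = 1}
  one_mem' := ⟨one_mem _, one_mul _⟩
  mul_mem' := fun {a b} ha hb => ⟨mul_mem ha.1 hb.1, by
    rw [← pow_two, (S.ab a ha.1 b hb.1).mul_pow, pow_two, pow_two, ha.2, hb.2, one_mul]⟩
  inv_mem' := fun {a} ha => ⟨inv_mem ha.1, by rw [← mul_inv_rev, ha.2, inv_one]⟩

/-- The squares of `G'`. -/
def Str.D (S : Str x) : Subgroup G where
  carrier := {d | ∃ a ∈ _root_.commutator G, a * a = d}
  one_mem' := ⟨1, one_mem _, one_mul _⟩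
  mul_mem' := by
    rintro _ _ ⟨a, ha, rfl⟩ ⟨b, hb, rfl⟩
    exact ⟨a * b, mul_mem ha hb, by rw [← pow_two, (S.ab a ha b hb).mul_pow, pow_two, pow_two]⟩
  inv_mem' := by
    rintro _ ⟨a, ha, rfl⟩
    exact ⟨a⁻¹, inv_mem ha, by group⟩

/-- The elements of `G'` inverted by `u`. -/
def Str.I (S : Str x) (u : G) : Subgroup G where
  carrier := {a | a ∈ _root_.commutator G ∧ u * a * u⁻¹ = a⁻¹}
  one_mem' := ⟨one_mem _, by group⟩
  mul_mem' := fun {a b} ha hb => ⟨mul_mem ha.1 hb.1, by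
    rw [← conj_mul, ha.2, hb.2, (S.ab a ha.1 b hb.1).eq, mul_inv_rev]⟩
  inv_mem' := fun {a} ha => ⟨inv_mem ha.1, by rw [← conj_inv, ha.2]⟩

namespace Str

theorem AP (S : Str x) : _root_.commutator G ≤ frattini G := H3.commutator_le_frattini S.pG

theorem cA (g : G) {a : G} (ha : a ∈ _root_.commutator G) : g * a * g⁻¹ ∈ _root_.commutator G :=
  (inferInstance : (_root_.commutator G).Normal).conj_mem a ha g

instance nW (S : Str x) : S.W.Normal :=
  ⟨fun a ha g => ⟨cA g ha.1, by rw [conj_mul, ha.2]; group⟩⟩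

instance nD (S : Str x) : S.D.Normal := ⟨by
  rintro _ ⟨a, ha, rfl⟩ g
  exact ⟨_, cA g ha, conj_mul⟩⟩

instance nI (S : Str x) (u : G) : (S.I u).Normal := ⟨fun a ha g => ⟨cA g ha.1, by
  have h : ⁅u⁻¹, g⁻¹⁆ ∈ _root_.commutator G := commutator_mem_commutator (mem_top _) (mem_top _)
  calc u * (g * a * g⁻¹) * u⁻¹ = g * (u * (⁅u⁻¹, g⁻¹⁆ * a * ⁅u⁻¹, g⁻¹⁆⁻¹) * u⁻¹) * g⁻¹ := by
        simp only [commutatorElement_def]; group
    _ = _ := by rw [(S.ab _ h a ha.1).eq, mul_inv_cancel_right, ha.2]; group⟩⟩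

theorem cardW (S : Str x) : Nat.card S.W ≤ 4 := S.e8 _ (fun _ ha => S.AP ha.1) fun _ ha => ha.2

theorem PW (S : Str x) {p e : G} (hp : p ∈ frattini G) (he : e ∈ S.W) : Commute p e := by
  obtain ⟨i, a, ha, rfl⟩ := S.memP p hp
  refine Commute.mul_left ?_ (S.ab a ha e he.1)
  rw [two_mul, zpow_add]
  exact sq_comm_of_card_le S.pG S.cardW he _

theorem cardD (S : Str x) : Nat.card ((_root_.commutator G).map (QuotientGroup.mk' S.D)) ≤ 4 := by
  let f : _root_.commutator G →* G := MonoidHom.mk' (fun a => a * a) fun a b => by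
    rw [coe_mul, ← pow_two, (S.ab _ a.2 _ b.2).mul_pow, pow_two, pow_two]
  have hr : f.range = S.D := Subgroup.ext fun d =>
    ⟨fun ⟨a, h⟩ => ⟨a, a.2, h⟩, fun ⟨a, ha, h⟩ => ⟨⟨a, ha⟩, h⟩⟩
  have hk : Nat.card f.ker ≤ 4 := (Nat.card_le_card_of_injective
    (fun a : f.ker => (⟨a.1, a.1.2, a.2⟩ : S.W)) fun a b h =>
      Subtype.ext (Subtype.ext (congrArg (fun y : S.W => y.1) h))).trans S.cardW
  have hD : S.D ≤ _root_.commutator G := by
    rintro _ ⟨a, ha, rfl⟩
    exact mul_mem ha ha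
  have h1 := card_mul_index f.ker
  have h2 := card_mul_index (S.D.subgroupOf (_root_.commutator G))
  rw [index_ker, hr] at h1
  rw [Nat.card_congr (subgroupOfEquivOfLe hD).toEquiv, ← h1, mul_comm] at h2
  rw [← relIndex_ker, QuotientGroup.ker_mk']
  exact (Nat.eq_of_mul_eq_mul_right Nat.card_pos h2).le.trans hk

/-- If `u` inverts `G'` then the class of `u` is the coset `G' u`. -/
theorem conj_of_inv (S : Str x) (hg : closure {x, u} = ⊤)
    (hu : ∀ a ∈ _root_.commutator G, u * a * u⁻¹ = a⁻¹) {w : G} (hw : w ∈ _root_.commutator G) :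
    IsConj u (w * u) := by
  let π := QuotientGroup.mk' S.D
  have hs : Function.Surjective π := QuotientGroup.mk'_surjective _
  have hc : _root_.commutator (G ⧸ S.D) = (_root_.commutator G).map π := by
    rw [map_commutator_eq, MonoidHom.range_eq_top.2 hs]; rfl
  obtain ⟨g, hg'⟩ := comm_surj (S.pG.to_quotient S.D) (x := π x) (u := π u)
    (by rw [← Set.image_pair, ← MonoidHom.map_closure, hg, map_top_of_surjective _ hs])
    (hc ▸ S.cardD) (by
      rw [hc]
      rintro _ ⟨a, ha, rfl⟩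
      exact (map_mul π a a).symm.trans ((QuotientGroup.eq_one_iff _).2 ⟨a, ha, rfl⟩)) (by
      rw [hc]
      rintro _ ⟨a, ha, rfl⟩
      rw [← map_inv, ← map_mul, ← map_mul, hu a ha, map_inv]) (hc ▸ mem_map_of_mem π hw)
  obtain ⟨g, rfl⟩ := hs g
  obtain ⟨d, hd, e⟩ : (g * u * g⁻¹ * u⁻¹)⁻¹ * w ∈ S.D := QuotientGroup.eq.1 (by simpa [π] using hg')
  have m : g * u * g⁻¹ * u⁻¹ ∈ _root_.commutator G := commutator_mem_commutator (mem_top _) (mem_top _)
  refine _root_.isConj_iff.2 ⟨d * g, ?_⟩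
  calc d * g * u * (d * g)⁻¹ = d * (g * u * g⁻¹ * u⁻¹) * (u * d * u⁻¹)⁻¹ * u := by group
    _ = (g * u * g⁻¹ * u⁻¹) * (d * d) * u := by rw [(S.ab d hd _ m).eq, hu d hd]; group
    _ = _ := by rw [e]; group

end Str

namespace Core

theorem zK (K : Core Q R u s ζ) : ζ ∈ Phi R := (K.phi ζ).2 (Or.inr rfl)

theorem uu (K : Core Q R u s ζ) : u * u = ζ := K.sq u K.uR K.uK

theorem s4 (K : Core Q R u s ζ) : s * s * (s * s) = ζ := K.sq _ K.ssR K.ssK

theorem sqK (K : Core Q R u s ζ) {r : G} (hr : r ∈ Phi R) : r * r = 1 := by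
  rcases (K.phi r).1 hr with rfl | rfl
  exacts [one_mul _, K.zz]

theorem sqR (K : Core Q R u s ζ) {r : G} (hr : r ∈ R) : r * r ∈ Phi R := by
  by_cases h : r ∈ Phi R
  exacts [mul_mem h h, K.sq r hr h ▸ K.zK]

theorem KD (S : Str x) (K : Core Q R u s ζ) : Phi R ≤ S.D := fun r hr => by
  rcases (K.phi r).1 hr with rfl | rfl
  exacts [one_mem _, ⟨_, mul_mem K.sA K.sA, K.s4⟩]

theorem KA (K : Core Q R u s ζ) : Phi R ≤ _root_.commutator G := fun r hr => by
  rcases (K.phi r).1 hr with rfl | rfl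
  exacts [one_mem _, K.s4 ▸ mul_mem (mul_mem K.sA K.sA) (mul_mem K.sA K.sA)]

theorem KC (D : LocD Q R C α) (K : Core Q R u s ζ) : Phi R ≤ C := fun r hr => by
  refine (D.memC r).2 ⟨D.RQ (Phi_le R hr), ?_⟩
  rcases (K.phi r).1 hr with rfl | rfl
  · exact (homOn_ext α).map_one
  · refine ((K.phi _).1 (D.aK.2 hr)).elim (fun h => ?_) id
    rw [h, ext_injective α (h.trans (homOn_ext α).map_one.symm)]

theorem CR (S : Str x) (D : LocD Q R C α) (K : Core Q R u s ζ) {h : G} (hh : h ∈ C) : ∀ r ∈ R, Commute h r := by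
  have t : ∀ r ∈ R, ⁅h, r⁆ = 1 ∨ ⁅h, r⁆ = ζ := fun r hr =>
    (K.phi _).1 ((D.act h (le_normalizer (D.CQ hh))).1 (D.CQ hh) r hr)
  have hb := D.aR u K.uR
  rcases t u K.uR with h1 | h1
  · exact D.cent_of_fix S.pG hh K.uR K.uK (commutatorElement_eq_one_iff_commute.1 h1)
  rcases t _ hb with h2 | h2
  · exact D.cent_of_fix S.pG hh hb (mt D.aK.1 K.uK) (commutatorElement_eq_one_iff_commute.1 h2)
  refine D.cent_of_fix S.pG hh (R.mul_mem K.uR hb) (fun k => K.uK (D.fpf u K.uR ?_))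
    (commutatorElement_eq_one_iff_commute.1 ?_)
  · convert mul_mem (inv_mem (K.sqR K.uR)) k using 1
    group
  · calc ⁅h, u * ext α u⁆ = ⁅h, u⁆ * (u * ⁅h, ext α u⁆ * u⁻¹) := by simp only [commutatorElement_def]; group
      _ = ζ * (u * u) := by rw [h1, h2, ← K.uu]; group
      _ = 1 := by rw [K.uu, K.zz]

theorem CQ (S : Str x) (D : LocD Q R C α) (K : Core Q R u s ζ) {c q : G} (hc : c ∈ C) (hq : q ∈ Q) :
    Commute c q := by
  obtain ⟨h, hC, hh⟩ := D.cyc
  obtain ⟨r, hr, k, rfl⟩ := hh q hq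
  refine (K.CR S D hc r hr).mul_right ?_
  obtain ⟨r', hr', k', rfl⟩ := hh c (D.CQ hc)
  exact (K.CR S D (C.pow_mem hC k) r' hr').symm.mul_left (Commute.pow_pow_self h k' k)

theorem NC (S : Str x) (D : LocD Q R C α) (K : Core Q R u s ζ) {n h : G} (hn : n ∈ normalizer (Q : Set G))
    (hh : h ∈ C) : n⁻¹ * h * n ∈ C := by
  by_cases hq : n ∈ Q
  · rwa [mul_assoc, (K.CQ S D hh hq).eq, inv_mul_cancel_left]
  have hQ := D.CQ hh
  have h1 : n⁻¹ * h * n ∈ Q := by simpa using (mem_normalizer_iff.1 (inv_mem hn) h).1 hQ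
  obtain ⟨q, hq', e⟩ := mem_inn_iff.1 (D.inv n hn hq)
  have e1 := e h hQ
  have e2 : ext (conjAut Q hn)⁻¹ h = n⁻¹ * h * n := ext_injective (conjAut Q hn) (by
    rw [ext_ext_inv, ext_conjAut hn h1]; group)
  rw [ext_mul, ext_mul, ext_mul, ((D.memC h).1 hh).2, e2, ext_conjAut hn (ext_mem α h1),
    ← (K.CQ S D hh hq').eq, mul_inv_cancel_right] at e1
  refine (D.memC _).2 ⟨h1, ?_⟩
  conv_rhs => rw [← e1]
  group

theorem huP (S : Str x) (D : LocD Q R C α) (K : Core Q R u s ζ) {h : G} (hh : h ∈ C) :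
    h * u ∉ frattini G := by
  intro k
  obtain ⟨c, hc, e⟩ := S.four (normalizer (Q : Set G) ⊓ frattini G) inf_le_right s ⟨K.sN, S.AP K.sA⟩ (h * u)
    ⟨le_normalizer (Q.mul_mem (D.CQ hh) (D.RQ K.uR)), k⟩
  obtain ⟨h₀, hC, hh₀⟩ := D.cyc
  obtain ⟨r, hr, j, e'⟩ := hh₀ (c * c) ((D.two hc.1 hc.1).2 Iff.rfl)
  have h4 : c ^ 4 ∈ C := by
    rw [show c ^ 4 = (c * c) ^ 2 by rw [← pow_two, ← pow_mul], e',
      (K.CR S D (C.pow_mem hC j) r hr).symm.mul_pow]
    exact mul_mem (K.KC D (pow_two r ▸ K.sqR hr)) (pow_mem (pow_mem hC _) _)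
  refine K.ssK (D.RC K.ssR ?_)
  have e2 : s * s = c ^ 4 * (h * (s⁻¹ * h * s)⁻¹) := by
    rw [← e]
    calc s * s = s * h * (u * s * u⁻¹)⁻¹ * h⁻¹ * (h * (s⁻¹ * h * s)⁻¹) := by rw [K.us]; group
      _ = _ := by simp only [commutatorElement_def]; group
  exact e2 ▸ mul_mem h4 (mul_mem hh (inv_mem (K.NC S D K.sN hh)))

theorem uP (S : Str x) (D : LocD Q R C α) (K : Core Q R u s ζ) : u ∉ frattini G := by
  simpa using K.huP S D (one_mem C)

theorem gen (S : Str x) (D : LocD Q R C α) (K : Core Q R u s ζ) : closure {x, u} = ⊤ :=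
  S.gen x u S.xP (K.uP S D) (S.sq u (K.KA (by rw [pow_two, K.uu]; exact K.zK)))

theorem CP (S : Str x) (D : LocD Q R C α) (K : Core Q R u s ζ) : C ≤ frattini G := fun h hh => by
  by_contra k
  have : closure {h, u} ≤ Q := (closure_le _).2 (by
    rintro _ (rfl | rfl)
    exacts [D.CQ hh, D.RQ K.uR])
  exact K.sQ (this (S.gen h u k (K.uP S D) (K.huP S D hh) ▸ mem_top s))

theorem form (S : Str x) (D : LocD Q R C α) (K : Core Q R u s ζ) {r : G} (hr : r ∈ R) :
    (r ∈ Phi R ∨ (s * s)⁻¹ * r ∈ Phi R) ∨ u⁻¹ * r ∈ _root_.commutator G := by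
  have ss := mul_mem K.sA K.sA
  rcases cos4 S.pG D.idxR K.uR K.ssR hr K.uK K.ssK (fun k => K.uP S D (by
    convert inv_mem (mul_mem (S.AP (K.KA k)) (inv_mem (S.AP ss))) using 1
    group)) with k | k | k | k
  exacts [.inl (.inl k), .inr (K.KA k), .inl (.inr k), .inr (by simpa [mul_assoc] using mul_mem ss (K.KA k))]

theorem form' (S : Str x) (D : LocD Q R C α) (K : Core Q R u s ζ) {r : G} (hr : r ∈ R) :
    r ∈ _root_.commutator G ∨ u⁻¹ * r ∈ _root_.commutator G :=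
  (K.form S D hr).imp_left fun k => k.elim (fun k => K.KA k) fun k => by
    simpa [mul_assoc] using mul_mem (mul_mem K.sA K.sA) (K.KA k)

theorem formP (S : Str x) (D : LocD Q R C α) (K : Core Q R u s ζ) {r : G} (hr : r ∈ R) (hP : r ∈ frattini G) :
    r ∈ Phi R ∨ (s * s)⁻¹ * r ∈ Phi R :=
  (K.form S D hr).resolve_right fun k => K.uP S D (by simpa using mul_mem hP (inv_mem (S.AP k)))

theorem WQ (S : Str x) (D : LocD Q R C α) (K : Core Q R u s ζ) {e : G} (he : e ∈ S.I u) (h2 : e * e = 1) :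
    e ∈ Q := by
  have eu : Commute e u := by
    have := he.2
    rw [inv_eq_of_mul_eq_one_right h2, mul_inv_eq_iff_eq_mul] at this
    exact this.symm
  refine D.cent e fun q hq => ?_
  obtain ⟨h, hC, hh⟩ := D.cyc
  obtain ⟨r, hr, k, rfl⟩ := hh q hq
  refine Commute.mul_right ?_ (S.PW (K.CP S D (C.pow_mem hC k)) ⟨he.1, h2⟩).symm
  rcases K.form' S D hr with k | k
  · exact S.ab e he.1 r k
  · simpa using eu.mul_right (S.ab e he.1 _ k)

theorem sqI (S : Str x) (D : LocD Q R C α) (K : Core Q R u s ζ) {a : G} (ha : a ∈ S.I u) (hq : a ∈ Q) :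
    a * a ∈ Phi R := by
  have e : a * a = ⁅a, u⁆ := by
    calc a * a = a * (u * a * u⁻¹)⁻¹ := by rw [ha.2, inv_inv]
      _ = _ := by simp only [commutatorElement_def]; group
  exact e ▸ (D.act a (le_normalizer hq)).1 hq u K.uR

theorem sq4 (S : Str x) (D : LocD Q R C α) (K : Core Q R u s ζ) {a : G} (ha : a ∈ S.I u)
    (h4 : a * a * (a * a) = 1) : a * a ∈ Phi R ∨ (s * s)⁻¹ * (a * a) ∈ Phi R := by
  have hN : a ∈ normalizer (Q : Set G) := by
    refine mem_normalizer_fintype (S := (Q : Set G)) fun q hq => ?_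
    obtain ⟨h, hC, hh⟩ := D.cyc
    obtain ⟨r, hr, k, rfl⟩ := hh q hq
    have hk := C.pow_mem hC k
    rw [← conj_mul]
    refine Q.mul_mem ?_ ?_
    · rcases K.form' S D hr with k | k
      · rw [(S.ab a ha.1 r k).eq, mul_inv_cancel_right]; exact D.RQ hr
      · have e : a * r * a⁻¹ = a * a * r := by
          calc a * r * a⁻¹ = a * u * (u⁻¹ * r * a⁻¹) := by group
            _ = a * (u * a * u⁻¹)⁻¹ * r := by rw [(S.ab _ k _ (inv_mem ha.1)).eq]; group
            _ = _ := by rw [ha.2, inv_inv]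
        exact e ▸ Q.mul_mem (K.WQ S D (mul_mem ha ha) h4) (D.RQ hr)
    · have hb : h ^ k * a * (h ^ k)⁻¹ ∈ S.I u := (S.nI u).conj_mem a ha _
      have : a * (h ^ k * a * (h ^ k)⁻¹)⁻¹ ∈ Q := K.WQ S D (mul_mem ha (inv_mem hb)) (by
        rw [← pow_two, (S.ab _ ha.1 _ (inv_mem hb.1)).mul_pow, inv_pow, conj_pow, pow_two,
          (S.PW (K.CP S D hk) ⟨mul_mem ha.1 ha.1, h4⟩).eq]
        group)
      convert Q.mul_mem this (D.CQ hk) using 1
      group
  by_cases hq : a ∈ Q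
  · exact .inl (K.sqI S D ha hq)
  · have := K.sqI S D (mul_mem (inv_mem (show s ∈ S.I u from ⟨K.sA, K.us⟩)) ha)
      ((D.two (inv_mem K.sN) hN).2 (by simp [hq, K.sQ]))
    rw [← pow_two, (S.ab _ (inv_mem K.sA) _ ha.1).mul_pow, inv_pow, pow_two, pow_two] at this
    exact .inr this

theorem zc (S : Str x) (D : LocD Q R C α) (K : Core Q R u s ζ) (g : G) : g * ζ * g⁻¹ = ζ := by
  have hs : s ∈ S.I u := ⟨K.sA, K.us⟩
  have e : g * (s * s) * g⁻¹ * (g * (s * s) * g⁻¹) = g * ζ * g⁻¹ := by rw [conj_mul, K.s4]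
  have e2 : g * ζ * g⁻¹ * (g * ζ * g⁻¹) = 1 := by rw [conj_mul, K.zz]; group
  by_cases h1 : ζ = 1
  · simp [h1]
  rcases K.sq4 S D ((S.nI u).conj_mem _ (mul_mem hs hs) g) (by rw [e, e2]) with k | k <;> rw [e] at k
  · exact ((K.phi _).1 k).resolve_left fun k => h1 (by simpa using k)
  · have := K.sqK k
    rw [← pow_two, (S.ab _ (inv_mem (mul_mem K.sA K.sA)) _ (Str.cA g (K.KA K.zK))).mul_pow, inv_pow, pow_two,
      pow_two, e2, K.s4] at this
    exact absurd (by simpa using this) h1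

theorem inv (S : Str x) (D : LocD Q R C α) (K : Core Q R u s ζ) : _root_.commutator G ≤ S.I u :=
  commutator_le_of_pair (K.gen S D) ⟨commutator_mem_commutator (mem_top _) (mem_top _), by
    calc u * ⁅x, u⁆ * u⁻¹ = ⁅x, u⁆⁻¹ * (x * (u * u) * x⁻¹) * (u * u)⁻¹ := by
          simp only [commutatorElement_def]; group
      _ = _ := by rw [K.uu, K.zc S D]; group⟩

theorem cyclic (S : Str x) (D : LocD Q R C α) (K : Core Q R u s ζ) (hN : normalizer (Q : Set G) ≠ ⊤) :
    IsCyclic (_root_.commutator G) := by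
  by_contra hc
  have hI := K.inv S D
  have ssA := mul_mem K.sA K.sA
  obtain ⟨w, hwC, hw, hwR⟩ : ∃ w ∈ C, w ∈ S.W ∧ w ∉ R := by
    obtain ⟨w, hw, hwR⟩ : ∃ w ∈ S.W, w ∉ R := by
      by_contra k
      push Not at k
      obtain ⟨z, zz, hz⟩ : ∃ z : G, z * z = 1 ∧ ∀ y ∈ S.W, y = 1 ∨ y = z := by
        by_cases h1 : ζ = 1
        · refine ⟨s * s, K.s4.trans h1, fun y hy => (K.formP S D (k y hy) (S.AP hy.1)).imp ?_ fun h => ?_⟩
          · exact fun h => by simpa [h1] using (K.phi _).1 h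
          · exact (inv_mul_eq_one.1 (by simpa only [h1, or_self] using (K.phi _).1 h)).symm
        · exact ⟨ζ, K.zz, fun y hy => (K.phi _).1 (by_contra fun h => h1 ((K.sq y (k y hy) h).symm.trans hy.2))⟩
      refine hc (H90.isCyclic_of_comm_of_omega ⟨⟨fun a b => Subtype.ext (S.ab _ a.2 _ b.2)⟩⟩
        (S.pG.to_subgroup _) (zpowers z) ?_ fun y hy h2 => ?_)
      · rw [Nat.card_zpowers]
        exact orderOf_le_of_pow_eq_one two_pos ((pow_two z).trans zz)
      · rcases hz y ⟨hy, (pow_two y).symm.trans h2⟩ with rfl | rfl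
        exacts [one_mem _, mem_zpowers _]
    obtain ⟨h, hC, hh⟩ := D.cyc
    obtain ⟨r, hr, k, rfl⟩ := hh w (K.WQ S D (hI hw.1) hw.2)
    have hk := C.pow_mem hC k
    have rA : r ∈ _root_.commutator G := (K.form' S D hr).resolve_right fun k' => K.uP S D (by
      simpa using mul_mem (mul_mem (S.AP hw.1) (inv_mem (K.CP S D hk))) (inv_mem (S.AP k')))
    have hA : h ^ k ∈ _root_.commutator G := by simpa using mul_mem (inv_mem rA) hw.1
    refine ⟨_, hk, ⟨hA, ?_⟩, fun k' => hwR (mul_mem hr k')⟩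
    have := (hI hA).2
    rw [← (K.CR S D hk u K.uR).eq, mul_inv_cancel_right] at this
    exact mul_eq_one_iff_eq_inv.2 this
  have hwD : w ∉ S.D := by
    rintro ⟨a, ha, rfl⟩
    rcases K.sq4 S D (hI ha) hw.2 with k | k
    · exact hwR (Phi_le R k)
    · exact hwR (by simpa [mul_assoc] using mul_mem K.ssR (Phi_le R k))
  have h1 := D.aR u K.uR
  have h2 := D.aR _ h1
  obtain ⟨k, hyR, hyK, hy⟩ : ∃ k, ext (α ^ k) u ∈ R ∧ ext (α ^ k) u ∉ Phi R ∧
      (ext (α ^ k) u)⁻¹ * (s * s) ∈ Phi R := by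
    have n1 := mt D.aK.1 K.uK
    have n2 := mt D.aK.1 n1
    have n3 := mt (D.fpf u K.uR) K.uK
    rcases cos4 S.pG D.idxR K.uR h1 K.ssR K.uK n1 n3 with k | k | k | k
    · exact absurd k K.ssK
    · exact ⟨0, by simpa using K.uR, by simpa using K.uK, by simpa using k⟩
    · exact ⟨1, by simpa using h1, by simpa using n1, by simpa using k⟩
    refine ⟨2, ?_⟩
    rw [pow_two, ext_mul]
    refine ⟨h2, n2, ?_⟩
    rcases cos4 S.pG D.idxR K.uR h1 h2 K.uK n1 n3 with k' | k' | k' | k'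
    · exact absurd k' n2
    · exact absurd (D.fpf _ h2 (by simpa [D.a3'] using inv_mem k')) n2
    · exact absurd (D.fpf _ h1 k') n1
    · convert mul_mem (inv_mem k') k using 1
      group
  set y := ext (α ^ k) u with hyd
  have yD : y ∈ S.D := by
    simpa [mul_assoc] using mul_mem (show s * s ∈ S.D from ⟨s, K.sA, rfl⟩) (inv_mem (K.KD S hy))
  have yA : y ∈ _root_.commutator G := by simpa [mul_assoc] using mul_mem ssA (inv_mem (K.KA hy))
  have big : ∀ y ∈ _root_.commutator G, y * y = ζ → ∀ e ∈ S.W, (∀ g, g * y * g⁻¹ * y⁻¹ ≠ e) →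
      Nat.card Q < Nat.card (centralizer ({y} : Set G)) := fun y hy yy e he hne => by
    have i1 := Nat.le_of_dvd two_pos (index_cent_dvd S.pG S.cardW (fun g =>
      ⟨mul_mem (Str.cA g hy) (inv_mem hy), by
        rw [← pow_two, (S.ab _ (Str.cA g hy) _ (inv_mem hy)).mul_pow, inv_pow, conj_pow, pow_two, yy, K.zc S D]
        group⟩) he hne)
    have i2 := one_lt_index_of_ne_top hN
    have i3 := relIndex_mul_index (le_normalizer (H := Q))
    have i4 := card_mul_index Q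
    have i5 := card_mul_index (centralizer ({y} : Set G))
    have i6 : 0 < Nat.card Q := Nat.card_pos
    rw [D.idx] at i3
    rw [← i3, ← i5] at i4
    nlinarith
  have ey : ext (α ^ k) (w * u) = w * y := by
    rw [(homOn_ext _).map_mul (D.CQ hwC) (D.RQ K.uR), ext_pow_of_fixed α ((D.memC w).1 hwC).2]
  have yy := K.sq y hyR hyK
  obtain ⟨g, hg⟩ := _root_.isConj_iff.1 (D.big k u (D.RQ K.uR) (w * u) (Q.mul_mem (D.CQ hwC) (D.RQ K.uR))
    (S.conj_of_inv (K.gen S D) (fun a ha => (hI ha).2) hw.1)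
    (big y yA yy w hw fun g e => hwD (e ▸ mul_mem (S.nD.conj_mem y yD g) (inv_mem yD)))
    (ey ▸ big (w * y) (mul_mem hw.1 yA) (by
      rw [← pow_two, (S.ab w hw.1 y yA).mul_pow, pow_two, pow_two, hw.2, yy, one_mul]) w⁻¹ (inv_mem hw)
      fun g e => hwD (by
        have e' : w * y = g⁻¹ * y * g⁻¹⁻¹ := by
          calc w * y = g⁻¹ * (g * (w * y) * g⁻¹ * (w * y)⁻¹ * (w * y)) * g := by group
            _ = _ := by rw [e]; group
        have := mul_mem (S.nD.conj_mem y yD g⁻¹) (inv_mem yD)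
        rwa [← e', mul_inv_cancel_right] at this)))
  rw [ey, ← hyd] at hg
  have := mul_mem (S.nD.conj_mem y yD g) (inv_mem yD)
  rw [hg, mul_inv_cancel_right] at this
  exact hwD this

end Core

theorem nonNorm : NonNormStmt.{u} := fun S _ _ _ _ D hN => by
  obtain ⟨u, s, ζ, K⟩ := D.exists_core S.pG hN
  exact K.cyclic S D hN

end Cfsg.Agent.H97.Bc
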