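import Cfsg.Agent.H97.BcDefs
import Cfsg.Agent.H5.Gen3
import Cfsg.Agent.H90.Basic2

/-!
# Bicyclic `2`-groups (S5217): a non-normal essential subgroup, local analysis
-/

set_option autoImplicit false
set_option linter.unusedSectionVars false

namespace Cfsg.Agent.H97.Bc

open Cfsg Cfsg.FusionSystem Cfsg.Agent.H97 Cfsg.Agent.H5 Subgroup
open scoped commutatorElement

variable {G : Type*} [Group G] [Finite G]

section Tools

theorem cm_mul {K : Subgroup G} {a b c : G} (hb : b ∈ normalizer (K : Set G)) (h1 : ⁅a, b⁆ ∈ K)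
    (h2 : ⁅a, c⁆ ∈ K) : ⁅a, b * c⁆ ∈ K := by
  have e : ⁅a, b * c⁆ = ⁅a, b⁆ * (b * ⁅a, c⁆ * b⁻¹) := by simp only [commutatorElement_def]; group
  exact e ▸ K.mul_mem h1 ((mem_normalizer_iff.1 hb _).1 h2)

theorem cm_symm {K : Subgroup G} {a b : G} (h : ⁅a, b⁆ ∈ K) : ⁅b, a⁆ ∈ K := by
  simpa using K.inv_mem h

/-- The four cosets of `Φ(R)` in a two-generator `2`-group. -/
theorem cos4 (hG : IsPGroup 2 G) {R : Subgroup G} (hi : (Phi R).relIndex R = 4) {a b r : G} (ha : a ∈ R)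
    (hb : b ∈ R) (hr : r ∈ R) (h1 : a ∉ Phi R) (h2 : b ∉ Phi R) (h3 : a⁻¹ * b ∉ Phi R) :
    r ∈ Phi R ∨ a⁻¹ * r ∈ Phi R ∨ b⁻¹ * r ∈ Phi R ∨ (a * b)⁻¹ * r ∈ Phi R := by
  have hR : IsPGroup 2 R := hG.to_subgroup R
  let π : R →* R ⧸ frattini R := QuotientGroup.mk' _
  have k1 : ∀ x : R, π x = 1 ↔ (x : G) ∈ Phi R := fun x =>
    (QuotientGroup.eq_one_iff x).trans (mem_Phi x.2).symm
  have k2 : ∀ x y : R, π x = π y ↔ (x : G)⁻¹ * y ∈ Phi R := fun x y =>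
    QuotientGroup.eq.trans (mem_Phi (x⁻¹ * y).2).symm
  have hc : Nat.card (R ⧸ frattini R) = 4 := by rw [← hi, relIndex_Phi]; rfl
  have hs : ∀ v : R ⧸ frattini R, v ^ 2 = 1 := fun v => by
    obtain ⟨v, rfl⟩ := QuotientGroup.mk'_surjective _ v
    exact (map_pow π v 2).symm.trans ((k1 _).2 (pow_mem_Phi hR v.2))
  have : Nontrivial (R ⧸ frattini R) := Finite.one_lt_card_iff_nontrivial.1 (by omega)
  have : IsKleinFour (R ⧸ frattini R) :=
    ⟨hc, (Monoid.exponent_eq_prime_iff Nat.prime_two).2 fun v hv => orderOf_eq_prime (hs v) hv⟩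
  by_contra hn
  push Not at hn
  obtain ⟨n1, n2, n3, n4⟩ := hn
  refine n4 ((k2 (⟨a, ha⟩ * ⟨b, hb⟩) ⟨r, hr⟩).1 ?_)
  rw [map_mul]
  exact (IsKleinFour.eq_mul_of_ne_all (mt (k1 ⟨a, ha⟩).1 h1) (mt (k1 ⟨b, hb⟩).1 h2)
    (mt (k2 ⟨a, ha⟩ ⟨b, hb⟩).1 h3) (mt (k1 ⟨r, hr⟩).1 n1) (fun e => n2 ((k2 ⟨a, ha⟩ ⟨r, hr⟩).1 e.symm))
    (fun e => n3 ((k2 ⟨b, hb⟩ ⟨r, hr⟩).1 e.symm))).symm

/-- An element of a `2`-group whose commutators miss a point of a group of order at most four. -/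
theorem index_cent_dvd (hG : IsPGroup 2 G) {W : Subgroup G} (hW : Nat.card W ≤ 4) {y e : G}
    (h : ∀ g, g * y * g⁻¹ * y⁻¹ ∈ W) (he : e ∈ W) (hne : ∀ g, g * y * g⁻¹ * y⁻¹ ≠ e) :
    (centralizer ({y} : Set G)).index ∣ 2 := by
  let φ : G ⧸ centralizer ({y} : Set G) → W := fun c => ⟨c.out * y * c.out⁻¹ * y⁻¹, h _⟩
  have hi : Function.Injective φ := fun c d hcd => by
    rw [← c.out_eq', ← d.out_eq', QuotientGroup.eq, mem_centralizer_singleton_iff]
    have e : c.out * y * c.out⁻¹ = d.out * y * d.out⁻¹ := mul_right_cancel (congrArg Subtype.val hcd)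
    calc c.out⁻¹ * d.out * y = c.out⁻¹ * (d.out * y * d.out⁻¹) * d.out := by group
      _ = y * (c.out⁻¹ * d.out) := by rw [← e]; group
  have hl : (centralizer ({y} : Set G)).index < Nat.card W :=
    lt_of_le_of_ne (Nat.card_le_card_of_injective φ hi) fun hs => by
      obtain ⟨c, hc⟩ := (hi.bijective_of_nat_card_le hs.ge).2 ⟨e, he⟩
      exact hne _ (congrArg Subtype.val hc)
  obtain ⟨n, hn⟩ := hG.index (centralizer ({y} : Set G))
  rw [hn] at hl ⊢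
  rcases n with _ | _ | n
  · simp
  · simp
  · have : 0 < 2 ^ n := by positivity
    omega

theorem sq_mem_of_index_dvd {H : Subgroup G} (h : H.index ∣ 2) (g : G) : g * g ∈ H := by
  rcases (Nat.dvd_prime Nat.prime_two).1 h with h | h
  · rw [index_eq_one.1 h]; trivial
  · exact mul_self_mem_of_index_two h g

/-- Squares centralize a normal subgroup of order at most four. -/
theorem sq_comm_of_card_le (hG : IsPGroup 2 G) {W : Subgroup G} [hn : W.Normal] (hW : Nat.card W ≤ 4) {y : G}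
    (hy : y ∈ W) (g : G) : Commute (g * g) y := by
  by_cases h1 : y = 1
  · rw [h1]; exact Commute.one_right _
  exact mem_centralizer_singleton_iff.1 (sq_mem_of_index_dvd (index_cent_dvd hG hW
    (fun g => W.mul_mem (hn.conj_mem _ hy g) (W.inv_mem hy)) (W.inv_mem hy) fun g e => h1 (by
      have : g * y * g⁻¹ = 1 := by simpa using e
      simpa using this)) g)

theorem commutator_le_of_pair {x u : G} (hg : closure {x, u} = ⊤) {K : Subgroup G} [K.Normal]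
    (h : ⁅x, u⁆ ∈ K) : _root_.commutator G ≤ K := by
  let π := QuotientGroup.mk' K
  have hc : Commute (π x) (π u) :=
    commutatorElement_eq_one_iff_commute.1 ((map_commutatorElement π x u).symm.trans
      ((QuotientGroup.eq_one_iff _).2 h))
  have k : ∀ a : G, Commute (π x) (π a) → Commute (π u) (π a) → ∀ b, Commute (π b) (π a) := fun a h1 h2 b => by
    have hb : b ∈ closure ({x, u} : Set G) := hg ▸ mem_top b
    induction hb using closure_induction with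
    | mem b hb => rcases hb with rfl | rfl <;> assumption
    | one => simp
    | mul b c _ _ h1 h2 => rw [map_mul]; exact h1.mul_left h2
    | inv b _ h1 => rw [map_inv]; exact h1.inv_left
  rw [_root_.commutator_def, commutator_le]
  intro a _ b _
  refine (QuotientGroup.eq_one_iff _).1 ((map_commutatorElement π a b).trans
    (commutatorElement_eq_one_iff_commute.2 (k b (k x (Commute.refl _) hc.symm b).symm
      (k u hc (Commute.refl _) b).symm a)))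

theorem normal_of_pair {x u : G} (hg : closure {x, u} = ⊤) {K : Subgroup G}
    (h1 : ∀ k ∈ K, x * k * x⁻¹ ∈ K) (h2 : ∀ k ∈ K, u * k * u⁻¹ ∈ K) : K.Normal := by
  rw [← normalizer_eq_top_iff, eq_top_iff, ← hg, closure_le]
  rintro _ (rfl | rfl)
  exacts [mem_normalizer_fintype h1, mem_normalizer_fintype h2]

end Tools

variable {Q R C : Subgroup G} {α : MulAut Q}

namespace LocD

theorem two (D : LocD Q R C α) {a b : G} (ha : a ∈ normalizer (Q : Set G)) (hb : b ∈ normalizer (Q : Set G)) :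
    a * b ∈ Q ↔ (a ∈ Q ↔ b ∈ Q) :=
  mul_mem_iff_of_index_two (H := Q.subgroupOf (normalizer (Q : Set G))) D.idx (a := ⟨a, ha⟩) (b := ⟨b, hb⟩)

theorem CQ (D : LocD Q R C α) : C ≤ Q := fun q hq => ((D.memC q).1 hq).1

theorem RN (D : LocD Q R C α) : R ≤ normalizer (Q : Set G) := D.RQ.trans le_normalizer

theorem nK (D : LocD Q R C α) : normalizer (Q : Set G) ≤ normalizer (Phi R : Set G) :=
  D.nR.trans (normalizer_le_normalizer_Phi R)

theorem conjR (D : LocD Q R C α) {g r : G} (hg : g ∈ normalizer (Q : Set G)) (hr : r ∈ R) : g * r * g⁻¹ ∈ R :=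
  (mem_normalizer_iff.1 (D.nR hg) r).1 hr

theorem conjK (D : LocD Q R C α) {g r : G} (hg : g ∈ normalizer (Q : Set G)) :
    g * r * g⁻¹ ∈ Phi R ↔ r ∈ Phi R := (mem_normalizer_iff.1 (D.nK hg) r).symm

theorem cmR (D : LocD Q R C α) {g r : G} (hg : g ∈ normalizer (Q : Set G)) (hr : r ∈ R) : ⁅g, r⁆ ∈ R :=
  R.mul_mem (D.conjR hg hr) (R.inv_mem hr)

theorem a3' (D : LocD Q R C α) (r : G) : ext α (ext α (ext α r)) = r := by
  rw [← ext_mul, ← ext_mul, ← pow_three', D.a3, ext_one]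

theorem aK (D : LocD Q R C α) {r : G} : ext α r ∈ Phi R ↔ r ∈ Phi R := by
  have k : ∀ r ∈ Phi R, ext α r ∈ Phi R :=
    inv_Phi (X := {α}) D.RQ (fun β hβ x hx => by rw [hβ]; exact D.aR x hx) α rfl
  exact ⟨fun h => D.a3' r ▸ k _ (k _ h), k r⟩

theorem RC (D : LocD Q R C α) {r : G} (hr : r ∈ R) (hc : r ∈ C) : r ∈ Phi R :=
  D.fpf r hr (by rw [((D.memC r).1 hc).2, inv_mul_cancel]; exact one_mem _)

theorem commQ (D : LocD Q R C α) {a b : G} (ha : a ∈ Q) (hb : b ∈ Q) : ⁅a, b⁆ ∈ Phi R := by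
  obtain ⟨h, hC, hh⟩ := D.cyc
  obtain ⟨r, hr, k, rfl⟩ := hh a ha
  obtain ⟨r', hr', k', rfl⟩ := hh b hb
  have t : ∀ q ∈ Q, ∀ r ∈ R, ⁅q, r⁆ ∈ Phi R := fun q hq => (D.act q (le_normalizer hq)).1 hq
  refine cm_mul (D.nK (D.RN hr')) (t _ ha _ hr') (cm_symm (cm_mul (D.nK (D.RN hr))
    (t _ (Q.pow_mem (D.CQ hC) _) _ hr) ?_))
  rw [commutatorElement_eq_one_iff_commute.2 (Commute.pow_pow_self h k' k)]
  exact one_mem _

/-- An element of `C` fixing a generator of `R` centralizes `R`. -/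
theorem cent_of_fix (hG : IsPGroup 2 G) (D : LocD Q R C α) {h r₀ : G} (hh : h ∈ C) (h0 : r₀ ∈ R)
    (h1 : r₀ ∉ Phi R) (hc : Commute h r₀) : ∀ r ∈ R, Commute h r := by
  have hα : Commute h (ext α r₀) := by
    have e := congrArg (ext α) hc.eq
    rwa [(homOn_ext α).map_mul (D.CQ hh) (D.RQ h0), (homOn_ext α).map_mul (D.RQ h0) (D.CQ hh),
      ((D.memC h).1 hh).2] at e
  have hT : R ⊓ centralizer {h} = R := eq_of_sup_Phi inf_le_left fun r hr => by
    have m : ∀ a ∈ R, Commute h a → a⁻¹ * r ∈ Phi R → r ∈ (R ⊓ centralizer {h}) ⊔ Phi R := fun a ha hc k => by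
      simpa using mul_mem_sup (S := R ⊓ centralizer {h}) ⟨ha, mem_centralizer_singleton_iff.2 hc.symm⟩ k
    rcases cos4 hG D.idxR h0 (D.aR _ h0) hr h1 (mt D.aK.1 h1) (mt (D.fpf _ h0) h1) with k | k | k | k
    exacts [mem_sup_right k, m _ h0 hc k, m _ (D.aR _ h0) hα k,
      m _ (R.mul_mem h0 (D.aR _ h0)) (hc.mul_right hα) k]
  exact fun r hr => (mem_centralizer_singleton_iff.1 (hT.ge hr).2 : Commute r h).symm

theorem full (D : LocD Q R C α) : ∃ n, (∀ r ∈ Phi R, r ^ n = 1) ∧ ∀ r ∈ R, r ∉ Phi R → r ^ n ≠ 1 := by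
  rcases D.typ with ⟨m, H⟩ | ⟨z, H⟩
  · refine ⟨_, H.phi, fun r hr h e => ?_⟩
    have := orderOf_dvd_of_pow_eq_one e
    rw [H.ord r hr h, Nat.pow_dvd_pow_iff_le_right (by norm_num)] at this
    have := H.pos
    omega
  · refine ⟨2, fun r hr => ?_, fun r hr h e => H.ne (by rw [← H.sq r hr h, ← sq, e])⟩
    rcases (H.phi r).1 hr with rfl | rfl
    exacts [one_pow _, (sq _).trans H.zz]

theorem exists_u (D : LocD Q R C α) {g : G} (hg : g ∈ normalizer (normalizer (Q : Set G) : Set G))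
    (hn : g ∉ normalizer (Q : Set G)) : ∃ u ∈ R, g * u * g⁻¹ ∉ Q := by
  by_contra k
  push Not at k
  obtain ⟨q, hq, ht⟩ : ∃ q ∈ Q, g⁻¹ * q * g⁻¹⁻¹ ∉ Q := by
    by_contra k'
    push Not at k'
    exact hn (inv_mem_iff.1 (mem_normalizer_fintype (S := (Q : Set G)) k'))
  have htN := (mem_normalizer_iff.1 (inv_mem hg) q).1 (le_normalizer hq)
  obtain ⟨r, hr, hc⟩ : ∃ r ∈ R, ⁅g⁻¹ * q * g⁻¹⁻¹, r⁆ ∉ Phi R := by
    by_contra k'
    push Not at k'
    exact ht ((D.act _ htN).2 k')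
  obtain ⟨n, n1, n2⟩ := D.full
  refine n2 _ (D.cmR htN hr) hc ?_
  have e : ⁅g⁻¹ * q * g⁻¹⁻¹, r⁆ = g⁻¹ * ⁅q, g * r * g⁻¹⁆ * g⁻¹⁻¹ := by simp only [commutatorElement_def]; group
  rw [e, conj_pow, n1 _ (D.commQ hq (k r hr))]
  simp

theorem comm_not_mem (hG : IsPGroup 2 G) (D : LocD Q R C α) {u v : G} (hu : u ∈ R)
    (hu' : u ∉ Phi (normalizer (Q : Set G))) (hv : v ∈ normalizer (Q : Set G)) (hv' : v ∉ Q) :
    ⁅v, u⁆ ∉ Phi R := by
  intro h0
  have hN : IsPGroup 2 (normalizer (Q : Set G)) := hG.to_subgroup _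
  have KN : Phi R ≤ Phi (normalizer (Q : Set G)) := Phi_mono hN D.RN
  obtain ⟨r, hr, hc⟩ : ∃ r ∈ R, ⁅v, r⁆ ∉ Phi R := by
    by_contra k'
    push Not at k'
    exact hv' ((D.act _ hv).2 k')
  have f : ∀ k ∈ Phi R, ⁅v, k⁆ ∈ Phi R := fun k hk => mul_mem ((D.conjK hv).2 hk) (inv_mem hk)
  have h3 : u⁻¹ * r ∉ Phi R := fun k => hc (by simpa using cm_mul (D.nK (D.RN hu)) h0 (f _ k))
  rcases cos4 hG D.idxR hu hr (D.conjR hv hr) (fun k => hu' (KN k)) (fun k => hc (f _ k)) h3 with k | k | k | k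
  · exact hc (f _ ((D.conjK hv).1 k))
  · refine h3 ?_
    have := mul_mem ((D.conjK (inv_mem (mul_mem hv (D.RN hu)))).2 (inv_mem h0)) ((D.conjK (inv_mem hv)).2 k)
    convert this using 1
    simp only [commutatorElement_def]; group
  · refine hc ?_
    convert (D.conjK (D.RN hr)).2 k using 1
    simp only [commutatorElement_def]; group
  · refine hu' (inv_mem_iff.1 ?_)
    have := mul_mem (conj_mem_Phi (le_normalizer (D.RN hr)) (KN k)) (inv_mem (comm_mem_Phi hN hv (D.RN hr)))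
    convert this using 1
    group

end LocD

/-- `R` is a four-group (`ζ = 1`) or quaternion, and `s` is an element of `G'` inverted by `u`. -/
structure Core (Q R : Subgroup G) (u s ζ : G) : Prop where
  zz : ζ * ζ = 1
  phi : ∀ r, r ∈ Phi R ↔ r = 1 ∨ r = ζ
  sq : ∀ r ∈ R, r ∉ Phi R → r * r = ζ
  uR : u ∈ R
  uK : u ∉ Phi R
  sN : s ∈ normalizer (Q : Set G)
  sQ : s ∉ Q
  sA : s ∈ _root_.commutator G
  us : u * s * u⁻¹ = s⁻¹
  ssR : s * s ∈ R
  ssK : s * s ∉ Phi R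

theorem LocD.exists_core (hG : IsPGroup 2 G) (D : LocD Q R C α) (hN : normalizer (Q : Set G) ≠ ⊤) :
    ∃ u s ζ, Core Q R u s ζ := by
  have := hG.isNilpotent
  obtain ⟨g, hg, hn⟩ := SetLike.exists_of_lt (Group.normalizerCondition_of_isNilpotent _ hN.lt_top)
  obtain ⟨u, hu, hv'⟩ := D.exists_u hg hn
  have hN : IsPGroup 2 (normalizer (Q : Set G)) := hG.to_subgroup _
  have hu' : u ∉ Phi (normalizer (Q : Set G)) := fun k =>
    hv' (Phi_le_of_relIndex_dvd hN le_normalizer D.idx.dvd (conj_mem_Phi hg k))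
  have uK : u ∉ Phi R := fun k => hu' (Phi_mono hN D.RN k)
  have hv : g * u * g⁻¹ ∈ normalizer (Q : Set G) := (mem_normalizer_iff.1 hg u).1 (D.RN hu)
  have hw : g⁻¹ * u * g⁻¹⁻¹ ∈ normalizer (Q : Set G) := (mem_normalizer_iff.1 (inv_mem hg) u).1 (D.RN hu)
  have h0 := D.comm_not_mem hG hu hu' hv hv'
  have h0R := D.cmR hv hu
  have e1 : g⁻¹ * ⁅g * u * g⁻¹, u⁆ * g = ⁅g⁻¹ * u * g⁻¹⁻¹, u⁆⁻¹ := by simp only [commutatorElement_def]; group
  have h1R : g⁻¹ * ⁅g * u * g⁻¹, u⁆ * g ∈ R := e1 ▸ R.inv_mem (D.cmR hw hu)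
  obtain ⟨ζ, zz, phi, sq⟩ : ∃ ζ : G, ζ * ζ = 1 ∧ (∀ r, r ∈ Phi R ↔ r = 1 ∨ r = ζ) ∧
      ∀ r ∈ R, r ∉ Phi R → r * r = ζ := by
    rcases D.typ with ⟨m, H⟩ | ⟨z, H⟩
    swap
    · exact ⟨z, H.zz, H.phi, H.sq⟩
    set v := g * u * g⁻¹ with hvd
    have c1 : Commute v ⁅v, u⁆ := by
      have := (H.comm _ hu _ h1R).map (MulAut.conj g)
      simpa [hvd, mul_assoc] using this
    obtain ⟨h, hC, hh⟩ := D.cyc
    obtain ⟨r, hr, k, e⟩ := hh (v * v) ((D.two hv hv).2 Iff.rfl)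
    have c2 : Commute (h ^ k) ⁅v, u⁆ := by
      rw [show h ^ k = r⁻¹ * (v * v) by rw [e]; group]
      exact (H.comm _ hr _ h0R).inv_left.mul_left (c1.mul_left c1)
    have c3 : Commute (v * v) u :=
      e ▸ (H.comm _ hr _ hu).mul_left (D.cent_of_fix hG (C.pow_mem hC k) h0R h0 c2 u hu)
    have c4 : ⁅v, u⁆ ^ 2 = 1 := by
      calc ⁅v, u⁆ ^ 2 = (v * ⁅v, u⁆ * v⁻¹) * ⁅v, u⁆ := by rw [c1.eq, pow_two]; group
        _ = v * v * u * (u * (v * v))⁻¹ * (u * (v * ⁅v, u⁆ * v⁻¹) * u⁻¹)⁻¹ * (v * ⁅v, u⁆ * v⁻¹) *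
          ((v * ⁅v, u⁆ * v⁻¹)⁻¹ * (u * (v * ⁅v, u⁆ * v⁻¹) * u⁻¹)) := by
          simp only [commutatorElement_def]; group
        _ = 1 := by rw [c3.eq]; group
    have hm : m = 1 := by
      have := orderOf_dvd_of_pow_eq_one c4
      rw [H.ord _ h0R h0, ← pow_one 2, ← pow_mul, Nat.pow_dvd_pow_iff_le_right (by norm_num)] at this
      have := H.pos
      omega
    subst hm
    refine ⟨1, one_mul _, fun r => ⟨fun h => Or.inl (by simpa using H.phi r h), ?_⟩, fun r hr h => ?_⟩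
    · rintro (rfl | rfl) <;> exact one_mem _
    · have := pow_orderOf_eq_one r
      rwa [H.ord r hr h, pow_one, pow_two] at this
  have hz : g⁻¹ * ζ * g = ζ := by
    have e : g⁻¹ * ⁅g * u * g⁻¹, u⁆ * g * (g⁻¹ * ⁅g * u * g⁻¹, u⁆ * g) = g⁻¹ * ζ * g := by
      rw [← sq _ h0R h0]; group
    by_cases k : g⁻¹ * ⁅g * u * g⁻¹, u⁆ * g ∈ Phi R
    · have : g⁻¹ * ζ * g = 1 := by
        rw [← e]
        rcases (phi _).1 k with k | k <;> rw [k]
        exacts [one_mul _, zz]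
      rw [this, show ζ = g * (g⁻¹ * ζ * g) * g⁻¹ by group, this]
      group
    · rw [← e, sq _ h1R k]
  have vv : g * u * g⁻¹ * (g * u * g⁻¹) = u * u := by
    calc _ = g * (u * u) * g⁻¹ := by group
      _ = _ := by rw [sq u hu uK]; conv_lhs => rw [← hz]
                  group
  set v := g * u * g⁻¹ with hvd
  have zi : (u * u)⁻¹ = u * u := by rw [sq u hu uK]; exact inv_eq_of_mul_eq_one_right zz
  have ss : v⁻¹ * u * (v⁻¹ * u) = v⁻¹ * ⁅v, u⁆⁻¹ * v⁻¹⁻¹ := by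
    calc _ = v⁻¹ * u * v * (v * v)⁻¹ * u := by group
      _ = v⁻¹ * u * v * u⁻¹ := by rw [vv]; group
      _ = _ := by simp only [commutatorElement_def]; group
  refine ⟨u, v⁻¹ * u, ζ, zz, phi, sq, hu, uK, mul_mem (inv_mem hv) (D.RN hu), fun k => hv' ?_, ?_, ?_,
    ss ▸ D.conjR (inv_mem hv) (R.inv_mem h0R), ss ▸ fun k => h0 (inv_mem_iff.1 ((D.conjK (inv_mem hv)).1 k))⟩
  · simpa using Q.inv_mem (Q.mul_mem k (Q.inv_mem (D.RQ hu)))
  · rw [show v⁻¹ * u = ⁅g, u⁻¹⁆ by simp only [hvd, commutatorElement_def]; group]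
    exact commutator_mem_commutator (mem_top _) (mem_top _)
  · calc u * (v⁻¹ * u) * u⁻¹ = u⁻¹ * (u * u) * (v * v)⁻¹ * v := by group
      _ = _ := by rw [vv]; group

end Cfsg.Agent.H97.Bc
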