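import Cfsg.Agent.H97.JnD23

/-!
# Certificates
-/

set_option autoImplicit false
set_option maxRecDepth 1000000

namespace Cfsg.Agent.H97.JM

open Cfsg.Agent.H42 Cfsg.Agent.H46 Cfsg.Agent.H17.J4R

def tc23_0 : List Item := [([5, 3], 0x2ab37781f74f1b463ca48158ef3, [0, 7, 1], [0, 2, 4]),
  ([5, 3, 1], 0x336b4334a8e2b927b5e54ab911a, [0, 6], [0, 3]),
  ([6, 2], 0x92b240c1e86f59ec98ae6f76a98, [0, 2, 12], [0, 14]),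
  ([6, 3, 1], 0xa7bd37fd3fea62a340e2cec8c6b, [0, 1, 10], [0, 2, 7]),
  ([4, 3, 0], 0xb771829b38cd0adbe166f1667fd, [0, 7, 10], [0, 1, 15]),
  ([2, 0], 0x16b34ba0303bddc3681c92545b6f, [0, 10], [0, 4]),
  ([3, 3, 1], 0x172ec8eb65c107e570888eea4486, [0, 1], [0, 4, 1]),
  ([3, 6, 3], 0x185fd02ebd2c81c45de8a9365533, [0, 1, 6], [0, 14]),
  ([1, 6, 1], 0x1b0f275d7054d270a06c632db3c0, [0, 1], [0, 6]),
  ([4, 4], 0x1ef2e7bac93926fcad54a9e9ad88, [0, 5, 7], [0, 9]),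
  ([1], 0x20c7445fadc564bc1d1ae95b4bea, [0, 1, 0, 16], [0, 1, 15]),
  ([3, 3, 7], 0x253a84b814a890301022239f55a2, [0, 9, 7], [0, 13]),
  ([3, 6, 0], 0x266a73cbd9d0c384eda6e984b351, [0, 2, 1], [0, 7]),
  ([3, 7, 3], 0x2c77e3f48dd81d885f725bd848d3, [0, 4, 11], [0, 10]),
  ([6, 3], 0x2dea60bfd822c7ae47e64766573a, [0, 3, 14], [0, 14]),
  ([3, 7], 0x30bf7b2b6e1d66610360e5609fd7, [0, 15], [0, 2, 7]),
  ([], 0x31b3b07d0e6f10e68978a69a7441, [], []),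
  ([7, 1], 0x33ef8c58a36535d5fee42f7b7924, [0, 1, 6], [0, 4]),
  ([3, 7, 5], 0x3c9e949d7b88b3f4d38408a76891, [0, 3], [0, 3, 7]),
  ([5, 4], 0x3d0317d62e7269d2cb1014197778, [0, 3], [0, 6]),
  ([5], 0x494585b324dccb53554913bdee6a, [0, 5, 10], [0, 4]),
  ([4, 3, 1], 0x495af35a57cafd87c6726988303a, [0, 5, 0, 13], [0, 3, 10]),
  ([4], 0x4a1572c0e9a498e7a8cdd9a60899, [0, 2, 14], [0, 6]),
  ([4, 3], 0x549ea0d3d47df0e9107894ca0ca8, [0, 1, 12], [0, 3]),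
  ([2, 2, 2], 0x5503239881872acf08ec88741341, [0, 1, 3], [0, 3]),
  ([7, 3, 1], 0x6c19424bb7822345c3b1ae92cc21, [0, 14], [0, 1]),
  ([3, 0], 0x6d84c100e278f963db25b22cd3c8, [0, 11, 14], [0, 1, 8]),
  ([3, 6, 1], 0x71c2672b472318ff868029e52ee3, [0, 7], [0, 13]),
  ([7, 3, 0], 0x71dd11c234352e2b15bb53d0f0b3, [0, 2, 7], [0, 4]),
  ([2], 0x729290588a5b4b4b7b04e3fec810, [0, 7], [0, 1]),
  ([0], 0x8a6aba809c5ae4872fb13d852a12, [0, 14], [0, 3]),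
  ([4, 2], 0x8cd8fbfd9b59756b4c36476f0cf9, [0, 2, 7], [0, 1, 16]),
  ([7], 0x995d046ee1ec833a5f748190c68c, [0, 6], [0, 12]),
  ([7, 5], 0x9b1e4ea23ff090ddbbd3724415b9, [0, 4], [0, 1, 10]),
  ([3, 3], 0xa1dae6f6821350968cbdbbc80605, [0, 3, 15], [0, 2, 6]),
  ([4, 7], 0xa399ac3a5c0f4371681a481cd530, [0, 3, 9], [0, 14]),
  ([3], 0xb2ed5818ffa5372bfc7807ddea9b, [0, 1, 9], [0, 7]),
  ([2, 2, 0], 0xb45f1965f8a6a6c79fff7d37cc70, [0, 3], [0, 4]),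
  ([4, 0], 0xc6b4bc94861da37ef11a7a4cadd9, [0, 2, 7], [0, 2, 6]),
  ([6, 1], 0xc7293fdfd3e77958e98e66f2b230, [0, 3, 1], [0, 4, 7]),
  ([5, 4, 1], 0xca041b3fa600da4ab372c8cfaee0, [0, 3], [0, 15]),
  ([3, 2], 0xcef5108e7f1f5841345241f15b3e, [0, 1, 10], [0, 6]),
  ([6, 4], 0xd820186ec8d2fda4da944d1577b8, [0, 12, 9], [0, 1, 15]),
  ([5, 0], 0xdaed6c56505074363f849bb08ea2, [0, 1, 8], [0, 3]),
  ([3, 3, 2], 0xe0b88c1fd83b18dc9a660d786961, [0, 6, 5], [0, 1, 3]),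
  ([5, 2, 0], 0xe1b44749b8496e5b107e4e8282f7, [0, 8, 14], [0, 12, 12]),
  ([2, 2], 0xe3e87b6c15434b6867e2c7638f92, [0, 9, 12], [0, 1, 1]),
  ([3, 1], 0xe3f70d8566557dbcf4d9bd5651c2, [0, 3, 10], [0, 1, 1]),
  ([5, 2], 0xe5454cf86156ec50975ec7bc7729, [0, 5, 12], [0, 13]),
  ([4, 5, 3], 0xf0c0b36b1be31a01841c0143bd5c, [0, 1], [0, 7]),
  ([5, 4, 3], 0xf431b8dac2fc980a033c887d4882, [0, 6, 12], [0, 11, 10]),
  ([6, 0], 0xfce15cdd0e76cf9454f8ec844a1a, [0, 6], [0, 12]),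
  ([4, 1], 0xfd7cdf965b8c15b24c6cf03a55f3, [0, 6, 10], [0, 3, 14]),
  ([7, 3], 0xfe2c28e596f44606b1e83a21b300, [0, 2, 3], [0, 1, 13]),
  ([3, 3, 0], 0xffb1abaec30e9c20a97c269face9, [0, 1, 8], [0, 1, 16])]

theorem tc23_0_chk : allL (cosB K23 L23 vC23 [true, true, false, true] [false, true, false, true, true]) tc23_0 = true := by decide +kernel


end Cfsg.Agent.H97.JM
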