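import Cfsg.Agent.H76.K4Defs
import Cfsg.Agent.H8.K4Ar

/-! The arithmetic piece for principal blocks with four characters. -/

set_option autoImplicit false

namespace Cfsg.Agent.H97.K4Ar4

open Cfsg.Agent.H76.K4

theorem sq8 (t : ℤ) : t ^ 2 % 8 = 0 ∨ t ^ 2 % 8 = 1 ∨ t ^ 2 % 8 = 4 := by
  rcases Cfsg.Agent.H8.K4Ar.cls t with h | h | h | h | h <;> omega

theorem ar4 : Ar4Stmt := by
  intro p n hp hD
  obtain ⟨x, y, z, mx, my, mz, hq, hm, hw, -⟩ := hD
  have hne : p ^ n ≠ 1 := by
    intro h1
    rw [h1] at hq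
    have hq' : (1 : ℤ) = 1 + x ^ 2 + y ^ 2 + z ^ 2 := by exact_mod_cast hq
    have hx : x = 0 := by nlinarith [sq_nonneg x, sq_nonneg y, sq_nonneg z]
    have hy : y = 0 := by nlinarith [sq_nonneg x, sq_nonneg y, sq_nonneg z]
    have hz : z = 0 := by nlinarith [sq_nonneg x, sq_nonneg y, sq_nonneg z]
    rw [hx, hy, hz] at hm
    omega
  by_cases h2 : p = 2
  · subst h2
    rcases n with _ | _ | _ | n
    · exact absurd rfl hne
    · left; rfl
    · right; right; left; rfl
    · exfalso
      have e : ((2 ^ (n + 1 + 1 + 1) : ℕ) : ℤ) = 8 * 2 ^ n := by push_cast; ring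
      rw [e] at hq
      have a := sq8 x
      have b := sq8 y
      have c := sq8 z
      generalize x ^ 2 = X at *
      generalize y ^ 2 = Y at *
      generalize z ^ 2 = Z at *
      generalize (2 : ℤ) ^ n = N at *
      omega
  · have ho : Odd (p ^ n) := (hp.odd_of_ne_two h2).pow
    have ho' : ((p ^ n : ℕ) : ℤ) % 2 = 1 := by
      have := Nat.odd_iff.mp ho
      omega
    have hq0 : (0 : ℤ) ≤ ((p ^ n : ℕ) : ℤ) := Int.natCast_nonneg _
    have key := Cfsg.Agent.H8.K4Ar.ar ((p ^ n : ℕ) : ℤ) x y z hq ho' (by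
      intro a b c d hb hc hd
      obtain ⟨u, hu⟩ := hb
      obtain ⟨v, hv⟩ := hc
      obtain ⟨w, hw'⟩ := hd
      have h := hw (-u) (-v) (-w)
      generalize ((p ^ n : ℕ) : ℤ) = q at *
      have eb : b = a * x + q * u := by linarith
      have ec : c = a * y + q * v := by linarith
      have ed : d = a * z + q * w := by linarith
      set s := x * (-u) + y * (-v) + z * (-w) with hs
      have e : a ^ 2 + b ^ 2 + c ^ 2 + d ^ 2 =
          q * (a ^ 2 - 2 * a * s + q * ((-u) ^ 2 + (-v) ^ 2 + (-w) ^ 2)) := by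
        rw [eb, ec, ed, hs]
        linear_combination (-(a ^ 2)) * hq
      rw [e]
      apply mul_le_mul_of_nonneg_left _ hq0
      have t : 0 ≤ (a - s) * (a - s - 1) := by
        rcases le_or_gt (a - s) 0 with g | g
        · exact mul_nonneg_of_nonpos_of_nonpos g (by omega)
        · exact mul_nonneg g.le (by omega)
      nlinarith)
    rcases key with k | k | k | k
    · exact absurd (by exact_mod_cast k) hne
    · right; left; exact_mod_cast k
    · right; right; right; exact_mod_cast k
    · exfalso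
      have k' : p ^ n = 15 := by exact_mod_cast k
      have h3 : 3 ∣ p ^ n := by rw [k']; norm_num
      have h5 : 5 ∣ p ^ n := by rw [k']; norm_num
      have e3 := (Nat.prime_dvd_prime_iff_eq Nat.prime_three hp).mp (Nat.prime_three.dvd_of_dvd_pow h3)
      have e5 := (Nat.prime_dvd_prime_iff_eq Nat.prime_five hp).mp (Nat.prime_five.dvd_of_dvd_pow h5)
      omega

end Cfsg.Agent.H97.K4Ar4
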