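import Cfsg.Agent.H97.U5Defs

/-! Critical subgroups of `U T` inside `R`, and critical subgroups containing the third centre. -/

set_option autoImplicit false

namespace Cfsg.Agent.H97.U5

open Cfsg.Agent.H97 Subgroup
open Cfsg.Agent.H96.VB hiding LA LB
open scoped commutatorElement

universe u

theorem cm_one {G : Type*} [Group G] {a b : G} : ⁅a, b⁆ = 1 ↔ a * b = b * a :=
  commutatorElement_eq_one_iff_mul_comm

theorem cm_swap {G : Type*} [Group G] {X : Subgroup G} {a b : G} (h : ⁅a, b⁆ ∈ X) : ⁅b, a⁆ ∈ X := by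
  rw [← commutatorElement_inv]; exact inv_mem h

variable {K : Type u} [Field K] {T : Hm K} {p : ℕ} {P : Subgroup (U T)} {g k : U T}

theorem Cp.Z_le (h : Cp p P) : Z T ≤ P := fun _ hg => h.cent fun x _ => comm_Z hg x

theorem eq_of_Z (hg : g ∈ Z T) (hk : k ∈ Z T) (e : g.a = k.a) : g = k :=
  U.ext (hg.1.trans hk.1.symm) (hg.2.1.trans hk.2.1.symm) (hg.2.2.1.trans hk.2.2.1.symm) e
    (hg.2.2.2.1.trans hk.2.2.2.1.symm) (hg.2.2.2.2.trans hk.2.2.2.2.symm)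

theorem rv_QR (w : K) : rv T w 0 ∈ QR T := ⟨rfl, rfl, rv_d0 T w⟩

theorem rv_Z3 (w : K) : rv T w 0 ∈ Z3 T := ⟨rfl, rfl⟩

theorem xm_Z2 (w : K) : xm T w ∈ Z2 T := ⟨rfl, rfl, rfl, rfl⟩

theorem skew_a (hg : g.v1 = 0) : g.a + T.σ g.a = 0 := by simpa [hg] using g.ha

theorem skew_d (hg : g.v2 = 0) : g.d + T.σ g.d = 0 := by simpa [hg] using g.hd

/-- the centre consists of commutators of elements of `Q ∩ R` -/
theorem exists_cm_rv (hg : g ∈ Z T) : ∃ w, ⁅rv T 1 0, rv T w 0⁆ = g := by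
  obtain ⟨w, hw⟩ := T.exists_skew (skew_a hg.2.1)
  refine ⟨w, eq_of_Z (cm_Z3Z3 (rv_Z3 _) (rv_Z3 _)) hg ?_⟩
  rw [(cm_RR (g := rv T 1 0) (k := rv T w 0) rfl rfl).2.1, ← hw]; simp

/-- the centre consists of commutators of `k` with `Z₂` -/
theorem exists_cm_xm (hg : g ∈ Z T) (hk : k.t ≠ 0) : ∃ w, ⁅k, xm T w⁆ = g := by
  obtain ⟨w, hw⟩ := T.exists_skew (skew_a hg.2.1)
  have := T.σ_ne_zero hk
  refine ⟨w / T.σ k.t, eq_of_Z (cm_Z (xm_Z2 _)) hg ?_⟩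
  rw [cm_a2 (xm_Z2 _), ← hw, xm_m, map_div₀, T.inv]; field_simp

theorem mem_V_of_comm (hg : g ∈ R T) (h : ∀ w, ⁅g, rv T w 0⁆ = 1) : g ∈ V T := by
  have h1 : g.v1 = 0 := T.σ_eq_zero.1 (T.eq_zero_of_skew fun w => by
    have := (cm_RR hg (k := rv T w 0) rfl).2.1
    rw [h w] at this
    simp only [U.one_a, rv_v1] at this
    rw [T.inv]; linear_combination -this)
  have := (cm_RR hg (k := rv T 1 0) rfl).2.2
  rw [h 1] at this
  exact ⟨hg, h1, by simpa using this.symm⟩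

theorem prop_of_comm (hg : g ∈ R T) (hk : k ∈ R T) (h : ⁅g, k⁆ = 1) (e : ¬ (g.v1 = 0 ∧ g.v2 = 0)) :
    ∃ l, T.σ l = l ∧ k.v1 = l * g.v1 ∧ k.v2 = l * g.v2 := by
  obtain ⟨-, h1, h2⟩ := cm_RR hg hk
  have h3 := cm_d g k
  rw [h] at h1 h2 h3
  simp only [U.one_a, U.one_m, U.one_d] at h1 h2 h3
  by_cases e1 : g.v1 = 0
  · have e2 : g.v2 ≠ 0 := fun k => e ⟨e1, k⟩
    obtain ⟨l, hl, e3⟩ := T.exists_fix e2 (y := k.v2) (by linear_combination -h3)
    refine ⟨l, hl, ?_, e3⟩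
    have : k.v1 * T.σ g.v2 = 0 := by rw [e1] at h2; linear_combination -h2
    simpa [e1, e2] using this
  · obtain ⟨l, hl, e3⟩ := T.exists_fix e1 (y := k.v1) (by linear_combination -h1)
    refine ⟨l, hl, e3, T.σ.injective (mul_left_cancel₀ e1 ?_)⟩
    rw [map_mul, hl]
    rw [e3] at h2
    linear_combination h2

variable (T) in
/-- the elements of `R` with vector in `F (v, w)` -/
def Bv (v w : K) : Subgroup (U T) where
  carrier := {r | r.t = 0 ∧ ∃ l, T.σ l = l ∧ r.v1 = l * v ∧ r.v2 = l * w}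
  one_mem' := ⟨rfl, 0, by simp⟩
  mul_mem' := fun {a b} ⟨h, l, h1, h2, h3⟩ ⟨e, n, e1, e2, e3⟩ =>
    ⟨by simp [h, e], l + n, by simp [h1, e1], by simp [h, h2, e2, add_mul], by simp [h3, e3, add_mul]⟩
  inv_mem' := fun {a} ⟨h, l, h1, h2, h3⟩ =>
    ⟨by simp [h], -l, by simp [h1], by simp [h, h2], by simp [h3]⟩

theorem om_mul_fix {l n : K} (hl : T.σ l = l) (hn : T.σ n = n) (e : T.om * l = n) : l = 0 := by
  have := congrArg T.σ e
  rw [map_mul, hl, hn, ← e] at this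
  by_contra k
  exact T.om_ne (mul_right_cancel₀ k this)

theorem a1 [CharP K p] : A1Stmt T p := fun P h hR => by
  have hV : V T ≤ zp p P := fun v hv => ⟨h.cent fun x hx => comm_VR hv (hR hx), pow_V_eq_one p hv,
    fun x hx => comm_VR hv (hR hx)⟩
  refine le_antisymm hR fun r hr => ?_
  by_cases hz : zp p P ≤ V T
  · exact h.chain1 ch_zp (fun x hx => hV (cm_RR hr (hR hx)).1) fun x hx =>
      cm_one.2 (comm_VR (hz hx) hr).symm
  exfalso
  obtain ⟨z, hz1, hz2⟩ := SetLike.not_le_iff_exists.1 hz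
  have zR := hR hz1.1
  have hv : ¬ (z.v1 = 0 ∧ z.v2 = 0) := fun e => hz2 ⟨zR, e⟩
  have pr := fun x (hx : x ∈ P) => prop_of_comm zR (hR hx) (cm_one.2 (hz1.2.2 x hx)) hv
  have cn : ∀ a b : K, a * z.v1 = b * z.v1 → a * z.v2 = b * z.v2 → a = b := fun a b h1 h2 => by
    by_contra e
    have e' := sub_ne_zero.2 e
    exact hv ⟨(mul_eq_zero.1 (by linear_combination h1)).resolve_left e',
      (mul_eq_zero.1 (by linear_combination h2)).resolve_left e'⟩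
  have key := h.off (Bv T (T.om * z.v1) (T.om * z.v2)) (fun x => rv T (T.om * x.v1) (T.om * x.v2))
    (fun e => by
      obtain ⟨l, h1, h2, h3⟩ := pr _ (e (x := rv T (T.om * z.v1) (T.om * z.v2)) ⟨rfl, 1, by simp⟩)
      exact T.om_ne (cn _ _ h2 h3 ▸ h1))
    (fun c hc x hx => hV (cm_RR hc.1 (hR hx)).1)
    (fun c hc d hd x hx => cm_one.2 (comm_VR (cm_RR hc.1 (hR hx.1)).1 hd.1).symm)
    (fun x hx => by
      obtain ⟨l, h1, h2, h3⟩ := pr x hx.1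
      exact ⟨rfl, l, h1, by simp [h2]; ring, by simp [h3]; ring⟩)
    (fun x hx y hy e c hc => by
      obtain ⟨l, h1, h2, h3⟩ := pr x hx.1
      obtain ⟨n, e1, e2, e3⟩ := pr y hy.1
      obtain ⟨j, k1, k2, k3⟩ := pr _ e
      simp only [U.mul_v1, U.mul_v2, U.inv_v1, U.inv_v2, U.inv_t, rv_t, rv_v1, rv_v2, h2, h3, e2, e3]
        at k2 k3
      have : n - l = 0 := om_mul_fix (by simp [h1, e1]) k1
        (cn _ _ (by linear_combination k2) (by linear_combination k3))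
      have hx0 : x.t = 0 := hR hx.1
      have hy0 : y.t = 0 := hR hy.1
      refine cm_one.2 (comm_VR ⟨by simp [hx0, hy0], ?_, ?_⟩ hc.1).symm
      · simp only [U.mul_v1, U.inv_v1, U.inv_t, hx0, h2, e2]; linear_combination z.v1 * this
      · simp only [U.mul_v2, U.inv_v2, h3, e3]; linear_combination z.v2 * this)
  have fin : ∀ a b : K, a * z.v2 = b * z.v1 := fun a b => by
    obtain ⟨c, ⟨c0, l, -, h2, h3⟩, e⟩ := key (rv T a b) fun x hx => (hV (cm_RR rfl (hR hx)).1).1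
    obtain ⟨j, -, k2, k3⟩ := pr _ e
    simp only [U.mul_v1, U.mul_v2, U.inv_v1, U.inv_v2, U.inv_t, rv_v1, rv_v2, h2, h3, c0] at k2 k3
    linear_combination z.v2 * k2 - z.v1 * k3
  exact hv ⟨by simpa using (fin 0 1).symm, by simpa using fin 1 0⟩

theorem ch_V_of_PR (h3 : Z3 T ≤ P) (h : Ch P (P ⊓ R T)) : Ch P (V T) := by
  have e : V T = (P ⊓ R T) ⊓ (P ⊓ centralizer ((P ⊓ R T : Subgroup (U T)) : Set (U T))) :=
    le_antisymm (fun v hv => ⟨⟨h3 (V_le_Z3 hv), hv.1⟩, h3 (V_le_Z3 hv),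
      fun x hx => (comm_VR hv hx.2).symm⟩) fun v hv => mem_V_of_comm hv.1.2 fun w =>
        cm_one.2 (hv.2.2 _ ⟨h3 (rv_Z3 w), rfl⟩).symm
  exact e ▸ h.inf h.cent

theorem Z_le_Z3Z3 : Z T ≤ ⁅Z3 T, Z3 T⁆ := fun g hg => by
  obtain ⟨w, rfl⟩ := exists_cm_rv hg
  exact commutator_mem_commutator (rv_Z3 _) (rv_Z3 _)

theorem fin : FinStmt T p := fun P h hR h3 hc => by
  obtain ⟨g0, hg0, ht0⟩ := SetLike.not_le_iff_exists.1 hR
  have ht : g0.t ≠ 0 := ht0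
  have cPR : Ch P (P ⊓ R T) := hc.elim (fun c => cR (T := T) ▸ c.cent) fun c => cV (T := T) ▸ c.cent
  have cV := ch_V_of_PR h3 cPR
  have hRP : R T ≤ P := fun r hr => h.chain2 cPR cV (fun x _ => ⟨h3 (cm_Z3 r x), cm_t r x⟩)
    (fun x hx => (cm_RR hr hx.2).1) fun x hx => cm_one.2 (comm_VR hx hr).symm
  rw [inf_eq_right.2 hRP] at cPR
  have e3 : Z3 T = ⁅R T, P⁆ ⊔ V T := by
    refine le_antisymm (fun g hg => ?_) (sup_le (commutator_le.2 fun x _ y _ => cm_Z3 x y) V_le_Z3)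
    have hc : ⁅rv T 0 (-g.v1 / g0.t), g0⁆ ∈ ⁅R T, P⁆ := commutator_mem_commutator rfl hg0
    refine (mul_mem_cancel_left (mem_sup_left (inv_mem hc))).1 (mem_sup_right ⟨?_, ?_, ?_⟩)
    · simp [hg.1]
    · simp [cm_v1]; field_simp; ring
    · simp [hg.2]
  have c3 : Ch P (Z3 T) := e3 ▸ (cPR.commutator Ch.self).sup cV
  have e1 : Z T = ⁅Z3 T, Z3 T⁆ := le_antisymm Z_le_Z3Z3 (commutator_le.2 fun x hx y hy => cm_Z3Z3 hx hy)
  have e2 : Z2 T = ⁅Z3 T, P⁆ := by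
    refine le_antisymm (fun g hg => ?_) (commutator_le.2 fun x hx y _ => cm_Z2' hx)
    have hc : ⁅rv T (-g.m) 0, rv T 0 1⁆ ∈ ⁅Z3 T, P⁆ := commutator_mem_commutator (rv_Z3 _) (hRP rfl)
    have h2 := mul_mem (inv_mem (cm_Z2' (k := rv T 0 1) (rv_Z3 (T := T) (-g.m)))) hg
    refine (mul_mem_cancel_left (inv_mem hc)).1
      (commutator_mono le_rfl h3 (Z_le_Z3Z3 ⟨h2.1, h2.2.1, h2.2.2.1, ?_, h2.2.2.2⟩))
    simp [cm_m, cm_v1, hg.2.2.1]
  refine h.ne (eq_top_iff.2 fun g _ => h.chain [Z3 T, Z2 T, Z T] ?_ g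
    ⟨fun x _ => cm_Z3 g x, fun x hx => cm_Z2 hx, fun x hx => cm_Z hx,
      fun x hx => cm_one.2 (comm_Z hx g).symm⟩)
  simp only [List.mem_cons, List.not_mem_nil, or_false, forall_eq_or_imp, forall_eq]
  exact ⟨c3, e2 ▸ c3.commutator Ch.self, e1 ▸ c3.commutator c3⟩

end Cfsg.Agent.H97.U5
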