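import Cfsg.Agent.H97.U5A1

/-! Critical subgroups of `U T` inside `Q V`. -/

set_option autoImplicit false

namespace Cfsg.Agent.H97.U5

open Cfsg.Agent.H97 Subgroup
open Cfsg.Agent.H96.VB hiding LA LB
open scoped commutatorElement

universe u

variable {K : Type u} [Field K] {T : Hm K} {p : ℕ} {P : Subgroup (U T)} {g k : U T} {t : K}

theorem Z1_comm (hg : g ∈ Z1 T t) {l : K} (hl : T.σ l = l) (hk : k.t = l * t) : g * k = k * g := by
  refine (cm_one.1 (eq_one_of_Z (cm_Z hg.1) ?_)).symm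
  rw [cm_a2 hg.1, hk, map_mul, hl]
  linear_combination l * hg.2

theorem mem_Z1_of_comm (hg : g ∈ Z2 T) (h : g * k = k * g) : g ∈ Z1 T k.t := by
  have := cm_a2 (g := k) hg
  rw [cm_one.2 h.symm] at this
  exact ⟨hg, by simp only [U.one_a] at this; linear_combination -this⟩

theorem mem_Z1_of_fix (hg : g ∈ Z2 T) {l : K} (hl : T.σ l = l) (h : g.m = l * t) : g ∈ Z1 T t :=
  ⟨hg, by rw [h, map_mul, hl]; ring⟩

theorem Z_le_cm (h2 : Z2 T ≤ P) (hg : g ∈ P) (ht : g.t ≠ 0) : Z T ≤ ⁅P, P⁆ := fun z hz => by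
  obtain ⟨w, rfl⟩ := exists_cm_xm hz ht
  exact commutator_mem_commutator hg (h2 (xm_Z2 w))

/-- the centre of a subgroup containing `Q ∩ R` -/
theorem center_le_Z1 (hQ : QR T ≤ P) (hg : g ∈ P) (ht : g.t ≠ 0) :
    P ⊓ centralizer (P : Set (U T)) ≤ Z1 T g.t := fun z hz => by
  have hR : z ∈ R T := cR (T := T) ▸ centralizer_le (Z2_le_QR.trans hQ) hz.2
  have hV := mem_V_of_comm hR fun w => cm_one.2 (hz.2 _ (hQ (rv_QR w))).symm
  have e := (cm_V (g := g) hV).1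
  rw [cm_one.2 (hz.2 g hg)] at e
  exact mem_Z1_of_comm ⟨hV.1, hV.2.1, hV.2.2, by simpa [ht] using e.symm⟩ (hz.2 g hg).symm

theorem Z3_le (h1 : QR T ≤ P) (h2 : V T ≤ P) : Z3 T ≤ P := fun g hg =>
  (mul_mem_cancel_left (inv_mem (h1 (rv_QR g.v1)))).1 (h2 ⟨by simp [hg.1], by simp, by simp [hg.2]⟩)

theorem skew_div {a b : K} (ha : a + T.σ a = 0) (hb : b + T.σ b = 0) : T.σ (a / b) = a / b := by
  rw [map_div₀, show T.σ a = -a by linear_combination ha, show T.σ b = -b by linear_combination hb,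
    neg_div_neg_eq]

theorem a3 (fin : FinStmt T p) : A3Stmt T p := fun P h hR h2 hQV => by
  obtain ⟨g0, hg0, ht0⟩ := SetLike.not_le_iff_exists.1 hR
  have ht : g0.t ≠ 0 := ht0
  have cP : Ch P ⁅P, P⁆ := Ch.self.commutator Ch.self
  have hZ := Z_le_cm h2 hg0 ht
  have hP2 : ⁅P, P⁆ ≤ Z2 T := commutator_le.2 fun x hx y hy => (cm_QV (hQV hx) (hQV hy)).1
  have hQR : QR T ≤ P := fun y hy => h.chain1 cP (fun x hx => hZ (cm_swap (cm_QVR (hQV hx) hy).1))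
    fun x hx => cm_one.2 (comm_VR (Z2_le_V (hP2 hx)) hy.1).symm
  have hC := center_le_Z1 hQR hg0 ht
  have ZC : Z T ≤ P ⊓ centralizer (P : Set (U T)) := fun z hz => ⟨h.Z_le hz, fun x _ => (comm_Z hz x).symm⟩
  by_cases hQ : P ≤ Q T
  · have hP1 : ⁅P, P⁆ ≤ Z T := commutator_le.2 fun x hx y hy => (cm_QQ (hQ hx) (hQ hy)).1
    exact le_antisymm hQ fun y hy => h.chain1 cP (fun x hx => hZ (cm_QQ hy (hQ hx)).1)
      fun x hx => cm_one.2 (comm_Z (hP1 hx) y).symm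
  exfalso
  obtain ⟨g1, hg1, hd1⟩ := SetLike.not_le_iff_exists.1 hQ
  have hd : g1.d ≠ 0 := fun e => hd1 ⟨hQV hg1, e⟩
  have sk := fun x (hx : x ∈ P) => skew_d (g := x) (hQV hx)
  have Z1C : (∀ x ∈ P, ∃ l, T.σ l = l ∧ x.t = l * g0.t) → Z1 T g0.t ≤ P ⊓ centralizer (P : Set (U T)) :=
    fun e z hz => ⟨h2 hz.1, fun x hx => by
      obtain ⟨l, h1, h3⟩ := e x hx
      exact (Z1_comm hz h1 h3).symm⟩
  by_cases hb : ∀ x ∈ P, ∀ y ∈ P, x.t * y.d = y.t * x.d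
  · have hd0 : g0.d ≠ 0 := fun e => by simpa [e, ht, hd] using hb g0 hg0 g1 hg1
    have hl := Z1C fun x hx => ⟨x.d / g0.d, skew_div (sk x hx) (sk g0 hg0), by
      field_simp; linear_combination hb x hx g0 hg0⟩
    have hP1 : ⁅P, P⁆ ≤ Z T := commutator_le.2 fun x hx y hy => by
      obtain ⟨e1, e2⟩ := cm_QV (hQV hx) (hQV hy)
      exact ⟨e1.1, e1.2.1, e1.2.2.1, by rw [e2, hb x hx y hy, sub_self], e1.2.2.2⟩
    have hy : xt T (g0.t / g0.d) ∈ P := h.chain2 ch_center cP (fun x hx => by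
      obtain ⟨e1, e2⟩ := cm_QV (g := xt T (g0.t / g0.d)) rfl (hQV hx)
      exact hl (mem_Z1_of_fix e1 (skew_div (sk x hx) (sk g0 hg0)) (by simp [e2]; ring)))
      (fun x hx => hZ (cm_Z (hC hx).1)) fun x hx => cm_one.2 (comm_Z (hP1 hx) _).symm
    simpa [ht, hd0] using hb _ hy g0 hg0
  push Not at hb
  obtain ⟨x0, hx0, y0, hy0, hxy⟩ := hb
  have ca : Ch P (Z T) → False := fun cZ => by
    have cQ : Ch P (QR T) := Ch.of_iff cZ.ivs.commP fun g => ⟨fun hg => ⟨hQR hg, fun x hx =>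
      cm_swap (cm_QVR (hQV hx) hg).1⟩, fun ⟨hg, e⟩ => by
        have e1 := (cm_QV (hQV hg) (hQV hx0)).2
        have e2 := (cm_QV (hQV hg) (hQV hy0)).2
        rw [(e x0 hx0).2.2.2.1] at e1
        rw [(e y0 hy0).2.2.2.1] at e2
        have s := sub_ne_zero.2 hxy
        exact ⟨(mul_eq_zero.1 (by linear_combination y0.t * e1 - x0.t * e2)).resolve_right s, hQV hg,
          (mul_eq_zero.1 (by linear_combination y0.d * e1 - x0.d * e2)).resolve_right s⟩⟩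
    have e2 : Z2 T = QR T ⊓ (P ⊓ centralizer (QR T : Set (U T))) :=
      le_antisymm (fun v hv => ⟨Z2_le_QR hv, h2 hv, fun x hx => (comm_VR (Z2_le_V hv) hx.1).symm⟩)
        fun v hv => ⟨hv.1.1, (mem_V_of_comm hv.1.1 fun w =>
          cm_one.2 (hv.2.2 _ (rv_QR w)).symm).2.1, hv.1.2⟩
    have c2 : Ch P (Z2 T) := e2 ▸ cQ.inf cQ.cent
    exact fin P h hR (Z3_le hQR fun v hv => h.chain1 c2 (fun x _ => cm_Z2' (V_le_Z3 hv))
      fun x hx => cm_one.2 (comm_VR hv hx.1)) (Or.inl c2)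
  by_cases hl : ∀ x ∈ P, ∃ l, T.σ l = l ∧ x.t = l * g0.t
  swap
  · push Not at hl
    obtain ⟨x, hx, e⟩ := hl
    refine ca ((le_antisymm (fun z hz => ?_) ZC) ▸ ch_center)
    have e1 := hC hz
    have e2 := mem_Z1_of_comm e1.1 (hz.2 x hx).symm
    refine ⟨e1.1.1, e1.1.2.1, e1.1.2.2.1, by_contra fun k => ?_, e1.1.2.2.2⟩
    obtain ⟨l, h1, h3⟩ := T.exists_fix ht (y := x.t) (mul_right_cancel₀ k (by
      linear_combination x.t * e1.2 - g0.t * e2.2))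
    exact e l h1 h3
  by_cases h0 : (2 : K) = 0
  swap
  · have hP1 : ⁅P, P⁆ ≤ Z1 T (T.ep * g0.t) := commutator_le.2 fun x hx y hy => by
      obtain ⟨e1, e2⟩ := cm_QV (hQV hx) (hQV hy)
      obtain ⟨l, h1, h3⟩ := hl x hx
      obtain ⟨n, h4, h5⟩ := hl y hy
      refine ⟨e1, ?_⟩
      simp only [e2, h3, h5, map_mul, map_sub, h1, h4, T.σ_ep, U.σ_d, show x.v2 = 0 from hQV hx,
        show y.v2 = 0 from hQV hy]
      ring
    refine ca ((le_antisymm (fun z hz => ?_) (le_inf hZ ZC)) ▸ cP.inf ch_center)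
    have e1 := hC hz.2
    have e2 := (hP1 hz.1).2
    rw [map_mul, T.σ_ep] at e2
    have : 2 * T.ep * T.σ g0.t * z.m = 0 := by linear_combination T.ep * e1.2 - e2
    exact ⟨e1.1.1, e1.1.2.1, e1.1.2.2.1, by simpa [h0, T.ep_ne, ht] using this, e1.1.2.2.2⟩
  have fx : ∀ {a : K}, a + T.σ a = 0 → T.σ a = a := fun {a} e => by linear_combination e - a * h0
  have hl1 := Z1C hl
  have hV : V T ≤ P := fun v hv => h.chain1 ch_center (fun x hx => by
    obtain ⟨l, h1, h3⟩ := hl x hx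
    refine cm_swap (hl1 (mem_Z1_of_fix (cm_Z2 (V_le_Z3 hv)) (l := l * v.d) ?_ ?_))
    · rw [map_mul, h1, fx (skew_d hv.2.2)]
    · rw [(cm_V hv).1, h3]; ring) fun x hx => cm_one.2 (comm_VR hv (hC hx).1.1)
  refine fin P h hR (Z3_le hQR hV) (Or.inr (Ch.of_iff (IvS.inv.inter (ivs_miss ch_center.ivs))
    fun g => ⟨fun hg => ⟨hV hg, ?_, ?_⟩, fun ⟨hg, e, z, _, hz, e'⟩ => ?_⟩))
  · change g * g = 1
    ext <;> simp [hg.1, hg.2.1, hg.2.2, ← two_mul, h0]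
  · by_cases e : g.d = 0
    · refine ⟨xm T g0.t, h2 (xm_Z2 _), hl1 (mem_Z1_of_fix (xm_Z2 _) (map_one _) (by simp)),
        fun x _ k => ht ?_⟩
      have := (cm_Z' (k := x) (show g ∈ Z2 T from ⟨hg.1, hg.2.1, hg.2.2, e⟩)).2.2.2.1
      rwa [k] at this
    · have hz : xa T T.ep (by simp) ∈ Z T := ⟨rfl, rfl, rfl, rfl, rfl⟩
      refine ⟨_, h.Z_le hz, ZC hz, fun x _ k => T.ep_ne ?_⟩
      have k' : ⁅x, g⁆ = (xa T T.ep (by simp))⁻¹ := by rw [← k, commutatorElement_inv]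
      have e1 := (cm_V (g := x) hg).1
      rw [k'] at e1
      have : x.t = 0 := by simpa [e] using e1.symm
      rw [cm_one.2 (comm_VR hg this)] at k
      exact (congrArg U.a k).symm
  · have e0 : g * g = 1 := e
    have v2 : g.v2 = 0 := hQV hg
    have em := congrArg U.m e0
    have ea := congrArg U.a e0
    simp only [U.mul_m, U.mul_a, U.one_m, U.one_a, v2, map_zero] at em ea
    by_cases gt : g.t = 0
    · refine ⟨gt, ?_, v2⟩
      rw [gt, map_zero] at ea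
      have : g.v1 * T.σ g.v1 = 0 := by linear_combination -ea + g.a * h0
      simpa using this
    exfalso
    have z1 := hC hz
    obtain ⟨l, h1, h3⟩ := hl g hg
    have z2 : T.σ g.t * z.m = g.t * T.σ z.m := by
      rw [h3, map_mul, h1]; linear_combination l * z1.2
    have gs := T.σ_ne_zero gt
    have sn : z.m / g.t + T.σ (z.m / g.t) = 0 := by
      rw [map_div₀]; field_simp; linear_combination -z2 + T.σ g.t * z.m * h0
    have hc : ⁅g, xd T _ sn⁆⁻¹ * z ∈ Z T := by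
      have c2 : ⁅g, xd T _ sn⁆ ∈ Z2 T := cm_Z2 ⟨rfl, rfl⟩
      have c3 := mul_mem (inv_mem c2) z1.1
      refine ⟨c3.1, c3.2.1, c3.2.2.1, ?_, c3.2.2.2⟩
      simp only [U.mul_m, U.inv_m, U.inv_t, U.inv_v1, c2.1, c2.2.1, c2.2.2.1, c2.2.2.2, z1.1.2.2.1,
        (cm_V (g := g) (k := xd T _ sn) ⟨rfl, rfl, rfl⟩).1, xd_d, map_zero]
      field_simp; ring
    obtain ⟨w, hw⟩ := exists_cm_xm hc gt
    refine e' (xd T _ sn * xm T w) (hV (mul_mem ⟨rfl, rfl, rfl⟩ (Z2_le_V (xm_Z2 w)))) ?_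
    have c4 : xd T _ sn * ⁅g, xm T w⁆ = ⁅g, xm T w⁆ * xd T _ sn := (comm_Z (cm_Z (xm_Z2 w)) _).symm
    calc _ = ⁅g, xd T _ sn⁆ * (xd T _ sn * ⁅g, xm T w⁆ * (xd T _ sn)⁻¹) := by
          simp only [commutatorElement_def]; group
      _ = z := by rw [c4, mul_inv_cancel_right, hw, mul_inv_cancel_left]

end Cfsg.Agent.H97.U5
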