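import Mathlib

/-!
The Sylow `p`-subgroup of `PSU₅(q)` in coordinates.  An element `(t, v, M)` stands for the product of
`(v, M)` (with `M + M* + v v* = 0`, `M = [[a, m], [·, d]]`) and the transvection `[[1, t], [0, 1]]`.
-/

set_option autoImplicit false

namespace Cfsg.Agent.H97.U5

open Subgroup
open scoped commutatorElement

universe u

/-- A field with an involution whose norm is onto the fixed field. -/
structure Hm (K : Type u) [Field K] where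
  σ : RingAut K
  inv : ∀ x, σ (σ x) = x
  ne : ∃ x, σ x ≠ x
  nrm : ∀ c, σ c = c → ∃ a, a * σ a = c
  com : ∀ (φ : RingAut K) (x : K), φ (σ x) = σ (φ x)

attribute [simp] Hm.inv

variable {K : Type u} [Field K] (T : Hm K)

namespace Hm

@[simp] theorem σ_eq_zero {x : K} : T.σ x = 0 ↔ x = 0 := map_eq_zero_iff _ T.σ.injective

theorem σ_ne_zero {x : K} (h : x ≠ 0) : T.σ x ≠ 0 := fun e => h (T.σ_eq_zero.1 e)

theorem exists_half : ∃ w : K, w + T.σ w = 1 := by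
  have : ∃ y : K, y + T.σ y ≠ 0 := by
    by_contra! h
    obtain ⟨x, hx⟩ := T.ne
    have h1 := h 1
    rw [map_one] at h1
    exact hx (by linear_combination h x - x * h1)
  obtain ⟨y, hy⟩ := this
  refine ⟨y / (y + T.σ y), ?_⟩
  rw [map_div₀, map_add, T.inv, add_comm (T.σ y) y, ← add_div, div_self hy]

/-- an element of trace one -/
noncomputable def hf : K := T.exists_half.choose

theorem hf_add : T.hf + T.σ T.hf = 1 := T.exists_half.choose_spec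

/-- an element outside the fixed field -/
noncomputable def om : K := T.ne.choose

theorem om_ne : T.σ T.om ≠ T.om := T.ne.choose_spec

/-- a nonzero skew element -/
noncomputable def ep : K := T.om - T.σ T.om

theorem ep_ne : T.ep ≠ 0 := fun h => T.om_ne (sub_eq_zero.1 h).symm

@[simp] theorem σ_ep : T.σ T.ep = -T.ep := by simp [ep]

theorem exists_tr {c : K} (h : T.σ c = c) : ∃ b, b + T.σ b = c :=
  ⟨T.hf * c, by rw [map_mul, h]; linear_combination c * T.hf_add⟩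

/-- every skew element is `x - σ x` -/
theorem exists_skew {c : K} (h : c + T.σ c = 0) : ∃ x, x - T.σ x = c :=
  ⟨T.hf * c, by rw [map_mul]; linear_combination c * T.hf_add - T.σ T.hf * h⟩

theorem exists_nrm (b : K) : ∃ a, b + T.σ b + a * T.σ a = 0 := by
  obtain ⟨a, ha⟩ := T.nrm (-(b + T.σ b)) (by simp [add_comm])
  exact ⟨a, by rw [ha]; ring⟩

/-- Hilbert 90 -/
theorem h90 {c : K} (h : c * T.σ c = 1) : ∃ x, x ≠ 0 ∧ T.σ x = c * x := by
  by_cases e : 1 + T.σ c = 0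
  · refine ⟨T.ep, T.ep_ne, ?_⟩
    have : c = -1 := by linear_combination c * e - h
    simp [this]
  · exact ⟨1 + T.σ c, e, by rw [map_add, map_one, T.inv]; linear_combination -h⟩

/-- `x σ y - y σ x = 0` means that `y` is a multiple of `x` by a fixed element. -/
theorem exists_fix {x y : K} (hx : x ≠ 0) (h : y * T.σ x = x * T.σ y) : ∃ l, T.σ l = l ∧ y = l * x :=
  ⟨y / x, by
    have := T.σ_ne_zero hx
    rw [map_div₀]; field_simp; linear_combination -h, by field_simp⟩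

/-- `x w - σ (x w)` vanishes for all `w` only if `x = 0`. -/
theorem eq_zero_of_skew {x : K} (h : ∀ w, x * w = T.σ x * T.σ w) : x = 0 := by
  have h1 := h 1
  have h2 := h T.om
  rw [map_one, mul_one, mul_one] at h1
  rw [← h1] at h2
  by_contra e
  exact T.om_ne (mul_left_cancel₀ e h2).symm

end Hm

/-- The unipotent group. -/
@[ext] structure U where
  t : K
  v1 : K
  v2 : K
  a : K
  m : K
  d : K
  ha : a + T.σ a + v1 * T.σ v1 = 0
  hd : d + T.σ d + v2 * T.σ v2 = 0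

namespace U

variable {T}

theorem σ_a (g : U T) : T.σ g.a = -g.a - g.v1 * T.σ g.v1 := by linear_combination g.ha
theorem σ_d (g : U T) : T.σ g.d = -g.d - g.v2 * T.σ g.v2 := by linear_combination g.hd

instance : Mul (U T) := ⟨fun g k =>
  { t := g.t + k.t
    v1 := g.v1 + k.v1 + g.t * k.v2
    v2 := g.v2 + k.v2
    a := g.a + k.a - g.t * T.σ k.m + T.σ g.t * k.m - g.t * k.v2 * T.σ k.v1 + g.t * T.σ g.t * k.d
      - g.v1 * T.σ k.v1 - g.v1 * T.σ g.t * T.σ k.v2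
    m := g.m + k.m + g.t * k.d - g.v1 * T.σ k.v2
    d := g.d + k.d - g.v2 * T.σ k.v2
    ha := by simp only [map_add, map_sub, map_mul, T.inv, σ_a, σ_d]; ring
    hd := by simp only [map_add, map_sub, map_mul, T.inv, σ_d]; ring }⟩

instance : One (U T) := ⟨⟨0, 0, 0, 0, 0, 0, by simp, by simp⟩⟩

instance : Inv (U T) := ⟨fun g =>
  { t := -g.t
    v1 := -g.v1 + g.t * g.v2
    v2 := -g.v2
    a := -g.a - g.v1 * T.σ g.v1 - g.t * T.σ g.m + T.σ g.t * g.m + T.σ g.t * g.v1 * T.σ g.v2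
      - g.t * T.σ g.t * g.d - g.t * T.σ g.t * g.v2 * T.σ g.v2
    m := -g.m - g.v1 * T.σ g.v2 + g.t * g.d + g.t * g.v2 * T.σ g.v2
    d := -g.d - g.v2 * T.σ g.v2
    ha := by simp only [map_add, map_sub, map_mul, map_neg, T.inv, σ_a, σ_d]; ring
    hd := by simp only [map_sub, map_mul, map_neg, T.inv, σ_d]; ring }⟩

variable (g k : U T)

@[simp] theorem mul_t : (g * k).t = g.t + k.t := rfl
@[simp] theorem mul_v1 : (g * k).v1 = g.v1 + k.v1 + g.t * k.v2 := rfl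
@[simp] theorem mul_v2 : (g * k).v2 = g.v2 + k.v2 := rfl
@[simp] theorem mul_a : (g * k).a = g.a + k.a - g.t * T.σ k.m + T.σ g.t * k.m
    - g.t * k.v2 * T.σ k.v1 + g.t * T.σ g.t * k.d - g.v1 * T.σ k.v1 - g.v1 * T.σ g.t * T.σ k.v2 := rfl
@[simp] theorem mul_m : (g * k).m = g.m + k.m + g.t * k.d - g.v1 * T.σ k.v2 := rfl
@[simp] theorem mul_d : (g * k).d = g.d + k.d - g.v2 * T.σ k.v2 := rfl
@[simp] theorem one_t : (1 : U T).t = 0 := rfl
@[simp] theorem one_v1 : (1 : U T).v1 = 0 := rfl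
@[simp] theorem one_v2 : (1 : U T).v2 = 0 := rfl
@[simp] theorem one_a : (1 : U T).a = 0 := rfl
@[simp] theorem one_m : (1 : U T).m = 0 := rfl
@[simp] theorem one_d : (1 : U T).d = 0 := rfl
@[simp] theorem inv_t : g⁻¹.t = -g.t := rfl
@[simp] theorem inv_v1 : g⁻¹.v1 = -g.v1 + g.t * g.v2 := rfl
@[simp] theorem inv_v2 : g⁻¹.v2 = -g.v2 := rfl
@[simp] theorem inv_a : g⁻¹.a = -g.a - g.v1 * T.σ g.v1 - g.t * T.σ g.m + T.σ g.t * g.m
    + T.σ g.t * g.v1 * T.σ g.v2 - g.t * T.σ g.t * g.d - g.t * T.σ g.t * g.v2 * T.σ g.v2 := rfl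
@[simp] theorem inv_m : g⁻¹.m = -g.m - g.v1 * T.σ g.v2 + g.t * g.d + g.t * g.v2 * T.σ g.v2 := rfl
@[simp] theorem inv_d : g⁻¹.d = -g.d - g.v2 * T.σ g.v2 := rfl

end U

/-- Expands the coordinates of products and inverses. -/
macro "u5s" : tactic => `(tactic| simp only [commutatorElement_def, U.mul_t, U.mul_v1, U.mul_v2, U.mul_a,
  U.mul_m, U.mul_d, U.one_t, U.one_v1, U.one_v2, U.one_a, U.one_m, U.one_d, U.inv_t, U.inv_v1, U.inv_v2,
  U.inv_a, U.inv_m, U.inv_d, map_add, map_sub, map_mul, map_neg, map_zero, map_one, Hm.inv, U.σ_a,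
  U.σ_d])

/-- Expands the coordinates, rewrites with the given equations and calls `ring`. -/
macro "u5r" "[" ts:Lean.Parser.Tactic.simpLemma,* "]" : tactic => `(tactic| (try simp only [
  commutatorElement_def, U.mul_t, U.mul_v1, U.mul_v2, U.mul_a,
  U.mul_m, U.mul_d, U.one_t, U.one_v1, U.one_v2, U.one_a, U.one_m, U.one_d, U.inv_t, U.inv_v1, U.inv_v2,
  U.inv_a, U.inv_m, U.inv_d, map_add, map_sub, map_mul, map_neg, map_zero, map_one, Hm.inv, U.σ_a,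
  U.σ_d, $ts,*]) <;> try ring)

instance : Group (U T) := Group.ofLeftAxioms
  (fun a b c => by ext <;> u5s <;> ring) (fun a => by ext <;> u5s <;> ring)
  (fun a => by ext <;> u5s <;> ring)

instance [Finite K] : Finite (U T) :=
  Finite.of_injective (fun g : U T => (g.t, g.v1, g.v2, g.a, g.m, g.d)) fun g k h => by
    simp only [Prod.mk.injEq] at h
    exact U.ext h.1 h.2.1 h.2.2.1 h.2.2.2.1 h.2.2.2.2.1 h.2.2.2.2.2

/-! ### Elements -/

/-- the transvection -/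
def xt (t : K) : U T := ⟨t, 0, 0, 0, 0, 0, by simp, by simp⟩
/-- the root element in position `(1,2)` of `M` -/
def xm (m : K) : U T := ⟨0, 0, 0, 0, m, 0, by simp, by simp⟩
/-- `(v₁, a)` -/
def y1 (v a : K) (h : a + T.σ a + v * T.σ v = 0) : U T := ⟨0, v, 0, a, 0, 0, h, by simp⟩
/-- `(v₂, d)` -/
def y2 (v d : K) (h : d + T.σ d + v * T.σ v = 0) : U T := ⟨0, 0, v, 0, 0, d, by simp, h⟩
/-- central elements -/
def xa (a : K) (h : a + T.σ a = 0) : U T := y1 T 0 a (by simpa using h)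
/-- skew elements in position `(2,2)` -/
def xd (d : K) (h : d + T.σ d = 0) : U T := y2 T 0 d (by simpa using h)

theorem hf_nrm (v : K) : -(T.hf * (v * T.σ v)) + T.σ (-(T.hf * (v * T.σ v))) + v * T.σ v = 0 := by
  simp only [map_neg, map_mul, T.inv]; linear_combination -(v * T.σ v) * T.hf_add

/-- an element of `R` with the given vector -/
noncomputable def rv (v w : K) : U T :=
  ⟨0, v, w, -(T.hf * (v * T.σ v)), 0, -(T.hf * (w * T.σ w)), hf_nrm T v, hf_nrm T w⟩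

section
variable (x y : K)
@[simp] theorem xt_t : (xt T x).t = x := rfl
@[simp] theorem xt_v1 : (xt T x).v1 = 0 := rfl
@[simp] theorem xt_v2 : (xt T x).v2 = 0 := rfl
@[simp] theorem xt_a : (xt T x).a = 0 := rfl
@[simp] theorem xt_m : (xt T x).m = 0 := rfl
@[simp] theorem xt_d : (xt T x).d = 0 := rfl
@[simp] theorem xm_t : (xm T x).t = 0 := rfl
@[simp] theorem xm_v1 : (xm T x).v1 = 0 := rfl
@[simp] theorem xm_v2 : (xm T x).v2 = 0 := rfl
@[simp] theorem xm_a : (xm T x).a = 0 := rfl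
@[simp] theorem xm_m : (xm T x).m = x := rfl
@[simp] theorem xm_d : (xm T x).d = 0 := rfl
@[simp] theorem rv_t : (rv T x y).t = 0 := rfl
@[simp] theorem rv_v1 : (rv T x y).v1 = x := rfl
@[simp] theorem rv_v2 : (rv T x y).v2 = y := rfl
@[simp] theorem rv_m : (rv T x y).m = 0 := rfl
theorem rv_a : (rv T x y).a = -(T.hf * (x * T.σ x)) := rfl
theorem rv_d : (rv T x y).d = -(T.hf * (y * T.σ y)) := rfl
@[simp] theorem rv_d0 : (rv T x 0).d = 0 := by simp [rv_d]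
@[simp] theorem rv_a0 : (rv T 0 y).a = 0 := by simp [rv_a]
variable (h : y + T.σ y + x * T.σ x = 0) (e : y + T.σ y = 0)
@[simp] theorem y1_t : (y1 T x y h).t = 0 := rfl
@[simp] theorem y1_v1 : (y1 T x y h).v1 = x := rfl
@[simp] theorem y1_v2 : (y1 T x y h).v2 = 0 := rfl
@[simp] theorem y1_a : (y1 T x y h).a = y := rfl
@[simp] theorem y1_m : (y1 T x y h).m = 0 := rfl
@[simp] theorem y1_d : (y1 T x y h).d = 0 := rfl
@[simp] theorem y2_t : (y2 T x y h).t = 0 := rfl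
@[simp] theorem y2_v1 : (y2 T x y h).v1 = 0 := rfl
@[simp] theorem y2_v2 : (y2 T x y h).v2 = x := rfl
@[simp] theorem y2_a : (y2 T x y h).a = 0 := rfl
@[simp] theorem y2_m : (y2 T x y h).m = 0 := rfl
@[simp] theorem y2_d : (y2 T x y h).d = y := rfl
@[simp] theorem xa_t : (xa T y e).t = 0 := rfl
@[simp] theorem xa_v1 : (xa T y e).v1 = 0 := rfl
@[simp] theorem xa_v2 : (xa T y e).v2 = 0 := rfl
@[simp] theorem xa_a : (xa T y e).a = y := rfl
@[simp] theorem xa_m : (xa T y e).m = 0 := rfl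
@[simp] theorem xa_d : (xa T y e).d = 0 := rfl
@[simp] theorem xd_t : (xd T y e).t = 0 := rfl
@[simp] theorem xd_v1 : (xd T y e).v1 = 0 := rfl
@[simp] theorem xd_v2 : (xd T y e).v2 = 0 := rfl
@[simp] theorem xd_a : (xd T y e).a = 0 := rfl
@[simp] theorem xd_m : (xd T y e).m = 0 := rfl
@[simp] theorem xd_d : (xd T y e).d = y := rfl
end

/-! ### Subgroups -/

/-- `R = q^{4+4}` -/
def R : Subgroup (U T) where
  carrier := {g | g.t = 0}
  one_mem' := rfl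
  mul_mem' := fun {g k} (h : _ = _) (e : _ = _) => by simp [h, e]
  inv_mem' := fun {g} (h : _ = _) => by simp [h]

/-- `Q V` -/
def QV : Subgroup (U T) where
  carrier := {g | g.v2 = 0}
  one_mem' := rfl
  mul_mem' := fun {g k} (h : _ = _) (e : _ = _) => by simp [h, e]
  inv_mem' := fun {g} (h : _ = _) => by simp [h]

/-- `Q = q^{1+6}` -/
def Q : Subgroup (U T) where
  carrier := {g | g.v2 = 0 ∧ g.d = 0}
  one_mem' := ⟨rfl, rfl⟩
  mul_mem' := fun {g k} ⟨h, h'⟩ ⟨e, e'⟩ => by simp [h, e, h', e']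
  inv_mem' := fun {g} ⟨h, h'⟩ => by simp [h, h']

/-- the third centre -/
def Z3 : Subgroup (U T) where
  carrier := {g | g.t = 0 ∧ g.v2 = 0}
  one_mem' := ⟨rfl, rfl⟩
  mul_mem' := fun {g k} ⟨h, h'⟩ ⟨e, e'⟩ => by simp [h, e, h', e']
  inv_mem' := fun {g} ⟨h, h'⟩ => by simp [h, h']

/-- `Q ∩ R` -/
def QR : Subgroup (U T) where
  carrier := {g | g.t = 0 ∧ g.v2 = 0 ∧ g.d = 0}
  one_mem' := ⟨rfl, rfl, rfl⟩
  mul_mem' := fun {g k} ⟨h, h', h''⟩ ⟨e, e', e''⟩ => by simp [h, e, h', e', h'', e'']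
  inv_mem' := fun {g} ⟨h, h', h''⟩ => by simp [h, h', h'']

/-- the centre of `R` -/
def V : Subgroup (U T) where
  carrier := {g | g.t = 0 ∧ g.v1 = 0 ∧ g.v2 = 0}
  one_mem' := ⟨rfl, rfl, rfl⟩
  mul_mem' := fun {g k} ⟨h, h', h''⟩ ⟨e, e', e''⟩ => by simp [h, e, h', e', h'', e'']
  inv_mem' := fun {g} ⟨h, h', h''⟩ => by simp [h, h', h'']

/-- the second centre -/
def Z2 : Subgroup (U T) where
  carrier := {g | g.t = 0 ∧ g.v1 = 0 ∧ g.v2 = 0 ∧ g.d = 0}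
  one_mem' := ⟨rfl, rfl, rfl, rfl⟩
  mul_mem' := fun {g k} ⟨h, h1, h2, h3⟩ ⟨e, e1, e2, e3⟩ => by simp [h, e, h1, e1, h2, e2, h3, e3]
  inv_mem' := fun {g} ⟨h, h1, h2, h3⟩ => by simp [h, h1, h2, h3]

/-- the centre -/
def Z : Subgroup (U T) where
  carrier := {g | g.t = 0 ∧ g.v1 = 0 ∧ g.v2 = 0 ∧ g.m = 0 ∧ g.d = 0}
  one_mem' := ⟨rfl, rfl, rfl, rfl, rfl⟩
  mul_mem' := fun {g k} ⟨h, h1, h2, h3, h4⟩ ⟨e, e1, e2, e3, e4⟩ => by
    simp [h, e, h1, e1, h2, e2, h3, e3, h4, e4]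
  inv_mem' := fun {g} ⟨h, h1, h2, h3, h4⟩ => by simp [h, h1, h2, h3, h4]

/-- `Z₁(t) = C_{Z₂}(x(t))` -/
def Z1 (t : K) : Subgroup (U T) where
  carrier := {g | g ∈ Z2 T ∧ T.σ t * g.m = t * T.σ g.m}
  one_mem' := ⟨one_mem _, by simp⟩
  mul_mem' := fun {g k} ⟨h, h1⟩ ⟨e, e1⟩ => ⟨mul_mem h e, by
    simp only [U.mul_m, h.1, h.2.1, map_add, map_sub, map_mul, map_zero]; linear_combination h1 + e1⟩
  inv_mem' := fun {g} ⟨h, h1⟩ => ⟨inv_mem h, by
    simp only [U.inv_m, h.1, h.2.1, map_add, map_sub, map_mul, map_zero, map_neg]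
    linear_combination -h1⟩

variable {T}
variable {g k : U T}

theorem mem_R : g ∈ R T ↔ g.t = 0 := Iff.rfl
theorem mem_QV : g ∈ QV T ↔ g.v2 = 0 := Iff.rfl
theorem mem_Q : g ∈ Q T ↔ g.v2 = 0 ∧ g.d = 0 := Iff.rfl
theorem mem_Z3 : g ∈ Z3 T ↔ g.t = 0 ∧ g.v2 = 0 := Iff.rfl
theorem mem_QR : g ∈ QR T ↔ g.t = 0 ∧ g.v2 = 0 ∧ g.d = 0 := Iff.rfl
theorem mem_V : g ∈ V T ↔ g.t = 0 ∧ g.v1 = 0 ∧ g.v2 = 0 := Iff.rfl
theorem mem_Z2 : g ∈ Z2 T ↔ g.t = 0 ∧ g.v1 = 0 ∧ g.v2 = 0 ∧ g.d = 0 := Iff.rfl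
theorem mem_Z : g ∈ Z T ↔ g.t = 0 ∧ g.v1 = 0 ∧ g.v2 = 0 ∧ g.m = 0 ∧ g.d = 0 := Iff.rfl
theorem mem_Z1 {t : K} : g ∈ Z1 T t ↔ g ∈ Z2 T ∧ T.σ t * g.m = t * T.σ g.m := Iff.rfl

theorem Z_le_Z1 (t : K) : Z T ≤ Z1 T t := fun _ h => ⟨⟨h.1, h.2.1, h.2.2.1, h.2.2.2.2⟩, by simp [h.2.2.2.1]⟩
theorem Z1_le_Z2 (t : K) : Z1 T t ≤ Z2 T := fun _ h => h.1
theorem Z_le_Z2 : Z T ≤ Z2 T := fun _ h => ⟨h.1, h.2.1, h.2.2.1, h.2.2.2.2⟩
theorem Z2_le_V : Z2 T ≤ V T := fun _ h => ⟨h.1, h.2.1, h.2.2.1⟩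
theorem Z2_le_QR : Z2 T ≤ QR T := fun _ h => ⟨h.1, h.2.2.1, h.2.2.2⟩
theorem V_le_Z3 : V T ≤ Z3 T := fun _ h => ⟨h.1, h.2.2⟩
theorem QR_le_Z3 : QR T ≤ Z3 T := fun _ h => ⟨h.1, h.2.1⟩
theorem QR_le_Q : QR T ≤ Q T := fun _ h => h.2
theorem Z3_le_R : Z3 T ≤ R T := fun _ h => h.1
theorem Z3_le_QV : Z3 T ≤ QV T := fun _ h => h.2
theorem Q_le_QV : Q T ≤ QV T := fun _ h => h.1

/-! ### Commutators -/

variable (g k)

@[simp] theorem cm_t : ⁅g, k⁆.t = 0 := by u5s; ring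
@[simp] theorem cm_v2 : ⁅g, k⁆.v2 = 0 := by u5s; ring
theorem cm_v1 : ⁅g, k⁆.v1 = g.t * k.v2 - k.t * g.v2 := by u5s; ring
theorem cm_d : ⁅g, k⁆.d = k.v2 * T.σ g.v2 - g.v2 * T.σ k.v2 := by u5s; ring
theorem cm_m : ⁅g, k⁆.m = g.t * k.d - k.t * g.d + k.v1 * T.σ g.v2 - g.v1 * T.σ k.v2
    + (g.t * k.v2 - k.t * g.v2) * (T.σ g.v2 + T.σ k.v2) := by u5s; ring

theorem cm_Z3 : ⁅g, k⁆ ∈ Z3 T := ⟨cm_t g k, cm_v2 g k⟩

variable {g k}

/-- the commutator of `g` with an element of `Z₃` -/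
theorem cm_m3 (hk : k ∈ Z3 T) : ⁅g, k⁆.m = g.t * k.d + k.v1 * T.σ g.v2 := by
  rw [cm_m, hk.1, hk.2]; simp

theorem cm_Z2 (hk : k ∈ Z3 T) : ⁅g, k⁆ ∈ Z2 T :=
  ⟨cm_t g k, by simp [cm_v1, hk.1, hk.2], cm_v2 g k, by simp [cm_d, hk.2]⟩

theorem cm_Z2' (hg : g ∈ Z3 T) : ⁅g, k⁆ ∈ Z2 T := by
  rw [← commutatorElement_inv]; exact inv_mem (cm_Z2 hg)

theorem cm_a2 (hk : k ∈ Z2 T) : ⁅g, k⁆.a = T.σ g.t * k.m - g.t * T.σ k.m := by
  u5s; simp only [hk.1, hk.2.1, hk.2.2.1, hk.2.2.2, map_zero]; ring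

theorem cm_Z (hk : k ∈ Z2 T) : ⁅g, k⁆ ∈ Z T :=
  have h := cm_Z2 (g := g) (V_le_Z3 (Z2_le_V hk))
  ⟨h.1, h.2.1, h.2.2.1, by simp [cm_m3 (V_le_Z3 (Z2_le_V hk)), hk.2.1, hk.2.2.2], h.2.2.2⟩

theorem cm_Z' (hg : g ∈ Z2 T) : ⁅g, k⁆ ∈ Z T := by
  rw [← commutatorElement_inv]; exact inv_mem (cm_Z hg)

theorem eq_one_of_Z (h : g ∈ Z T) (e : g.a = 0) : g = 1 :=
  U.ext h.1 h.2.1 h.2.2.1 e h.2.2.2.1 h.2.2.2.2

theorem comm_Z (hg : g ∈ Z T) (k : U T) : g * k = k * g := by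
  ext <;> u5s <;> simp only [hg.1, hg.2.1, hg.2.2.1, hg.2.2.2.1, hg.2.2.2.2, map_zero] <;> ring

/-- commutators in `R` -/
theorem cm_RR (hg : g ∈ R T) (hk : k ∈ R T) : ⁅g, k⁆ ∈ V T ∧
    ⁅g, k⁆.a = k.v1 * T.σ g.v1 - g.v1 * T.σ k.v1 ∧ ⁅g, k⁆.m = k.v1 * T.σ g.v2 - g.v1 * T.σ k.v2 := by
  have h : g.t = 0 := hg
  have e : k.t = 0 := hk
  refine ⟨⟨cm_t g k, by simp [cm_v1, h, e], cm_v2 g k⟩, ?_, by simp [cm_m, h, e]⟩
  u5s; simp only [h, e, map_zero]; ring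

theorem comm_VR (hg : g ∈ V T) (hk : k ∈ R T) : g * k = k * g := by
  have e : k.t = 0 := hk
  ext <;> u5s <;> simp only [hg.1, hg.2.1, hg.2.2, e, map_zero] <;> ring

/-- commutators with `V` -/
theorem cm_V (hk : k ∈ V T) : ⁅g, k⁆.m = g.t * k.d ∧
    ⁅g, k⁆.a = T.σ g.t * k.m - g.t * T.σ k.m + g.t * T.σ g.t * k.d := by
  refine ⟨by simp [cm_m3 (V_le_Z3 hk), hk.2.1], ?_⟩
  u5s; simp only [hk.1, hk.2.1, hk.2.2, map_zero]; ring

/-- commutators in `Q V` -/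
theorem cm_QV (hg : g ∈ QV T) (hk : k ∈ QV T) : ⁅g, k⁆ ∈ Z2 T ∧ ⁅g, k⁆.m = g.t * k.d - k.t * g.d := by
  have h : g.v2 = 0 := hg
  have e : k.v2 = 0 := hk
  exact ⟨⟨cm_t g k, by simp [cm_v1, h, e], cm_v2 g k, by simp [cm_d, h, e]⟩, by simp [cm_m, h, e]⟩

/-- commutators of `Q V` with `Q ∩ R` -/
theorem cm_QVR (hg : g ∈ QV T) (hk : k ∈ QR T) : ⁅g, k⁆ ∈ Z T ∧
    ⁅g, k⁆.a = T.σ g.t * k.m - g.t * T.σ k.m + k.v1 * T.σ g.v1 - g.v1 * T.σ k.v1 := by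
  have h : g.v2 = 0 := hg
  have e := cm_QV hg (Z3_le_QV (QR_le_Z3 hk))
  refine ⟨⟨e.1.1, e.1.2.1, e.1.2.2.1, by simp [e.2, hk.1, hk.2.2], e.1.2.2.2⟩, ?_⟩
  u5s; simp only [h, hk.1, hk.2.1, hk.2.2, map_zero]; ring

/-- commutators in `Q` -/
theorem cm_QQ (hg : g ∈ Q T) (hk : k ∈ Q T) : ⁅g, k⁆ ∈ Z T ∧
    ⁅g, k⁆.a = (k.v1 * T.σ g.v1 + k.t * T.σ g.m + k.m * T.σ g.t)
      - (g.v1 * T.σ k.v1 + g.t * T.σ k.m + g.m * T.σ k.t) := by
  have e := cm_QV (Q_le_QV hg) (Q_le_QV hk)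
  refine ⟨⟨e.1.1, e.1.2.1, e.1.2.2.1, by simp [e.2, hg.2, hk.2], e.1.2.2.2⟩, ?_⟩
  u5s; simp only [hg.1, hg.2, hk.1, hk.2, map_zero]; ring

theorem cm_Z3Z3 (hg : g ∈ Z3 T) (hk : k ∈ Z3 T) : ⁅g, k⁆ ∈ Z T :=
  have h := cm_Z2 (g := g) hk
  ⟨h.1, h.2.1, h.2.2.1, by simp [cm_m3 hk, hg.1, hg.2], h.2.2.2⟩

theorem cR : centralizer (Z2 T : Set (U T)) = R T := by
  refine le_antisymm (fun g hg => ?_) fun g hg k hk => comm_VR (Z2_le_V hk) hg
  refine (T.σ_eq_zero.1 (T.eq_zero_of_skew fun w => ?_) :)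
  have hw : xm T w ∈ Z2 T := ⟨rfl, rfl, rfl, rfl⟩
  have := cm_a2 (g := g) hw
  rw [commutatorElement_eq_one_iff_mul_comm.2 (hg _ hw).symm] at this
  simp only [U.one_a, xm_m] at this
  rw [T.inv]; linear_combination -this

theorem cV : centralizer (V T : Set (U T)) = R T :=
  le_antisymm ((centralizer_le Z2_le_V).trans cR.le) fun _ hg _ hk => comm_VR hk hg

instance nR : (R T).Normal := ⟨fun g hg k => by
  have h : g.t = 0 := hg
  simp [mem_R, h]⟩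

instance nQV : (QV T).Normal := ⟨fun g hg k => by
  have h : g.v2 = 0 := hg
  simp [mem_QV, h]⟩

instance nQ : (Q T).Normal := ⟨fun g hg k => by
  constructor <;> u5s <;> simp only [hg.1, hg.2, map_zero] <;> ring⟩

/-- conjugation by an element of `R` on `Q / Z` -/
theorem conj_Q (s : U T) (hg : g ∈ Q T) : (s * g * s⁻¹).t = g.t ∧ (s * g * s⁻¹).v1 = g.v1 - s.v2 * g.t ∧
    (s * g * s⁻¹).m = g.m + T.σ s.v2 * g.v1 + T.σ s.d * g.t := by
  refine ⟨?_, ?_, ?_⟩ <;> u5r [hg.1, hg.2]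

/-- conjugation on `R / V` -/
theorem conj_R (s : U T) (hg : g ∈ R T) : (s * g * s⁻¹).v1 = g.v1 + s.t * g.v2 ∧
    (s * g * s⁻¹).v2 = g.v2 := by
  have h : g.t = 0 := hg
  refine ⟨?_, ?_⟩ <;> u5r [h]

theorem pow_V (hg : g ∈ V T) (n : ℕ) : g ^ n ∈ V T ∧ (g ^ n).a = n * g.a ∧ (g ^ n).m = n * g.m ∧
    (g ^ n).d = n * g.d := by
  induction n with
  | zero => simp
  | succ n ih =>
    obtain ⟨h, h1, h2, h3⟩ := ih
    refine ⟨pow_mem hg _, ?_⟩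
    rw [pow_succ]
    simp only [U.mul_a, U.mul_m, U.mul_d, h.1, h.2.1, h.2.2, h1, h2, h3, hg.2.1, hg.2.2, map_zero]
    push_cast
    refine ⟨by ring, by ring, by ring⟩

theorem pow_V_eq_one (p : ℕ) [CharP K p] (hg : g ∈ V T) : g ^ p = 1 := by
  obtain ⟨h, h1, h2, h3⟩ := pow_V hg p
  ext <;> simp [h.1, h.2.1, h.2.2, h1, h2, h3]

theorem pow_t (g : U T) (n : ℕ) : (g ^ n).t = n * g.t ∧ (g ^ n).v2 = n * g.v2 := by
  induction n with
  | zero => simp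
  | succ n ih => rw [pow_succ, U.mul_t, U.mul_v2, ih.1, ih.2]; push_cast; exact ⟨by ring, by ring⟩

theorem pow_v1 (hg : g ∈ R T) (n : ℕ) : (g ^ n).v1 = n * g.v1 := by
  induction n with
  | zero => simp
  | succ n ih => rw [pow_succ, U.mul_v1, ih, show (g ^ n).t = 0 from pow_mem hg n]; push_cast; ring

theorem isPGroup_U (p : ℕ) [CharP K p] : IsPGroup p (U T) := fun g => by
  have h1 : g ^ p ∈ Z3 T := ⟨by simp [(pow_t g p).1], by simp [(pow_t g p).2]⟩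
  have h2 : (g ^ p) ^ p ∈ V T :=
    ⟨(pow_mem h1 p).1, by simp [pow_v1 (Z3_le_R h1) p], (pow_mem h1 p).2⟩
  exact ⟨3, by rw [show p ^ 3 = p * p * p by ring, pow_mul, pow_mul]; exact pow_V_eq_one p h2⟩

/-! ### Automorphisms -/

variable (T)

/-- The diagonal matrix `diag(a, b)`. -/
def tmap (a b : Kˣ) (g : U T) : U T :=
  ⟨a * (b : K)⁻¹ * g.t, a * g.v1, b * g.v2, a * T.σ a * g.a, a * T.σ b * g.m, b * T.σ b * g.d,
    by simp only [map_mul, T.inv, U.σ_a]; ring, by simp only [map_mul, T.inv, U.σ_d]; ring⟩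

/-- Diagonal automorphisms. -/
def tor : Kˣ × Kˣ →* MulAut (U T) := MonoidHom.mk' (fun c =>
    { toFun := tmap T c.1 c.2
      invFun := tmap T c.1⁻¹ c.2⁻¹
      left_inv := fun g => by
        have := T.σ_ne_zero c.1.ne_zero
        have := T.σ_ne_zero c.2.ne_zero
        ext <;> simp [tmap] <;> field_simp
      right_inv := fun g => by
        have := T.σ_ne_zero c.1.ne_zero
        have := T.σ_ne_zero c.2.ne_zero
        ext <;> simp [tmap] <;> field_simp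
      map_mul' := fun g k => by
        have := T.σ_ne_zero c.1.ne_zero
        have := T.σ_ne_zero c.2.ne_zero
        ext <;> simp only [tmap, U.mul_t, U.mul_v1, U.mul_v2, U.mul_a, U.mul_m, U.mul_d, map_mul,
          map_inv₀, T.inv] <;> field_simp })
  fun c e => MulEquiv.ext fun g => by
    ext <;> simp [tmap] <;> ring

section
variable (c : Kˣ × Kˣ) (g : U T)
@[simp] theorem tor_t : (tor T c g).t = c.1 * (c.2 : K)⁻¹ * g.t := rfl
@[simp] theorem tor_v1 : (tor T c g).v1 = c.1 * g.v1 := rfl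
@[simp] theorem tor_v2 : (tor T c g).v2 = c.2 * g.v2 := rfl
@[simp] theorem tor_a : (tor T c g).a = c.1 * T.σ c.1 * g.a := rfl
@[simp] theorem tor_m : (tor T c g).m = c.1 * T.σ c.2 * g.m := rfl
@[simp] theorem tor_d : (tor T c g).d = c.2 * T.σ c.2 * g.d := rfl
end

/-- A field automorphism applied to the coordinates. -/
def fmap (φ : RingAut K) (g : U T) : U T :=
  ⟨φ g.t, φ g.v1, φ g.v2, φ g.a, φ g.m, φ g.d,
    by rw [← T.com, ← T.com, ← map_mul, ← map_add, ← map_add, g.ha, map_zero],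
    by rw [← T.com, ← T.com, ← map_mul, ← map_add, ← map_add, g.hd, map_zero]⟩

/-- Field automorphisms. -/
def fld : RingAut K →* MulAut (U T) where
  toFun φ :=
    { toFun := fmap T φ
      invFun := fmap T φ⁻¹
      left_inv := fun g => by ext <;> exact φ.symm_apply_apply _
      right_inv := fun g => by ext <;> exact φ.apply_symm_apply _
      map_mul' := fun g k => by
        ext <;> simp only [fmap, U.mul_t, U.mul_v1, U.mul_v2, U.mul_a, U.mul_m, U.mul_d, map_add,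
          map_sub, map_mul, T.com] }
  map_one' := MulEquiv.ext fun _ => rfl
  map_mul' _ _ := MulEquiv.ext fun _ => rfl

section
variable (φ : RingAut K) (g : U T)
@[simp] theorem fld_t : (fld T φ g).t = φ g.t := rfl
@[simp] theorem fld_v1 : (fld T φ g).v1 = φ g.v1 := rfl
@[simp] theorem fld_v2 : (fld T φ g).v2 = φ g.v2 := rfl
@[simp] theorem fld_a : (fld T φ g).a = φ g.a := rfl
@[simp] theorem fld_m : (fld T φ g).m = φ g.m := rfl
@[simp] theorem fld_d : (fld T φ g).d = φ g.d := rfl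
end

/-- `σ` on units -/
def su (c : Kˣ) : Kˣ := Units.map (T.σ : K →* K) c

@[simp] theorem coe_su (c : Kˣ) : (su T c : K) = T.σ c := rfl

/-- the torus of the factor `SU₃` -/
def eta (l : Kˣ) : Kˣ × Kˣ := (l * (su T l)⁻¹, l * l * (su T l)⁻¹)

variable {T}

/-- The reflection normalizing `Q`. -/
def wQ (g : U T) : U T :=
  ⟨g.m, -g.v1, 0, g.a + g.t * T.σ g.m - g.m * T.σ g.t, g.t, 0,
    by simp only [map_add, map_sub, map_mul, map_neg, T.inv, U.σ_a]; ring, by simp⟩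

/-- The reflection normalizing `R`. -/
def wR (g : U T) : U T :=
  ⟨0, g.v2, -g.v1, g.d, T.σ g.m + g.v2 * T.σ g.v1, g.a, g.hd,
    by simp only [map_neg, U.σ_a]; ring⟩

theorem wQ_mem (g : U T) : wQ g ∈ Q T := ⟨rfl, rfl⟩
theorem wR_mem (g : U T) : wR g ∈ R T := rfl

theorem wQ_mul (_hg : g ∈ Q T) (hk : k ∈ Q T) : wQ (g * k) = wQ g * wQ k := by
  ext <;> u5r [wQ, hk.1, hk.2]

theorem wQ_wQ (hg : g ∈ Q T) : wQ (wQ g) = g := by
  ext <;> simp [wQ, hg.1, hg.2]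

theorem wR_mul (hg : g ∈ R T) (hk : k ∈ R T) : wR (g * k) = wR g * wR k := by
  have h : g.t = 0 := hg
  have e : k.t = 0 := hk
  ext <;> u5r [wR, h, e]

theorem wR_wR (hg : g ∈ R T) : wR (wR g) = tor T (-1, -1) g := by
  have h : g.t = 0 := hg
  ext <;> simp [wR, h, mul_comm]

end Cfsg.Agent.H97.U5
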