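import Mathlib
import Cfsg.Agent.H97.XSBase
import Cfsg.Agent.S5264

/-!
# S5177 from its pieces
-/

set_option autoImplicit false
set_option linter.unusedSectionVars false

namespace Cfsg.Agent.H97.XS

open Cfsg Cfsg.FusionSystem Cfsg.Agent.H97 Cfsg.Agent.H98 Cfsg.Agent.H96 Cfsg.Agent.H5 Subgroup
open scoped commutatorElement

universe u

theorem exists_sylow_of_card {G : Type*} [Group G] {p : ℕ} [hp : Fact p.Prime] {H : Subgroup G}
    (hH : Nat.card H = p ^ 6) (hG : (Nat.card G).factorization p = 6) : ∃ P : Sylow p G, (P : Subgroup G) = H := by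
  have : Finite G := Nat.finite_of_card_ne_zero fun e => by simp [e] at hG
  exact ⟨Sylow.ofCard H (by rw [hH, hG]), rfl⟩

theorem exists_xq {Ω : Type u} [Group Ω] {S : Subgroup Ω} [Finite S] (p : ℕ) [hp' : Fact p.Prime] (hp : Odd p)
    (hS : IsPGroup p S) (Q : Subgroup Ω) (hQS : Q ≤ S) (hQ : Cfsg.IsExtraspecial p ↥Q)
    (hQi : (Q.subgroupOf S).index = p) (F : Cfsg.FusionSystem S) (hF : F.IsSaturated p) (hO : F.core = ⊥) :
    ∃ z, XQ p S Q z := by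
  have := finite_of_le hQS
  have hZ : centralizerIn S S = centralizerIn Q Q := S5178.result p hp hS Q hQS hQ hQi F hF hO
  have hQ' : ⁅Q, Q⁆ = centralizerIn Q Q := by
    rw [← Subgroup.map_subtype_commutator, hQ.1.2.2, map_center_eq]
  have hΦ : Phi Q = centralizerIn Q Q := by rw [Phi, hQ.1.2.1, map_center_eq]
  have hc : Nat.card (centralizerIn Q Q) = p := by rw [card_center_eq, hQ.2]
  obtain ⟨z, hz, hz1⟩ : ∃ z ∈ centralizerIn Q Q, z ≠ 1 := by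
    by_contra! hn
    rw [(Subgroup.eq_bot_iff_forall _).2 hn, Subgroup.card_bot] at hc
    exact hp'.out.one_lt.ne hc
  have e := zpowers_eq_of_card_eq hc hz hz1
  refine ⟨z, fun e => by subst e; exact absurd hp (by decide), hS, hQS, hQi, hz.1, hz1, pow_eq_one_of_card_eq hc hz,
    fun g hg => ((mem_centralizerIn_comm.1 (hZ.ge hz)).2 g hg).symm, fun x hx y hy => ?_, fun x hx => ?_,
    fun x hx h => ?_, fun x hx h => ?_⟩
  · rw [e, ← hQ']; exact Subgroup.commutator_mem_commutator hx hy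
  · rw [e, ← hΦ]; exact pow_mem_Phi (hS.to_le hQS) hx
  · rw [e]; exact mem_centralizerIn_comm.2 ⟨hx, fun y hy => (h y hy).symm.eq⟩
  · rw [e, ← hZ]; exact mem_centralizerIn_comm.2 ⟨hx, fun y hy => (h y hy).symm.eq⟩

theorem main (n22 : N22Stmt.{u}) (ng2 : NG2Stmt.{u}) (i22 : I22Stmt.{u}) (ig2 : IG2Stmt.{u}) (msl : MSLStmt)
    (msu : MSUStmt) (mg2 : MG2Stmt) (c1 : C1Stmt.{u}) (c2a : C2aStmt.{u}) (c2b : C2bStmt.{u}) (c2c : C2cStmt.{u})
    (pearl : PearlStmt.{u})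
    {Ω : Type u} [Group Ω] {S : Subgroup Ω} [Finite S] (p : ℕ) [Fact p.Prime] (hp : Odd p) (hS : IsPGroup p S)
    (Q : Subgroup Ω) (hQS : Q ≤ S) (hQ : Cfsg.IsExtraspecial p ↥Q) (hQi : (Q.subgroupOf S).index = p)
    (h6 : p ^ 6 ≤ Nat.card S)
    (F : Cfsg.FusionSystem S) (hF : F.IsSaturated p) (hO : F.core = ⊥) [Group.IsNilpotent ↥S] :
    (∃ P : Sylow p (Matrix.SpecialLinearGroup (Fin 4) (ZMod p)),
        Nonempty (↥S ≃* ↥(P : Subgroup (Matrix.SpecialLinearGroup (Fin 4) (ZMod p))))) ∨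
      (∃ (K : Type) (_ : Field K) (_ : Fintype K), Fintype.card K = p ^ 2 ∧
        ∃ P : Sylow p ↥(Cfsg.SU 4 K p), Nonempty (↥S ≃* ↥(P : Subgroup ↥(Cfsg.SU 4 K p)))) ∨
      (5 ≤ p ∧ ∃ P : Sylow p ↥(Cfsg.Lie.G2 (ZMod p)), Nonempty (↥S ≃* ↥(P : Subgroup ↥(Cfsg.Lie.G2 (ZMod p))))) ∨
      (11 ≤ p ∧ Nat.card S = p ^ (p - 1) ∧ (∀ x : ↥S, x ^ p = 1) ∧ Group.nilpotencyClass ↥S = p - 2) := by
  obtain ⟨z, hz⟩ := exists_xq p hp hS Q hQS hQ hQi F hF hO
  obtain ⟨E, h⟩ := exists_loc hz hF h6 hO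
  have g2 : 5 ≤ p → ∀ e, TG2 p S Q z e → ∃ P : Sylow p ↥(Cfsg.Lie.G2 (ZMod p)),
      Nonempty (↥S ≃* ↥(P : Subgroup ↥(Cfsg.Lie.G2 (ZMod p)))) := fun h5 e he => by
    obtain ⟨⟨m, v', e', hr'⟩, hc⟩ := mg2 h5
    obtain ⟨v, hr, rfl⟩ := ng2 he m
    obtain ⟨h1, h2⟩ := ig2 hz.odd hr hr'
    obtain ⟨P, hP⟩ := exists_sylow_of_card h1 hc
    exact ⟨P, hP ▸ h2⟩
  by_cases ho : Out2 F Q E z
  · obtain ⟨hc, he, h2 | h2⟩ := c2a h ho
    · rcases pearl h h2 with ⟨rfl, e, he⟩ | h3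
      · exact Or.inr (Or.inr (Or.inl ⟨by norm_num, g2 (by norm_num) e he⟩))
      · exact Or.inr (Or.inr (Or.inr h3))
    · obtain ⟨c6, c4, hn, hb⟩ := c2b h ho hc he h2
      have hexp := c2c h ho hc he c6 c4 hn hb
      obtain ⟨γ, hγ, hm⟩ := h.mov
      have heE := ext_mem γ h.zE
      have heQ : ext γ z ∉ Q := fun e => hm (ho γ hγ e)
      have han : ∀ y ∈ Q, ⁅y, ext γ z⁆ ∈ zpowers z → y ∈ E := fun y hy e =>
        (hb γ hγ hm).1 y hy (hz.comm_z_right e (hQS hy))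
      have := finite_of_le hQS
      have := finite_of_le h.ES
      have hiH : (E ⊓ Q).relIndex Q = p ^ 2 := by
        have e1 := card_mul_relIndex' (inf_le_left : E ⊓ Q ≤ E)
        have e2 := card_mul_relIndex' (inf_le_right : E ⊓ Q ≤ Q)
        have e3 := hz.card_Q
        rw [h.idxH, c4, pow_succ] at e1
        rw [c6, ← e2, Nat.eq_of_mul_eq_mul_right (Fact.out : p.Prime).pos e1,
          show p ^ 6 = p ^ 3 * p ^ 2 * p by ring] at e3
        exact Nat.eq_of_mul_eq_mul_left (pow_pos (Fact.out : p.Prime).pos 3)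
          (Nat.eq_of_mul_eq_mul_right (Fact.out : p.Prime).pos e3)
      have hT : T22 p S Q z (ext γ z) := by
        refine ⟨⟨hz, c6, hexp, h.ES heE, heQ, h.ext_pow γ⟩, fun x hx =>
          commutatorElement_eq_one_iff_commute.2 (hc _ (hn x (hQS hx) _ heE).1 _ heE), ?_⟩
        obtain ⟨x, hx, hxE⟩ := SetLike.not_le_iff_exists.1 (S5264.not_le_of_relIndex hiH)
        have := finite_of_le (inf_le_right : E ⊓ Q ≤ Q)
        have hxn : x ∈ normalizer ((E ⊓ Q : Subgroup Ω) : Set Ω) := mem_normalizer_of_conj_mem fun y hy => by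
          have := Subgroup.mul_mem _ (hn x (hQS hx) y hy.1) hy
          rwa [commutatorElement_def, inv_mul_cancel_right] at this
        have hle : E ⊓ Q ⊔ zpowers x ≤ Q := sup_le inf_le_right (zpowers_le.2 hx)
        obtain ⟨y, hy, hyE⟩ := SetLike.not_le_iff_exists.1 (show ¬ Q ≤ E ⊓ Q ⊔ zpowers x from fun e => by
          have := relIndex_sup_zpowers_dvd hxn (le_inf h.zleE hz.zle (hz.pow x hx))
          rw [le_antisymm hle e, hiH] at this
          exact S5264.not_sq_dvd this)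
        refine ⟨x, hx, y, hy, fun e => hxE ⟨han x hx e, hx⟩, fun e => hyE ?_⟩
        have hxe := hz.comm_mem hx (h.ES heE)
        obtain ⟨a, ha, k, e'⟩ := (mem_sup_zpowers_iff_nat (le_normalizer_of_comm (fun g hg w hw =>
          (hz.zcomm hw hg).symm.eq) (hQS hxe)) (isOfFinOrder_of_mem hxe)).1 e
        have h3 : ∀ k : ℕ, (⁅x, ext γ z⁆ ^ k)⁻¹ * ⁅x ^ k, ext γ z⁆ ∈ zpowers z := fun k => by
          induction k with
          | zero => simp
          | succ k ih =>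
            have hxk := Q.pow_mem hx k
            have hke := hz.comm_mem hxk (h.ES heE)
            rw [pow_succ x, hz.comm_mul_S hxk hx (h.ES heE), pow_succ, mul_inv_rev, ← mul_assoc,
              show ⁅x, ext γ z⁆⁻¹ * (⁅x, ext γ z⁆ ^ k)⁻¹ * (⁅x ^ k, ext γ z⁆ * ⁅x, ext γ z⁆) =
                ⁅x, ext γ z⁆⁻¹ * ((⁅x, ext γ z⁆ ^ k)⁻¹ * ⁅x ^ k, ext γ z⁆ * ⁅x, ext γ z⁆) by group,
              (hz.zcomm ih (hQS hxe)).eq, inv_mul_cancel_left]
            exact Subgroup.mul_mem _ ih (Subgroup.mul_mem _ (hz.comm _ hxk _ hxe) (hz.comm _ hxe _ hke))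
        have hxk := Q.pow_mem hx k
        have hu := Q.mul_mem (Q.inv_mem hxk) hy
        have h4 : (x ^ k)⁻¹ * y ∈ E := han _ hu (by
          have e2 := hz.comm_mul_S hxk hu (h.ES heE)
          have hke := hz.comm_mem hxk (h.ES heE)
          have hue := hz.comm_mem hu (h.ES heE)
          have h5 := Subgroup.mul_mem _ (hz.comm _ hxk _ hue) (hz.comm _ hue _ hke)
          rw [mul_inv_cancel_left, e', (hz.zcomm ha (hQS (Q.pow_mem hxe k))).eq] at e2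
          generalize ⁅x ^ k, ⁅(x ^ k)⁻¹ * y, ext γ z⁆⁆ * ⁅⁅(x ^ k)⁻¹ * y, ext γ z⁆, ⁅x ^ k, ext γ z⁆⁆ = c at e2 h5
          have := Subgroup.mul_mem _ (Subgroup.mul_mem _ (Subgroup.inv_mem _ (h3 k)) ha) (Subgroup.inv_mem _ h5)
          rwa [show ((⁅x, ext γ z⁆ ^ k)⁻¹ * ⁅x ^ k, ext γ z⁆)⁻¹ * a * c⁻¹ =
            ⁅x ^ k, ext γ z⁆⁻¹ * (⁅x, ext γ z⁆ ^ k * a) * c⁻¹ by group, e2,
            show ∀ s t c : Ω, s⁻¹ * (s * t * c) * c⁻¹ = t from fun s t c => by group] at this)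
        have := Subgroup.mul_mem (E ⊓ Q ⊔ zpowers x) (mem_sup_right (Subgroup.pow_mem _ (mem_zpowers x) k))
          (mem_sup_left ⟨h4, hu⟩)
        rwa [mul_inv_cancel_left] at this
      obtain ⟨K, _, _, hK, ⟨r, y₁', y₂', e', hr0, hr'⟩, hcard⟩ := msu hz.odd
      obtain ⟨y₁, y₂, hr, hcl⟩ := n22 hT r hr'.r0 ⟨fun e => (hr0 e).elim, by
        rintro ⟨c, hc', h1, h2⟩
        refine (h1 ?_).elim
        rw [commutatorElement_eq_one_iff_commute.2 (hc c ((hb γ hγ hm).1 c hc' h2) _ heE)]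
        exact Subgroup.one_mem _⟩
      obtain ⟨h1, h2⟩ := i22 hz.odd hr hr'
      obtain ⟨P, hP⟩ := exists_sylow_of_card h1 hcard
      exact Or.inr (Or.inl ⟨K, _, _, hK, P, hP ▸ hcl ▸ h2⟩)
  · rcases c1 h ho with ⟨e, he, hi⟩ | ⟨h5, e, he⟩
    · obtain ⟨⟨y₁', y₂', e', hr'⟩, hcard⟩ := msl hz.odd
      obtain ⟨y₁, y₂, hr, hcl⟩ := n22 he (-1) hr'.r0 ⟨fun _ => hi, fun _ => by simp⟩
      obtain ⟨h1, h2⟩ := i22 hz.odd hr hr'
      obtain ⟨P, hP⟩ := exists_sylow_of_card h1 hcard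
      exact Or.inl ⟨P, hP ▸ hcl ▸ h2⟩
    · exact Or.inr (Or.inr (Or.inl ⟨h5, g2 h5 e he⟩))

end Cfsg.Agent.H97.XS
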